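import Mathlib
import Groth.Agent.TorLib.Basic
import Groth.Agent.DiagRedLib.Chi
import Groth.Agent.HSLib.Dim
import Groth.Agent.HSLib.ProjMult
import Groth.Agent.S6315
import Groth.Agent.S0563
import Groth.Agent.S14414
import Groth.Prelude.Def_IntMult

/-! Additivity of the Euler characteristic of `Tor`. -/

set_option autoImplicit false
set_option linter.style.haveILetI false
set_option backward.isDefEq.respectTransparency false

universe u

open CategoryTheory CategoryTheory.Limits MonoidalCategory IsLocalRing Groth.Agent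
attribute [local instance] HasDerivedCategory.standard

noncomputable section

namespace Groth.Agent.ChiCycLib

variable {A : Type u} [CommRing A]

/-- The truncated length as an integer. -/
def lz (A : Type u) [CommRing A] (M : Type u) [AddCommGroup M] [Module A M] : ℤ := ((Module.length A M).toNat : ℤ)

theorem lz_eq_ker_range {M N : Type u} [AddCommGroup M] [Module A M] [AddCommGroup N] [Module A N]
    (f : M →ₗ[A] N) (h : Module.length A M ≠ ⊤) : lz A M = lz A (LinearMap.ker f) + lz A (LinearMap.range f) := by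
  have he := Module.length_eq_add_of_exact (LinearMap.ker f).subtype f.rangeRestrict (Submodule.injective_subtype _)
    f.surjective_rangeRestrict (LinearMap.exact_iff.2 (by rw [LinearMap.ker_rangeRestrict, Submodule.range_subtype]))
  unfold lz
  rw [he] at h ⊢
  rw [ENat.toNat_add (fun hh => h (by simp [hh])) (fun hh => h (by simp [hh]))]
  push_cast
  rfl

theorem alt_sum (a : ℕ → ℤ) : ∀ N : ℕ,
    ∑ i ∈ Finset.range N, (-1 : ℤ) ^ i * (a i + if i = 0 then 0 else a (i - 1)) =
      if N = 0 then 0 else (-1 : ℤ) ^ (N - 1) * a (N - 1) := by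
  intro N
  induction N with
  | zero => simp
  | succ N ih =>
    rw [Finset.sum_range_succ, ih]
    rcases N with _ | N
    · simp
    · simp only [Nat.add_sub_cancel, Nat.succ_ne_zero, if_false]
      ring

theorem finite_tor [IsNoetherianRing A] (M N : Type u) [AddCommGroup M] [Module A M] [AddCommGroup N] [Module A N]
    [Module.Finite A M] [Module.Finite A N] (i : ℕ) : Module.Finite A (DRing.Tor A i M N) :=
  S6315.result A M N i

theorem support_tor [IsNoetherianRing A] (M N : Type u) [AddCommGroup M] [Module A M] [AddCommGroup N] [Module A N]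
    [Module.Finite A M] [Module.Finite A N] (i : ℕ) {p : PrimeSpectrum A}
    (hp : p ∈ Module.support A (DRing.Tor A i M N)) : p ∈ Module.support A M ∧ p ∈ Module.support A N := by
  haveI := finite_tor (A := A) M N i
  have hann := Module.mem_support_iff_of_finite.1 hp
  refine ⟨Module.mem_support_iff_of_finite.2 fun a ha => hann (Module.mem_annihilator.2 fun z =>
      DiagRedLib.smul_tor_eq_zero N (Module.mem_annihilator.1 ha) i z),
    Module.mem_support_iff_of_finite.2 fun a ha => hann (Module.mem_annihilator.2 fun z => ?_)⟩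
  obtain ⟨e⟩ := TorLib.tor_symm (A := A) i M N
  exact e.injective (by rw [map_smul, DiagRedLib.smul_tor_eq_zero M (Module.mem_annihilator.1 ha) i (e z), map_zero])

theorem length_tor_ne_top [IsNoetherianRing A] (M N : Type u) [AddCommGroup M] [Module A M] [AddCommGroup N]
    [Module A N] [Module.Finite A M] [Module.Finite A N]
    (h : ∀ p ∈ Module.support A M, p ∈ Module.support A N → p.asIdeal.IsMaximal) (i : ℕ) :
    Module.length A (DRing.Tor A i M N) ≠ ⊤ := by
  haveI := finite_tor (A := A) M N i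
  exact HSLib.length_ne_top_of_support fun p hp => h p (support_tor M N i hp).1 (support_tor M N i hp).2

theorem subsingleton_tor [IsRegularLocalRing A] {a : ℕ} (ha : ringKrullDim A = (a : WithBot ℕ∞))
    (M N : Type u) [AddCommGroup M] [Module A M] [AddCommGroup N] [Module A N] (i : ℕ) (hi : a < i) :
    Subsingleton (DRing.Tor A i M N) := by
  haveI : HasProjectiveDimensionLE (ModuleCat.of A N) a := S0563.result A a ha _
  exact ModuleCat.subsingleton_of_isZero (S14414.result A (ModuleCat.of A M) (ModuleCat.of A N) a i (by omega))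

theorem chi_eq_sum [IsRegularLocalRing A] {a : ℕ} (ha : ringKrullDim A = (a : WithBot ℕ∞))
    (M N : Type u) [AddCommGroup M] [Module A M] [AddCommGroup N] [Module A N] :
    IntMult.chi A M N = ∑ i ∈ Finset.range (a + 2), (-1 : ℤ) ^ i * lz A (DRing.Tor A i M N) := by
  rw [IntMult.chi, finsum_eq_sum_of_support_subset _ (s := Finset.range (a + 2)) fun i hi => ?_]
  · rfl
  rw [Finset.coe_range, Set.mem_Iio]
  by_contra hlt
  haveI := subsingleton_tor ha M N i (by omega)
  refine hi ?_
  show (-1 : ℤ) ^ i * ((Module.length A (DRing.Tor A i M N)).toNat : ℤ) = 0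
  rw [Module.length_eq_zero, ENat.toNat_zero, Nat.cast_zero, mul_zero]

/-- `χ(-, N)` is additive. -/
theorem chi_add [IsRegularLocalRing A] {a : ℕ} (ha : ringKrullDim A = (a : WithBot ℕ∞))
    {M₁ M₂ M₃ : Type u} [AddCommGroup M₁] [Module A M₁] [AddCommGroup M₂] [Module A M₂] [AddCommGroup M₃]
    [Module A M₃] [Module.Finite A M₂] (f : M₁ →ₗ[A] M₂) (g : M₂ →ₗ[A] M₃) (hf : Function.Injective f)
    (hg : Function.Surjective g) (hfg : Function.Exact f g) (N : Type u) [AddCommGroup N] [Module A N]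
    [Module.Finite A N] (h : ∀ p ∈ Module.support A M₂, p ∈ Module.support A N → p.asIdeal.IsMaximal) :
    IntMult.chi A M₂ N = IntMult.chi A M₁ N + IntMult.chi A M₃ N := by
  haveI : Module.Finite A M₁ := Module.Finite.of_injective f hf
  haveI : Module.Finite A M₃ := Module.Finite.of_surjective g hg
  let P := projectiveResolution (ModuleCat.of A N)
  let S := ShortComplex.mk (X₁ := ModuleCat.of A M₁) (X₂ := ModuleCat.of A M₂) (X₃ := ModuleCat.of A M₃)
    (ModuleCat.ofHom f) (ModuleCat.ofHom g) (ModuleCat.hom_ext hfg.linearMap_comp_eq_zero)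
  have hS : S.ShortExact := TorLib.shortExact_mk f g hf hg hfg
  let H := TorLib.cxSeq_shortExact P hS
  have hlen : ∀ (X : ModuleCat.{u} A) (i : ℕ),
      Module.length A ((TorLib.cx P X).homology i) = Module.length A (DRing.Tor A i X N) :=
    fun X i => (TorLib.torIso P X i).symm.toLinearEquiv.length_eq
  have hne1 : ∀ i, Module.length A ((TorLib.cx P S.X₁).homology i) ≠ ⊤ := fun i => by
    rw [hlen]
    exact length_tor_ne_top M₁ N (fun p hp => h p (Module.support_subset_of_injective f hf hp)) i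
  have hne2 : ∀ i, Module.length A ((TorLib.cx P S.X₂).homology i) ≠ ⊤ := fun i => by
    rw [hlen]
    exact length_tor_ne_top M₂ N h i
  have hne3 : ∀ i, Module.length A ((TorLib.cx P S.X₃).homology i) ≠ ⊤ := fun i => by
    rw [hlen]
    exact length_tor_ne_top M₃ N (fun p hp => h p (Module.support_subset_of_surjective g hg hp)) i
  let F := fun i => (HomologicalComplex.homologyMap (TorLib.cxSeq P S).f i).hom
  let G := fun i => (HomologicalComplex.homologyMap (TorLib.cxSeq P S).g i).hom
  let D := fun i => (H.δ (i + 1) i (by simp)).hom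
  have e1 : ∀ i, LinearMap.range (D i) = LinearMap.ker (F i) := fun i =>
    (ShortComplex.moduleCat_exact_iff_range_eq_ker _).1 (H.homology_exact₁ (i + 1) i (by simp))
  have e2 : ∀ i, LinearMap.range (F i) = LinearMap.ker (G i) := fun i =>
    (ShortComplex.moduleCat_exact_iff_range_eq_ker _).1 (H.homology_exact₂ i)
  have e3 : ∀ i, LinearMap.range (G (i + 1)) = LinearMap.ker (D i) := fun i =>
    (ShortComplex.moduleCat_exact_iff_range_eq_ker _).1 (H.homology_exact₃ (i + 1) i (by simp))
  have e4 : LinearMap.range (G 0) = ⊤ := by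
    rw [LinearMap.range_eq_top]
    have hn := TorLib.h0Iso_naturality P S.g
    intro y
    obtain ⟨z, hz⟩ : ∃ z, (S.g ▷ ModuleCat.of A N).hom z = (TorLib.h0Iso P S.X₃).hom.hom y :=
      LinearMap.rTensor_surjective (Q := N) hg _
    obtain ⟨w, rfl⟩ : ∃ w, (TorLib.h0Iso P S.X₂).hom.hom w = z := (TorLib.h0Iso P S.X₂).toLinearEquiv.surjective z
    exact ⟨w, (TorLib.h0Iso P S.X₃).toLinearEquiv.injective ((ConcreteCategory.congr_hom hn w).trans hz)⟩
  let α : ℕ → ℤ := fun i => lz A (LinearMap.ker (F i))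
  let β : ℕ → ℤ := fun i => lz A (LinearMap.range (F i))
  let γ : ℕ → ℤ := fun i => lz A (LinearMap.range (G i))
  have h1 : ∀ i, lz A (DRing.Tor A i M₁ N) = α i + β i := fun i => by
    rw [show lz A (DRing.Tor A i M₁ N) = lz A ((TorLib.cx P S.X₁).homology i) from by rw [lz, lz, hlen]]
    exact lz_eq_ker_range (F i) (hne1 i)
  have h2 : ∀ i, lz A (DRing.Tor A i M₂ N) = β i + γ i := fun i => by
    rw [show lz A (DRing.Tor A i M₂ N) = lz A ((TorLib.cx P S.X₂).homology i) from by rw [lz, lz, hlen]]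
    refine (lz_eq_ker_range (G i) (hne2 i)).trans ?_
    show lz A ↥(LinearMap.ker (G i)) + γ i = lz A ↥(LinearMap.range (F i)) + γ i
    rw [show lz A ↥(LinearMap.range (F i)) = lz A ↥(LinearMap.ker (G i)) from by
      rw [lz, lz, (LinearEquiv.ofEq _ _ (e2 i)).length_eq]]
  have h3 : ∀ i, lz A (DRing.Tor A i M₃ N) = γ i + if i = 0 then 0 else α (i - 1) := fun i => by
    rw [show lz A (DRing.Tor A i M₃ N) = lz A ((TorLib.cx P S.X₃).homology i) from by rw [lz, lz, hlen]]
    rcases i with _ | i
    · rw [if_pos rfl, add_zero]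
      show lz A ((TorLib.cx P S.X₃).homology 0) = lz A ↥(LinearMap.range (G 0))
      rw [lz, lz, ((LinearEquiv.ofEq _ _ e4).trans Submodule.topEquiv).length_eq]
    · rw [if_neg (Nat.succ_ne_zero i), Nat.add_sub_cancel]
      refine (lz_eq_ker_range (D i) (hne3 (i + 1))).trans ?_
      show lz A ↥(LinearMap.ker (D i)) + lz A ↥(LinearMap.range (D i)) =
        lz A ↥(LinearMap.range (G (i + 1))) + lz A ↥(LinearMap.ker (F i))
      congr 1
      · rw [lz, lz, (LinearEquiv.ofEq _ _ (e3 i)).length_eq]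
      · rw [lz, lz, (LinearEquiv.ofEq _ _ (e1 i)).length_eq]
  have hα : α (a + 1) = 0 := by
    haveI := subsingleton_tor ha M₁ N (a + 1) (by omega)
    have hz : lz A (DRing.Tor A (a + 1) M₁ N) = 0 := by rw [lz, Module.length_eq_zero]; rfl
    rw [h1] at hz
    have : 0 ≤ α (a + 1) := Int.natCast_nonneg _
    have : 0 ≤ β (a + 1) := Int.natCast_nonneg _
    omega
  rw [chi_eq_sum ha, chi_eq_sum ha, chi_eq_sum ha, ← Finset.sum_add_distrib]
  have hs := alt_sum α (a + 2)
  rw [if_neg (by omega), show a + 2 - 1 = a + 1 by omega, hα, mul_zero] at hs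
  rw [← sub_eq_zero, ← neg_eq_zero, neg_sub, ← Finset.sum_sub_distrib]
  refine Eq.trans (Finset.sum_congr rfl fun i _ => ?_) hs
  rw [h1, h2, h3]
  ring

/-- The length at a prime of a localization. -/
def lp (p : PrimeSpectrum A) (M : Type u) [AddCommGroup M] [Module A M] : ℤ :=
  ((Module.length (Localization.AtPrime p.asIdeal) (LocalizedModule p.asIdeal.primeCompl M)).toNat : ℤ)

theorem lp_quot_self (p : PrimeSpectrum A) : lp p (A ⧸ p.asIdeal) = 1 := by
  rw [lp, HSLib.length_loc_quot_self]
  rfl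

theorem lp_eq_zero (p : PrimeSpectrum A) (M : Type u) [AddCommGroup M] [Module A M] [Module.Finite A M]
    (h : p ∉ Module.support A M) : lp p M = 0 := by
  rw [lp, HSLib.length_loc_eq_zero p.asIdeal M fun hh => h (Module.mem_support_iff_of_finite.2 hh)]
  rfl

/-- Dévissage of an additive function of modules supported in `P`. -/
theorem devissage [IsNoetherianRing A] (P : Set (PrimeSpectrum A)) (T : Finset (PrimeSpectrum A))
    (hmin : ∀ p ∈ T, ∀ q ∈ P, q.asIdeal ≤ p.asIdeal → q = p)
    (ψ : ∀ (M : Type u) [AddCommGroup M] [Module A M], ℤ)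
    (hadd : ∀ (M₁ M₂ M₃ : Type u) [AddCommGroup M₁] [Module A M₁] [AddCommGroup M₂] [Module A M₂] [AddCommGroup M₃]
      [Module A M₃] [Module.Finite A M₂] (f : M₁ →ₗ[A] M₂) (g : M₂ →ₗ[A] M₃), Function.Injective f →
      Function.Surjective g → Function.Exact f g → Module.support A M₂ ⊆ P → ψ M₂ = ψ M₁ + ψ M₃)
    (hψ : ∀ p ∈ P, p ∉ T → ψ (A ⧸ p.asIdeal) = 0)
    (M : Type u) [AddCommGroup M] [Module A M] [Module.Finite A M] (hM : Module.support A M ⊆ P) :
    ψ M = ∑ p ∈ T, lp p M * ψ (A ⧸ p.asIdeal) := by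
  revert hM
  refine IsNoetherianRing.induction_on_isQuotientEquivQuotientPrime A (M := M) ‹_›
    (motive := fun N _ _ _ => Module.support A N ⊆ P → ψ N = ∑ p ∈ T, lp p N * ψ (A ⧸ p.asIdeal)) ?_ ?_ ?_
  · intro N _ _ _ _ hN
    have h0 := hadd N N N LinearMap.id 0 (fun _ _ h => h) (fun y => ⟨0, Subsingleton.elim _ _⟩)
      (fun y => ⟨fun _ => ⟨y, rfl⟩, fun _ => Subsingleton.elim _ _⟩) hN
    rw [show ψ N = 0 by omega, Finset.sum_eq_zero fun p _ => ?_]
    rw [lp_eq_zero p N (by rw [Module.support_eq_empty]; exact Set.notMem_empty p), zero_mul]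
  · intro N _ _ _ p e hN
    have hp : p ∈ P := hN (Module.mem_support_iff_of_finite.2 (by
      rw [LinearEquiv.annihilator_eq e, Ideal.annihilator_quotient]))
    have hZ : ψ PUnit.{u + 1} = 0 := by
      have h0 := hadd PUnit.{u + 1} PUnit.{u + 1} PUnit.{u + 1} LinearMap.id 0 (fun _ _ h => h)
        (fun y => ⟨0, Subsingleton.elim _ _⟩) (fun y => ⟨fun _ => ⟨y, rfl⟩, fun _ => Subsingleton.elim _ _⟩)
        (by rw [Module.support_eq_empty]; exact Set.empty_subset P)
      omega
    have hNe : ψ N = ψ (A ⧸ p.asIdeal) := by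
      have h0 := hadd PUnit.{u + 1} N (A ⧸ p.asIdeal) 0 e.toLinearMap (fun _ _ _ => Subsingleton.elim _ _) e.surjective
        (fun y => ⟨fun hy => ⟨0, by rw [LinearMap.zero_apply]; exact (e.map_eq_zero_iff.1 hy).symm⟩,
          fun ⟨z, hz⟩ => by rw [← hz, LinearMap.zero_apply, map_zero]⟩) hN
      omega
    have hl : ∀ q : PrimeSpectrum A, lp q N = lp q (A ⧸ p.asIdeal) := fun q => by
      rw [lp, lp, HSLib.length_loc_congr q.asIdeal e]
    have hzero : ∀ q ∈ T, q ≠ p → lp q N * ψ (A ⧸ q.asIdeal) = 0 := fun q hq hne => by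
      rw [hl, lp_eq_zero q _ fun hs => hne ?_, zero_mul]
      refine (hmin q hq p hp ?_).symm
      exact Ideal.annihilator_quotient.ge.trans (Module.mem_support_iff_of_finite.1 hs)
    by_cases hpT : p ∈ T
    · rw [Finset.sum_eq_single p hzero (fun h => absurd hpT h), hl, lp_quot_self, one_mul, hNe]
    · rw [hNe, hψ p hp hpT, Finset.sum_eq_zero fun q hq => hzero q hq fun e => hpT (e ▸ hq)]
  · intro N₁ _ _ _ N₂ _ _ _ N₃ _ _ _ f g hf hg hfg h1 h3 hN
    rw [hadd N₁ N₂ N₃ f g hf hg hfg hN, h1 ((Module.support_subset_of_injective f hf).trans hN),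
      h3 ((Module.support_subset_of_surjective g hg).trans hN), ← Finset.sum_add_distrib]
    refine Finset.sum_congr rfl fun p hp => ?_
    have hfin := HSLib.length_localized_ne_top (N := N₂) p fun q hq hle => hmin p hp q (hN hq) hle
    rw [← add_mul]
    congr 1
    rw [lp, lp, lp, HSLib.length_loc_exact p.asIdeal f g hf hg hfg] at *
    rw [ENat.toNat_add (fun hh => hfin (by simp [hh])) (fun hh => hfin (by simp [hh]))]
    push_cast
    rfl

theorem devissage_chi [IsRegularLocalRing A] {a : ℕ} (ha : ringKrullDim A = (a : WithBot ℕ∞))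
    (M N : Type u) [AddCommGroup M] [Module A M] [Module.Finite A M] [AddCommGroup N] [Module A N] [Module.Finite A N]
    (S T : Finset (PrimeSpectrum A)) (hS : ∀ p ∈ S, p ∈ Module.support A M) (hT : ∀ p ∈ T, p ∈ Module.support A N)
    (hSmin : ∀ p ∈ S, ∀ q ∈ Module.support A M, q.asIdeal ≤ p.asIdeal → q = p)
    (hTmin : ∀ p ∈ T, ∀ q ∈ Module.support A N, q.asIdeal ≤ p.asIdeal → q = p)
    (hfin : ∀ p ∈ Module.support A M, p ∈ Module.support A N → p.asIdeal.IsMaximal)
    (hvan : ∀ p ∈ Module.support A M, ∀ q ∈ Module.support A N, (p ∉ S ∨ q ∉ T) →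
      IntMult.chi A (A ⧸ p.asIdeal) (A ⧸ q.asIdeal) = 0) :
    IntMult.chi A M N = ∑ p ∈ S, ∑ q ∈ T, lp p M * lp q N * IntMult.chi A (A ⧸ p.asIdeal) (A ⧸ q.asIdeal) := by
  have hsub : ∀ p ∈ Module.support A M, Module.support A (A ⧸ p.asIdeal) ⊆ Module.support A M := fun p hp q hq =>
    Module.mem_support_mono (Ideal.annihilator_quotient.ge.trans (Module.mem_support_iff_of_finite.1 hq) :
      p.asIdeal ≤ q.asIdeal) hp
  have hq : ∀ p ∈ Module.support A M, IntMult.chi A (A ⧸ p.asIdeal) N =
      ∑ q ∈ T, lp q N * IntMult.chi A (A ⧸ p.asIdeal) (A ⧸ q.asIdeal) := fun p hp => by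
    rw [DiagRedLib.chi_comm]
    rw [devissage (Module.support A N) T hTmin (fun N' _ _ => IntMult.chi A N' (A ⧸ p.asIdeal))
      (fun M₁ M₂ M₃ _ _ _ _ _ _ _ f g hf hg hfg hsupp => chi_add ha f g hf hg hfg _ fun q hq hq' =>
        hfin q (hsub p hp hq') (hsupp hq))
      (fun q hq hqT => (DiagRedLib.chi_comm _ _).trans (hvan p hp q hq (Or.inr hqT))) N Set.Subset.rfl]
    exact Finset.sum_congr rfl fun q _ => by rw [DiagRedLib.chi_comm (A := A) (A ⧸ q.asIdeal)]
  rw [devissage (Module.support A M) S hSmin (fun M' _ _ => IntMult.chi A M' N)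
    (fun M₁ M₂ M₃ _ _ _ _ _ _ _ f g hf hg hfg hsupp => chi_add ha f g hf hg hfg N fun q hq hq' => hfin q (hsupp hq) hq')
    (fun p hp hpS => by
      show IntMult.chi A (A ⧸ p.asIdeal) N = 0
      rw [hq p hp]
      exact Finset.sum_eq_zero fun q hqT => by rw [hvan p hp q (hT q hqT) (Or.inl hpS), mul_zero]) M Set.Subset.rfl]
  refine Finset.sum_congr rfl fun p hp => ?_
  rw [hq p (hS p hp), Finset.mul_sum]
  exact Finset.sum_congr rfl fun q _ => by ring

end Groth.Agent.ChiCycLib
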