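import Mathlib
import Groth.Agent.ChiCycLib.Additive
import Groth.Agent.TorKEulerLib.Main

/-! Alternating sums of additive functions on `Tor` and their commutation with regular sequences. -/

set_option autoImplicit false
set_option linter.style.haveILetI false
set_option linter.unusedSectionVars false
set_option backward.isDefEq.respectTransparency false

universe u

open CategoryTheory CategoryTheory.Limits IsLocalRing Groth.Agent Groth.Agent.KEulerLib

noncomputable section

namespace Groth.Agent.ChiCycLib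

variable {A : Type u} [CommRing A]

/-- Additivity on modules supported in a set. -/
def AddOn (P : Set (PrimeSpectrum A)) (ψ : ∀ (M : Type u) [AddCommGroup M] [Module A M], ℤ) : Prop :=
  ∀ (M₁ M₂ M₃ : Type u) [AddCommGroup M₁] [Module A M₁] [AddCommGroup M₂] [Module A M₂] [AddCommGroup M₃]
    [Module A M₃] [Module.Finite A M₂] (f : M₁ →ₗ[A] M₂) (g : M₂ →ₗ[A] M₃), Function.Injective f →
    Function.Surjective g → Function.Exact f g → Module.support A M₂ ⊆ P → ψ M₂ = ψ M₁ + ψ M₃

namespace AddOn

variable {P Q : Set (PrimeSpectrum A)} {ψ φ : ∀ (M : Type u) [AddCommGroup M] [Module A M], ℤ}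

theorem mono (h : AddOn P ψ) (hQ : Q ⊆ P) : AddOn Q ψ :=
  fun M₁ M₂ M₃ _ _ _ _ _ _ _ f g hf hg hfg hs => h M₁ M₂ M₃ f g hf hg hfg (hs.trans hQ)

theorem sub (h : AddOn P ψ) (h' : AddOn P φ) : AddOn P (fun M _ _ => ψ M - φ M) :=
  fun M₁ M₂ M₃ _ _ _ _ _ _ _ f g hf hg hfg hs => by
    show ψ M₂ - φ M₂ = (ψ M₁ - φ M₁) + (ψ M₃ - φ M₃)
    rw [h M₁ M₂ M₃ f g hf hg hfg hs, h' M₁ M₂ M₃ f g hf hg hfg hs]
    ring

theorem zero (h : AddOn P ψ) (M : Type u) [AddCommGroup M] [Module A M] [Subsingleton M] : ψ M = 0 := by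
  have h0 := h M M M LinearMap.id 0 (fun _ _ h => h) (fun y => ⟨0, Subsingleton.elim _ _⟩)
    (fun y => ⟨fun _ => ⟨y, rfl⟩, fun _ => Subsingleton.elim _ _⟩)
    (by rw [Module.support_eq_empty]; exact Set.empty_subset P)
  omega

theorem congr (h : AddOn P ψ) {M M' : Type u} [AddCommGroup M] [Module A M] [AddCommGroup M'] [Module A M']
    [Module.Finite A M] (e : M ≃ₗ[A] M') (hM : Module.support A M ⊆ P) : ψ M = ψ M' := by
  have h0 := h PUnit.{u + 1} M M' 0 e.toLinearMap (fun _ _ _ => Subsingleton.elim _ _) e.surjective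
    (fun y => ⟨fun hy => ⟨0, by rw [LinearMap.zero_apply]; exact (e.map_eq_zero_iff.1 hy).symm⟩,
      fun ⟨z, hz⟩ => by rw [← hz, LinearMap.zero_apply, map_zero]⟩) hM
  rw [h0, h.zero PUnit.{u + 1}, zero_add]

theorem split (h : AddOn P ψ) {X Y Z : Type u} [AddCommGroup X] [Module A X] [AddCommGroup Y] [Module A Y]
    [AddCommGroup Z] [Module A Z] [Module.Finite A Y] (f : X →ₗ[A] Y) (g : Y →ₗ[A] Z)
    (hY : Module.support A Y ⊆ P) (he : Function.Exact f g) :
    ψ Y = ψ (LinearMap.range f) + ψ (LinearMap.range g) :=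
  h _ Y _ (LinearMap.range f).subtype g.rangeRestrict (Submodule.subtype_injective _)
    g.surjective_rangeRestrict (by
      rw [LinearMap.exact_iff, LinearMap.ker_rangeRestrict, Submodule.range_subtype]
      exact he.linearMap_ker_eq) hY

theorem ker_range (h : AddOn P ψ) {Y Z : Type u} [AddCommGroup Y] [Module A Y] [AddCommGroup Z] [Module A Z]
    [Module.Finite A Y] (g : Y →ₗ[A] Z) (hY : Module.support A Y ⊆ P) :
    ψ Y = ψ (LinearMap.ker g) + ψ (LinearMap.range g) :=
  h _ Y _ (LinearMap.ker g).subtype g.rangeRestrict (Submodule.subtype_injective _) g.surjective_rangeRestrict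
    (by rw [LinearMap.exact_iff, LinearMap.ker_rangeRestrict, Submodule.range_subtype]) hY

theorem eq_of_range_eq (h : AddOn P ψ) {Y : Type u} [AddCommGroup Y] [Module A Y] [IsNoetherianRing A]
    [Module.Finite A Y] (hY : Module.support A Y ⊆ P) {N N' : Submodule A Y} (e : N = N') : ψ N = ψ N' :=
  h.congr (LinearEquiv.ofEq _ _ e) ((Module.support_subset_of_injective _ N.subtype_injective).trans hY)

/-- The kernel and cokernel of a scalar. -/
theorem step [IsNoetherianRing A] (h : AddOn P ψ) (a : A) (hQ : ∀ p ∈ Q, a ∈ p.asIdeal → p ∈ P) :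
    AddOn Q (fun T _ _ => ψ (T ⧸ srange a T) - ψ (sker a T)) := by
  intro N₁ N₂ N₃ _ _ _ _ _ _ _ f g hf hg hfg hs
  haveI := Module.Finite.of_injective f hf
  haveI := Module.Finite.of_surjective g hg
  obtain ⟨F1, F, δ, G, H, i1, e1, e2, e3, e4, s5⟩ := exists_six a f g hf hg hfg
  have hs1 : Module.support A N₁ ⊆ Q := (Module.support_subset_of_injective f hf).trans hs
  have hs3 : Module.support A N₃ ⊆ Q := (Module.support_subset_of_surjective g hg).trans hs
  have hq : ∀ (N : Type u) [AddCommGroup N] [Module A N] [Module.Finite A N], Module.support A N ⊆ Q →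
      Module.support A (N ⧸ srange a N) ⊆ P := fun N _ _ _ hN p hp =>
    hQ p (hN (Module.support_subset_of_surjective _ (Submodule.mkQ_surjective _) hp))
      (mem_of_mem_support_of_smul_eq_zero (smul_quot_srange a) hp)
  have hk : ∀ (N : Type u) [AddCommGroup N] [Module A N] [Module.Finite A N], Module.support A N ⊆ Q →
      Module.support A (sker a N) ⊆ P := fun N _ _ _ hN p hp =>
    hQ p (hN (Module.support_subset_of_injective _ (Submodule.subtype_injective _) hp))
      (mem_of_mem_support_of_smul_eq_zero (smul_sker a) hp)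
  have a1 : ψ (sker a N₁) = ψ (LinearMap.range F1) := h.congr (LinearEquiv.ofInjective F1 i1) (hk N₁ hs1)
  have a2 := h.split F1 F (hk N₂ hs) e1
  have a3 := h.split F δ (hk N₃ hs3) e2
  have a4 := h.split δ G (hq N₁ hs1) e3
  have a5 := h.split G H (hq N₂ hs) e4
  have a6 : ψ (LinearMap.range H) = ψ (N₃ ⧸ srange a N₃) :=
    (h.congr ((LinearEquiv.ofEq _ _ (LinearMap.range_eq_top.mpr s5)).trans Submodule.topEquiv).symm (hq N₃ hs3)).symm
  show ψ (N₂ ⧸ srange a N₂) - ψ (sker a N₂) =
    (ψ (N₁ ⧸ srange a N₁) - ψ (sker a N₁)) + (ψ (N₃ ⧸ srange a N₃) - ψ (sker a N₃))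
  omega

end AddOn

/-- `Tor_i(T, M)`, computed with a fixed resolution of `M`. -/
abbrev TP (A : Type u) [CommRing A] (M : Type u) [AddCommGroup M] [Module A M] (i : ℕ) (T : Type u) [AddCommGroup T] [Module A T] :
    ModuleCat.{u} A :=
  (TorLib.cx (projectiveResolution (ModuleCat.of A M)) (ModuleCat.of A T)).homology i

variable (M : Type u) [AddCommGroup M] [Module A M]

variable (A) in
/-- The comparison with `Tor`. -/
def tpEquiv (i : ℕ) (T : Type u) [AddCommGroup T] [Module A T] : DRing.Tor A i T M ≃ₗ[A] TP A M i T :=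
  (TorLib.torIso (projectiveResolution (ModuleCat.of A M)) (ModuleCat.of A T) i).toLinearEquiv

/-- Functoriality. -/
def tpMap (i : ℕ) {T T' : Type u} [AddCommGroup T] [Module A T] [AddCommGroup T'] [Module A T'] (f : T →ₗ[A] T') :
    TP A M i T →ₗ[A] TP A M i T' :=
  (HomologicalComplex.homologyMap (TorLib.cxMap (projectiveResolution (ModuleCat.of A M)) (ModuleCat.ofHom f)) i).hom

theorem tpMap_smul (i : ℕ) {T : Type u} [AddCommGroup T] [Module A T] (a : A) (x : TP A M i T) :
    tpMap M i (a • (LinearMap.id : T →ₗ[A] T)) x = a • x :=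
  ConcreteCategory.congr_hom
    (TorRegLib.homologyMap_cxMap_smul (projectiveResolution (ModuleCat.of A M)) (ModuleCat.of A T) a i) x

theorem support_TP [IsNoetherianRing A] [Module.Finite A M] (i : ℕ) (T : Type u) [AddCommGroup T] [Module A T]
    [Module.Finite A T] {p : PrimeSpectrum A} (hp : p ∈ Module.support A (TP A M i T)) :
    p ∈ Module.support A T ∧ p ∈ Module.support A M :=
  support_tor T M i (by rwa [(tpEquiv A M i T).support_eq])

theorem finite_TP [IsNoetherianRing A] [Module.Finite A M] (i : ℕ) (T : Type u) [AddCommGroup T] [Module A T]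
    [Module.Finite A T] : Module.Finite A (TP A M i T) :=
  haveI := finite_tor (A := A) T M i
  Module.Finite.equiv (tpEquiv A M i T)

theorem exists_les {T₁ T₂ T₃ : Type u} [AddCommGroup T₁] [Module A T₁] [AddCommGroup T₂] [Module A T₂]
    [AddCommGroup T₃] [Module A T₃] (f : T₁ →ₗ[A] T₂) (g : T₂ →ₗ[A] T₃) (hf : Function.Injective f)
    (hg : Function.Surjective g) (hfg : Function.Exact f g) :
    ∃ D : ∀ i, TP A M (i + 1) T₃ →ₗ[A] TP A M i T₁,
      (∀ i, LinearMap.range (D i) = LinearMap.ker (tpMap M i f)) ∧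
      (∀ i, LinearMap.range (tpMap M i f) = LinearMap.ker (tpMap M i g)) ∧
      (∀ i, LinearMap.range (tpMap M (i + 1) g) = LinearMap.ker (D i)) ∧
      LinearMap.range (tpMap M 0 g) = ⊤ := by
  let P := projectiveResolution (ModuleCat.of A M)
  let S := ShortComplex.mk (X₁ := ModuleCat.of A T₁) (X₂ := ModuleCat.of A T₂) (X₃ := ModuleCat.of A T₃)
    (ModuleCat.ofHom f) (ModuleCat.ofHom g) (ModuleCat.hom_ext hfg.linearMap_comp_eq_zero)
  have hS : S.ShortExact := TorLib.shortExact_mk f g hf hg hfg
  let H := TorLib.cxSeq_shortExact P hS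
  refine ⟨fun i => (H.δ (i + 1) i (by simp)).hom,
    fun i => (ShortComplex.moduleCat_exact_iff_range_eq_ker _).1 (H.homology_exact₁ (i + 1) i (by simp)),
    fun i => (ShortComplex.moduleCat_exact_iff_range_eq_ker _).1 (H.homology_exact₂ i),
    fun i => (ShortComplex.moduleCat_exact_iff_range_eq_ker _).1 (H.homology_exact₃ (i + 1) i (by simp)), ?_⟩
  rw [LinearMap.range_eq_top]
  have hn := TorLib.h0Iso_naturality P S.g
  intro y
  obtain ⟨z, hz⟩ : ∃ z, (MonoidalCategory.whiskerRight S.g (ModuleCat.of A M)).hom z =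
      (TorLib.h0Iso P S.X₃).hom.hom y :=
    LinearMap.rTensor_surjective M hg _
  obtain ⟨w, rfl⟩ : ∃ w, (TorLib.h0Iso P S.X₂).hom.hom w = z := (TorLib.h0Iso P S.X₂).toLinearEquiv.surjective z
  exact ⟨w, (TorLib.h0Iso P S.X₃).toLinearEquiv.injective ((ConcreteCategory.congr_hom hn w).trans hz)⟩

variable [IsRegularLocalRing A] [Module.Finite A M]

theorem subsingleton_TP {b : ℕ} (hb : ringKrullDim A = (b : WithBot ℕ∞)) (i : ℕ) (hi : b < i) (T : Type u)
    [AddCommGroup T] [Module A T] : Subsingleton (TP A M i T) :=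
  haveI := subsingleton_tor hb T M i hi
  (tpEquiv A M i T).symm.toEquiv.subsingleton

/-- The alternating sum of an additive function on `Tor`. -/
def alt (ψ : ∀ (X : Type u) [AddCommGroup X] [Module A X], ℤ) (b : ℕ) (T : Type u) [AddCommGroup T] [Module A T] : ℤ :=
  ∑ i ∈ Finset.range (b + 2), (-1 : ℤ) ^ i * ψ (TP A M i T)

theorem addOn_alt {b : ℕ} (hb : ringKrullDim A = (b : WithBot ℕ∞)) {P Q : Set (PrimeSpectrum A)}
    {ψ : ∀ (X : Type u) [AddCommGroup X] [Module A X], ℤ} (h : AddOn P ψ)
    (hQ : ∀ p ∈ Q, p ∈ Module.support A M → p ∈ P) : AddOn Q (fun T _ _ => alt M ψ b T) := by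
  intro T₁ T₂ T₃ _ _ _ _ _ _ _ f g hf hg hfg hs
  haveI := Module.Finite.of_injective f hf
  haveI := Module.Finite.of_surjective g hg
  obtain ⟨D, e1, e2, e3, e4⟩ := exists_les M f g hf hg hfg
  have hsupp : ∀ (T : Type u) [AddCommGroup T] [Module A T] [Module.Finite A T] (i : ℕ), Module.support A T ⊆ Q →
      Module.support A (TP A M i T) ⊆ P := fun T _ _ _ i hT p hp =>
    hQ p (hT (support_TP (A := A) M i T hp).1) (support_TP (A := A) M i T hp).2
  have s1 : ∀ i, Module.support A (TP A M i T₁) ⊆ P := fun i =>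
    hsupp T₁ i ((Module.support_subset_of_injective f hf).trans hs)
  have s2 : ∀ i, Module.support A (TP A M i T₂) ⊆ P := fun i => hsupp T₂ i hs
  have s3 : ∀ i, Module.support A (TP A M i T₃) ⊆ P := fun i =>
    hsupp T₃ i ((Module.support_subset_of_surjective g hg).trans hs)
  haveI f1 := fun i => finite_TP (A := A) M i T₁
  haveI f2 := fun i => finite_TP (A := A) M i T₂
  haveI f3 := fun i => finite_TP (A := A) M i T₃
  let α : ℕ → ℤ := fun i => ψ (LinearMap.ker (tpMap M i f))
  let β : ℕ → ℤ := fun i => ψ (LinearMap.range (tpMap M i f))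
  let γ : ℕ → ℤ := fun i => ψ (LinearMap.range (tpMap M i g))
  have h1 : ∀ i, ψ (TP A M i T₁) = α i + β i := fun i => h.ker_range _ (s1 i)
  have h2 : ∀ i, ψ (TP A M i T₂) = β i + γ i := fun i => by
    rw [h.ker_range (tpMap M i g) (s2 i), show β i = _ from h.eq_of_range_eq (s2 i) (e2 i)]
  have h3 : ∀ i, ψ (TP A M i T₃) = γ i + if i = 0 then 0 else α (i - 1) := fun i => by
    rcases i with _ | i
    · rw [if_pos rfl, add_zero]
      exact (h.congr ((LinearEquiv.ofEq _ _ e4).trans Submodule.topEquiv).symm (s3 0))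
    · rw [if_neg (Nat.succ_ne_zero i), Nat.add_sub_cancel, h.ker_range (D i) (s3 (i + 1)),
        show γ (i + 1) = _ from h.eq_of_range_eq (s3 (i + 1)) (e3 i),
        show α i = _ from (h.eq_of_range_eq (s1 i) (e1 i)).symm]
  have hα : α (b + 1) = 0 := by
    haveI := subsingleton_TP M hb (b + 1) (by omega) T₁
    exact h.zero _
  have hs' := alt_sum α (b + 2)
  rw [if_neg (by omega), show b + 2 - 1 = b + 1 by omega, hα, mul_zero] at hs'
  show alt M ψ b T₂ = alt M ψ b T₁ + alt M ψ b T₃
  unfold alt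
  rw [← Finset.sum_add_distrib, ← sub_eq_zero, ← neg_eq_zero, neg_sub, ← Finset.sum_sub_distrib]
  refine Eq.trans (Finset.sum_congr rfl fun i _ => ?_) hs'
  rw [h1, h2, h3]
  ring

/-- The primes at which a list cuts down to closed points. -/
def Pr (r : List A) : Set (PrimeSpectrum A) := {p | Ideal.ofList r ≤ p.asIdeal → p.asIdeal.IsMaximal}

/-- The same, on the support of `M`. -/
def Qr (r : List A) : Set (PrimeSpectrum A) :=
  {p | p ∈ Module.support A M → Ideal.ofList r ≤ p.asIdeal → p.asIdeal.IsMaximal}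

/-- `Σ_i (-1)^i E r (Tor_i(T, M))`. -/
def G (b : ℕ) (r : List A) (T : Type u) [AddCommGroup T] [Module A T] : ℤ := alt M (fun (X : Type u) [AddCommGroup X] [Module A X] => E r X) b T

variable {b : ℕ} (hb : ringKrullDim A = (b : WithBot ℕ∞))
include hb

theorem addOn_G (r : List A) : AddOn (Qr M r) (fun T _ _ => G M b r T) :=
  addOn_alt M hb (P := Pr r) (ψ := fun X _ _ => E r X)
    (fun _ _ _ _ _ _ _ _ _ _ f g hf hg hfg hs => E_add (fun p hp => hs hp) f g hf hg hfg) fun _ hp hM => hp hM

theorem G_nil (T : Type u) [AddCommGroup T] [Module A T] : G M b ([] : List A) T = IntMult.chi A T M := by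
  rw [chi_eq_sum hb, G, alt]
  refine Finset.sum_congr rfl fun i _ => ?_
  rw [lz, (tpEquiv A M i T).length_eq]
  rfl

theorem G_cons_prime (a : A) (r : List A) (p : PrimeSpectrum A)
    (hp : Module.support A (A ⧸ p.asIdeal) ⊆ Qr M (a :: r)) :
    G M b (a :: r) (A ⧸ p.asIdeal) =
      G M b r ((A ⧸ p.asIdeal) ⧸ srange a (A ⧸ p.asIdeal)) - G M b r (sker a (A ⧸ p.asIdeal)) := by
  set T := A ⧸ p.asIdeal
  have hGr := addOn_G M hb r
  have hsub : ∀ q ∈ Module.support A T, a ∈ q.asIdeal → q ∈ Qr M r := fun q hq ha hM hr =>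
    hp hq hM (ofList_le_iff.mpr (List.forall_mem_cons.mpr ⟨ha, ofList_le_iff.mp hr⟩))
  by_cases hap : a ∈ p.asIdeal
  · have hkill : ∀ x : T, a • x = 0 := fun x => by
      obtain ⟨x, rfl⟩ := Ideal.Quotient.mk_surjective x
      rw [Algebra.smul_def, Ideal.Quotient.algebraMap_eq, ← map_mul, Ideal.Quotient.eq_zero_iff_mem]
      exact Ideal.mul_mem_right _ _ hap
    have hT : Module.support A T ⊆ Qr M r := fun q hq => hsub q hq
      (mem_of_mem_support_of_smul_eq_zero hkill hq)
    have e1 : ∀ {Y : Type u} [AddCommGroup Y] [Module A Y], (∀ y : Y, a • y = 0) → srange a Y = ⊥ ∧ sker a Y = ⊤ :=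
      fun {Y} _ _ hY => ⟨LinearMap.range_eq_bot.2 (LinearMap.ext fun y => hY y),
        LinearMap.ker_eq_top.2 (LinearMap.ext fun y => hY y)⟩
    have q1 : (T ⧸ srange a T) ≃ₗ[A] T := Submodule.quotEquivOfEqBot _ (e1 hkill).1
    have q2 : sker a T ≃ₗ[A] T := (LinearEquiv.ofEq _ (⊤ : Submodule A T) (e1 hkill).2).trans Submodule.topEquiv
    have g1 : G M b r T = G M b r (T ⧸ srange a T) := hGr.congr q1.symm hT
    have g2 : G M b r T = G M b r (sker a T) := hGr.congr q2.symm hT
    rw [← g1, ← g2, sub_self]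
    unfold G alt
    refine Finset.sum_eq_zero fun i _ => ?_
    have hk : ∀ x : TP A M i T, a • x = 0 := fun x => (tpEquiv A M i T).symm.injective
      (((tpEquiv A M i T).symm.map_smul a x).trans
        ((DiagRedLib.smul_tor_eq_zero M hkill i _).trans (LinearEquiv.map_zero _).symm))
    show (-1 : ℤ) ^ i * E (a :: r) (TP A M i T) = 0
    rw [E_cons, E_congr r (Submodule.quotEquivOfEqBot _ (e1 hk).1),
      E_congr r ((LinearEquiv.ofEq _ _ (e1 hk).2).trans Submodule.topEquiv), sub_self, mul_zero]
  · let f : T →ₗ[A] T := a • LinearMap.id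
    have hfa : f = LinearMap.lsmul A T a := LinearMap.ext fun x => rfl
    have hinj : Function.Injective f := by
      rw [injective_iff_map_eq_zero]
      intro x hx
      obtain ⟨x, rfl⟩ := Ideal.Quotient.mk_surjective x
      rw [show f (Ideal.Quotient.mk p.asIdeal x) = Ideal.Quotient.mk p.asIdeal (a * x) from rfl,
        Ideal.Quotient.eq_zero_iff_mem] at hx
      exact Ideal.Quotient.eq_zero_iff_mem.2 ((p.isPrime.mem_or_mem hx).resolve_left hap)
    haveI : Subsingleton (sker a T) := by
      refine Submodule.subsingleton_iff_eq_bot.2 (LinearMap.ker_eq_bot.2 ?_)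
      rw [← hfa]
      exact hinj
    rw [show G M b r (sker a T) = 0 from hGr.zero _, sub_zero]
    obtain ⟨D, e1, e2, e3, e4⟩ := exists_les M f (srange a T).mkQ hinj (Submodule.mkQ_surjective _)
      (by rw [LinearMap.exact_iff, Submodule.ker_mkQ, hfa])
    have hF : ∀ i, tpMap M i f = LinearMap.lsmul A (TP A M i T) a := fun i =>
      LinearMap.ext fun x => tpMap_smul M i a x
    simp only [hF] at e1 e2
    let c : ℕ → ℤ := fun i => E r ((TP A M i T : Type u) ⧸ srange a (TP A M i T))
    let k : ℕ → ℤ := fun i => E r (sker a (TP A M i T))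
    have hc : ∀ i, E r (LinearMap.range (tpMap M i (srange a T).mkQ)) = c i := fun i =>
      (E_congr r ((Submodule.quotEquivOfEq _ _ (e2 i)).trans (LinearMap.quotKerEquivRange _))).symm
    have h3 : ∀ i, E r (TP A M i (T ⧸ srange a T)) = c i + if i = 0 then 0 else k (i - 1) := fun i => by
      rcases i with _ | i
      · rw [if_pos rfl, add_zero, ← hc, E_congr r ((LinearEquiv.ofEq _ _ e4).trans Submodule.topEquiv)]
      · rw [if_neg (Nat.succ_ne_zero i), Nat.add_sub_cancel, ← hc]
        haveI := finite_TP (A := A) M (i + 1) (T ⧸ srange a T)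
        rw [E_add (N₂ := TP A M (i + 1) (T ⧸ srange a T)) (fun q hq => ?_) (LinearMap.ker (D i)).subtype
          (D i).rangeRestrict (Submodule.subtype_injective _) (D i).surjective_rangeRestrict
          (by rw [LinearMap.exact_iff, LinearMap.ker_rangeRestrict, Submodule.range_subtype]),
          E_congr r (LinearEquiv.ofEq _ _ (e3 i)), E_congr r (LinearEquiv.ofEq _ _ (e1 i))]
        have h' := support_TP (A := A) M (i + 1) _ hq
        exact fun hr => hsub q (Module.support_subset_of_surjective _ (Submodule.mkQ_surjective _) h'.1)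
          (mem_of_mem_support_of_smul_eq_zero (smul_quot_srange a) h'.1) h'.2 hr
    have hlast : k (b + 1) = 0 := by
      haveI := subsingleton_TP M hb (b + 1) (by omega) T
      exact E_subsingleton r _
    have hs := alt_sum k (b + 2)
    rw [if_neg (by omega), show b + 2 - 1 = b + 1 by omega, hlast, mul_zero] at hs
    unfold G alt
    rw [← sub_eq_zero, ← neg_eq_zero, neg_sub, ← Finset.sum_sub_distrib]
    refine Eq.trans (Finset.sum_congr rfl fun i _ => ?_) hs
    show (-1 : ℤ) ^ i * E r (TP A M i (T ⧸ srange a T)) - (-1 : ℤ) ^ i * E (a :: r) (TP A M i T) = _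
    rw [h3, E_cons]
    show (-1 : ℤ) ^ i * (c i + _) - (-1 : ℤ) ^ i * (c i - k i) = _
    ring

/-- Changing the order of a regular element and `Tor`. -/
theorem G_cons (a : A) (r : List A) (T : Type u) [AddCommGroup T] [Module A T] [Module.Finite A T]
    (hT : Module.support A T ⊆ Qr M (a :: r)) :
    G M b (a :: r) T = G M b r (T ⧸ srange a T) - G M b r (sker a T) := by
  have hd : AddOn (Module.support A T)
      (fun X _ _ => G M b (a :: r) X - (G M b r (X ⧸ srange a X) - G M b r (sker a X))) :=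
    AddOn.mono (AddOn.sub (addOn_G M hb (a :: r)) ((addOn_G M hb r).step a fun p hp ha hM hr =>
      hp hM (ofList_le_iff.mpr (List.forall_mem_cons.mpr ⟨ha, ofList_le_iff.mp hr⟩)))) hT
  have key := devissage (Module.support A T) ∅ (fun p hp => absurd hp (Finset.notMem_empty p))
    (fun X _ _ => G M b (a :: r) X - (G M b r (X ⧸ srange a X) - G M b r (sker a X))) hd
    (fun p hp _ => sub_eq_zero.2 (G_cons_prime M hb a r p fun q hq => hT (Module.mem_support_mono
      (Ideal.annihilator_quotient.ge.trans (Module.mem_support_iff_of_finite.1 hq) : p.asIdeal ≤ q.asIdeal) hp)))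
    T Set.Subset.rfl
  exact sub_eq_zero.1 key

open TorKEulerLib in
/-- Commutation of a regular sequence with `Tor`. -/
theorem sum_G {N : ModuleCat.{u} A} [Module.Finite A N] (P : ProjectiveResolution N) :
    ∀ l : List A, RingTheory.Sequence.IsWeaklyRegular A l → ∀ r : List A,
      Module.support A (N : Type u) ⊆ Qr M (l ++ r) →
      ∑ i ∈ Finset.range (l.length + 1), (-1 : ℤ) ^ i * G M b r (T P l i) = G M b (l ++ r) (N : Type u) := by
  have hsupp : ∀ {l r : List A}, RingTheory.Sequence.IsWeaklyRegular A l →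
      Module.support A (N : Type u) ⊆ Qr M (l ++ r) → ∀ i, Module.support A (T P l i) ⊆ Qr M r := by
    intro l r hreg h i p hp hM hr
    haveI := (T_props P l hreg i).1
    refine h ((T_props P l hreg i).2.2 hp) hM (ofList_le_iff.mpr fun x hx => ?_)
    rcases List.mem_append.mp hx with hx | hx
    · exact mem_of_mem_support_of_smul_eq_zero (fun y => smul_T_eq_zero P (Ideal.subset_span hx) i y) hp
    · exact ofList_le_iff.mp hr x hx
  intro l
  induction l using List.reverseRecOn with
  | nil =>
    intro hreg r hd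
    rw [List.length_nil, Finset.sum_range_one, pow_zero, one_mul, List.nil_append]
    haveI := (T_props P _ hreg 0).1
    exact (addOn_G M hb r).congr ((TorRegLib.h0Equiv P _).trans (Submodule.quotEquivOfEqBot _ (by simp)))
      (hsupp hreg hd 0)
  | append_singleton t f ih =>
    intro hreg r hd
    have hreg' : RingTheory.Sequence.IsWeaklyRegular A t :=
      ((RingTheory.Sequence.isWeaklyRegular_append_iff A t [f]).1 hreg).1
    have hd' : Module.support A (N : Type u) ⊆ Qr M (t ++ f :: r) := by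
      rwa [List.append_assoc, List.singleton_append] at hd
    have hih := ih hreg' (f :: r) hd'
    rw [List.append_assoc, List.singleton_append, ← hih]
    set c : ℕ → ℤ := fun i => G M b r (T P t i ⧸ srange f (T P t i)) with hc
    set k : ℕ → ℤ := fun i => G M b r (sker f (T P t i)) with hk
    have hGr := addOn_G M hb r
    have h0 : G M b r (T P (t ++ [f]) 0) = c 0 := by
      obtain ⟨q, hq, hsurj, -⟩ := exact_f P hreg 0
      haveI := (T_props P _ hreg 0).1
      exact hGr.congr ((Submodule.quotEquivOfEq _ _ hq.symm).trans (q.quotKerEquivOfSurjective (hsurj rfl))).symm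
        (hsupp hreg hd 0)
    have hsucc : ∀ i, G M b r (T P (t ++ [f]) (i + 1)) = c (i + 1) + k i := fun i => by
      obtain ⟨q, hq, -, hδ⟩ := exact_f P hreg (i + 1)
      obtain ⟨δ, hex, hrange⟩ := hδ i rfl
      haveI := (T_props P _ hreg (i + 1)).1
      haveI := (T_props P _ hreg' i).1
      have g1 : G M b r (LinearMap.range δ) = k i := hGr.congr (LinearEquiv.ofEq _ _ hrange)
        ((Module.support_subset_of_surjective δ.rangeRestrict
          (LinearMap.surjective_rangeRestrict δ)).trans (hsupp hreg hd (i + 1)))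
      refine (hGr _ (T P (t ++ [f]) (i + 1)) _ (Submodule.liftQ _ q hq.ge) δ.rangeRestrict ?_
        (LinearMap.surjective_rangeRestrict δ) ?_ (hsupp hreg hd (i + 1))).trans (congrArg (_ + ·) g1)
      · rw [← LinearMap.ker_eq_bot, Submodule.ker_liftQ, hq, Submodule.mkQ_map_self]
      · rw [LinearMap.exact_iff, LinearMap.ker_rangeRestrict, Submodule.range_liftQ]
        exact hex.linearMap_ker_eq
    have hlast : c (t.length + 1) = 0 := by
      haveI := (T_props P t hreg' (t.length + 1)).2.1 (Nat.lt_succ_self _)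
      haveI : Subsingleton (T P t (t.length + 1) ⧸ srange f (T P t (t.length + 1))) :=
        (Submodule.mkQ_surjective _).subsingleton
      exact hGr.zero _
    have hrhs : ∀ i, G M b (f :: r) (T P t i) = c i - k i := fun i => by
      haveI := (T_props P _ hreg' i).1
      exact G_cons M hb f r _ (hsupp hreg' hd' i)
    have hcsum : c 0 + ∑ i ∈ Finset.range (t.length + 1), (-1 : ℤ) ^ (i + 1) * c (i + 1) =
        ∑ i ∈ Finset.range (t.length + 1), (-1 : ℤ) ^ i * c i := by
      have h1 := Finset.sum_range_succ' (fun i => (-1 : ℤ) ^ i * c i) (t.length + 1)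
      rw [Finset.sum_range_succ] at h1
      simp only [hlast, mul_zero, add_zero, pow_zero, one_mul] at h1
      linarith
    rw [List.length_append, List.length_singleton, Finset.sum_range_succ', h0, pow_zero, one_mul]
    simp only [hsucc, hrhs, mul_add, mul_sub, Finset.sum_add_distrib, Finset.sum_sub_distrib]
    rw [add_right_comm, add_comm _ (c 0), hcsum]
    simp only [pow_succ, mul_neg, mul_one, neg_mul, Finset.sum_neg_distrib]
    ring

end Groth.Agent.ChiCycLib
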