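import Mathlib
import Groth.Agent.CycLib.StalkMod
import Groth.Agent.IMultLib.MultOne
import Groth.Agent.IdealStalkLib.Comap
import Groth.Agent.PullbackMod.SuppClosed

/-! Primes of a local ring and the points specialising to it. -/

set_option autoImplicit false
set_option linter.style.haveILetI false
set_option backward.isDefEq.respectTransparency false

universe u

open CategoryTheory AlgebraicGeometry Groth.Agent Groth.Agent.CycLib

noncomputable section

namespace Groth.Agent.ChiCycLib

variable {X : Scheme.{u}}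

/-- The ideal of the closure of the point of a prime is that prime. -/
theorem stalkIdeal_ptIdeal_fromSpecStalk {z : X} (P : PrimeSpectrum (X.presheaf.stalk z)) :
    IntMult.stalkIdeal (IntMult.ptIdeal (X.fromSpecStalk z P)) z = P.asIdeal := by
  set a := X.fromSpecStalk z P with ha
  obtain ⟨_, ⟨U : X.Opens, hU, rfl⟩, hzU, -⟩ :=
    X.isBasis_affineOpens.exists_subset_of_mem_open (Set.mem_univ z) isOpen_univ
  have haU : a ∈ U := (fromSpecStalk_specializes P).mem_open U.2 hzU
  letI : Algebra Γ(X, U) (X.presheaf.stalk z) := TopCat.Presheaf.algebra_section_stalk X.presheaf ⟨z, hzU⟩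
  haveI := hU.isLocalization_stalk ⟨z, hzU⟩
  let q := hU.primeIdealOf ⟨a, haU⟩
  have hq : (IntMult.ptIdeal a).ideal ⟨U, hU⟩ = q.asIdeal := by
    show PrimeSpectrum.vanishingIdeal (hU.fromSpec ⁻¹' closure {a}) = q.asIdeal
    rw [show hU.fromSpec ⁻¹' closure {a} = closure {q} from ?_]
    · rw [PrimeSpectrum.vanishingIdeal_closure, PrimeSpectrum.vanishingIdeal_singleton]
    · have hqa : hU.fromSpec q = a := hU.fromSpec_primeIdealOf ⟨a, haU⟩
      ext p
      rw [Set.mem_preimage, ← specializes_iff_mem_closure, ← specializes_iff_mem_closure, ← hqa,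
        hU.fromSpec.isOpenEmbedding.isInducing.specializes_iff]
  have hP : P.asIdeal.comap (algebraMap Γ(X, U) (X.presheaf.stalk z)) = q.asIdeal := by
    have h1 : hU.fromSpec (PrimeSpectrum.comap (algebraMap Γ(X, U) (X.presheaf.stalk z)) P) = hU.fromSpec q := by
      rw [hU.fromSpec_primeIdealOf ⟨a, haU⟩]
      show _ = X.fromSpecStalk z P
      rw [← hU.fromSpecStalk_eq_fromSpecStalk hzU]
      rfl
    exact congrArg PrimeSpectrum.asIdeal (hU.fromSpec.isOpenEmbedding.injective h1)
  rw [IdealStalkLib.stalkIdeal_eq _ ⟨U, hU⟩ z hzU, hq, ← hP]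
  exact IsLocalization.map_comap (hU.primeIdealOf ⟨z, hzU⟩).asIdeal.primeCompl (X.presheaf.stalk z) P.asIdeal

theorem mem_support_iff_nontrivial {F : X.Modules} [Coh.IsQCoh F] {z : X} (P : PrimeSpectrum (X.presheaf.stalk z)) :
    P ∈ Module.support (X.presheaf.stalk z) (F.presheaf.stalk z) ↔
      Nontrivial (F.presheaf.stalk (X.fromSpecStalk z P)) := by
  rw [Module.mem_support_iff, ← not_subsingleton_iff_nontrivial, ← not_subsingleton_iff_nontrivial,
    ← Module.length_eq_zero_iff (R := Localization.AtPrime P.asIdeal), length_localized_stalk P,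
    Module.length_eq_zero_iff]

/-- A nonzero stalk of a coherent module specialises to nonzero stalks. -/
theorem nontrivial_stalk_of_specializes {F : X.Modules} (hF : Coh.IsCoh F) {x z : X} (h : x ⤳ z)
    (hx : Nontrivial (F.presheaf.stalk x)) : Nontrivial (F.presheaf.stalk z) := by
  haveI := hF.1
  obtain ⟨P, rfl⟩ := exists_fromSpecStalk h
  obtain ⟨P', hP'⟩ : ∃ P', P' ∈ Module.support (X.presheaf.stalk z) (F.presheaf.stalk z) :=
    ⟨P, (mem_support_iff_nontrivial P).2 hx⟩
  by_contra hn
  rw [not_nontrivial_iff_subsingleton] at hn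
  rw [Module.support_eq_empty] at hP'
  exact hP'

theorem sheafFun_ne_zero {δ : X → ℤ} {r : ℤ} {F : X.Modules} {x : X} (h : Cyc.sheafFun δ r F x ≠ 0) :
    δ x = r ∧ Nontrivial (F.presheaf.stalk x) := by
  rw [Cyc.sheafFun] at h
  split_ifs at h with hd
  · refine ⟨hd, ?_⟩
    by_contra hn
    rw [not_nontrivial_iff_subsingleton] at hn
    exact h (by rw [Module.length_eq_zero, ENat.toNat_zero, Nat.cast_zero])
  · exact absurd rfl h

end Groth.Agent.ChiCycLib
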