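import Mathlib
import Groth.Agent.DiagRedLib.Pos
import Groth.Agent.IMultLib.MultOne
import Groth.Agent.HSLib.Mult
import Groth.Agent.S1914

/-! Vanishing of the intersection multiplicity below the expected dimension. -/

set_option autoImplicit false
set_option linter.style.haveILetI false
set_option linter.unusedSectionVars false
set_option backward.isDefEq.respectTransparency false

universe u

open CategoryTheory CategoryTheory.Limits AlgebraicGeometry IsLocalRing RingTheory.Sequence Groth.Agent Filter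
open scoped Topology

noncomputable section

namespace Groth.Agent.ChiCycLib

/-- The dimension of the quotient at the diagonal. -/
theorem dim_eq {A B : Type u} [CommRing A] [CommRing B] [IsLocalRing A] [IsLocalRing B] [IsNoetherianRing A]
    [IsNoetherianRing B] (φ ψ : A →+* B) [IsLocalHom φ] [IsLocalHom ψ] (hφ : φ.Flat) (hψ : ψ.Flat) (I J : Ideal A)
    (hI : I ≠ ⊤) (hJ : J ≠ ⊤) (hf : ((Ideal.Quotient.mk (J.map ψ)).comp φ).Flat)
    {a b v w : ℕ} (ha : ringKrullDim A = (a : WithBot ℕ∞)) (hb : ringKrullDim B = (b : WithBot ℕ∞))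
    (hv : ringKrullDim (A ⧸ I) = (v : WithBot ℕ∞)) (hw : ringKrullDim (A ⧸ J) = (w : WithBot ℕ∞)) :
    ∃ d : ℕ, ringKrullDim (B ⧸ (I.map φ ⊔ J.map ψ)) = (d : WithBot ℕ∞) ∧ d + 2 * a = b + v + w := by
  have hJm : J.map ψ ≤ maximalIdeal B :=
    (Ideal.map_mono (le_maximalIdeal hJ)).trans (((local_hom_TFAE ψ).out 0 2 rfl rfl).mp inferInstance)
  let B' := B ⧸ J.map ψ
  haveI : Nontrivial B' := Ideal.Quotient.nontrivial_iff.2 (ne_top_of_le_ne_top (maximalIdeal.isMaximal B).ne_top hJm)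
  haveI : IsLocalRing B' := IsLocalRing.of_surjective' _ Ideal.Quotient.mk_surjective
  have e1 : ((a : ℕ) : WithBot ℕ∞) + ringKrullDim (B ⧸ (maximalIdeal A).map ψ) = b := by
    letI : Algebra A B := ψ.toAlgebra
    haveI : Module.Flat A B := hψ
    haveI : IsLocalHom (algebraMap A B) := ‹IsLocalHom ψ›
    rw [← hb, RatliffLib.dim_flat_local (A := A) (A' := B), ha]
    rfl
  have e2 : ringKrullDim B' = (w : WithBot ℕ∞) + ringKrullDim (B ⧸ (maximalIdeal A).map ψ) := by
    letI : Algebra A B := ψ.toAlgebra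
    haveI : Module.Flat A B := hψ
    haveI : IsLocalHom (algebraMap A B) := ‹IsLocalHom ψ›
    letI : Algebra (A ⧸ J) B' := inferInstanceAs (Algebra (A ⧸ J) (B ⧸ J.map (algebraMap A B)))
    haveI : Module.Flat (A ⧸ J) B' := RatliffLib.flat_quot (B := B) J
    haveI : IsLocalRing (A ⧸ J) := RegLocal.isLocalRing_quot hJ
    haveI : IsLocalHom (algebraMap (A ⧸ J) B') := by
      refine ((local_hom_TFAE _).out 2 0 rfl rfl).mp ?_
      rw [RegLocal.maximalIdeal_quot hJ, Ideal.map_map]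
      exact (Ideal.map_map ψ (Ideal.Quotient.mk (J.map ψ))).symm.le.trans ((Ideal.map_mono
        (((local_hom_TFAE ψ).out 0 2 rfl rfl).mp inferInstance)).trans
        (IsLocalRing.map_maximalIdeal_of_surjective _ Ideal.Quotient.mk_surjective).le)
    rw [RatliffLib.dim_flat_local (A := A ⧸ J) (A' := B'), hw, RegLocal.maximalIdeal_quot hJ, Ideal.map_map]
    congr 1
    refine ringKrullDim_eq_of_ringEquiv ((Ideal.quotEquivOfEq (show _ = ((maximalIdeal A).map ψ).map
      (Ideal.Quotient.mk (J.map ψ)) from (Ideal.map_map ψ (Ideal.Quotient.mk (J.map ψ))).symm)).trans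
      ((DoubleQuot.quotQuotEquivQuotSup _ _).trans (Ideal.quotEquivOfEq ?_)))
    exact sup_eq_right.2 (Ideal.map_mono (le_maximalIdeal hJ))
  letI : Algebra A B' := ((Ideal.Quotient.mk (J.map ψ)).comp φ).toAlgebra
  haveI : Module.Flat A B' := hf
  haveI : IsLocalHom (Ideal.Quotient.mk (J.map ψ)) := Ideal.Quotient.mk_surjective.isLocalHom _
  haveI : IsLocalHom (algebraMap A B') := RingHom.isLocalHom_comp _ _
  have e3 := RatliffLib.dim_flat_local (A := A) (A' := B')
  let C := B' ⧸ I.map (algebraMap A B')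
  haveI : IsLocalRing (A ⧸ I) := RegLocal.isLocalRing_quot hI
  haveI : Nontrivial C := Ideal.Quotient.nontrivial_iff.2 (ne_top_of_le_ne_top (maximalIdeal.isMaximal B').ne_top
    (RatliffLib.map_le_maximal I hI))
  haveI : IsLocalRing C := IsLocalRing.of_surjective' _ Ideal.Quotient.mk_surjective
  letI : Algebra (A ⧸ I) C := Ideal.Quotient.algebraQuotientMapQuotient
  haveI : Module.Flat (A ⧸ I) C := RatliffLib.flat_quot (B := B') I
  haveI : IsLocalHom (algebraMap (A ⧸ I) C) := by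
    refine ((local_hom_TFAE _).out 2 0 rfl rfl).mp ?_
    rw [RegLocal.maximalIdeal_quot hI, Ideal.map_map]
    exact (Ideal.map_map (algebraMap A B') (Ideal.Quotient.mk (I.map (algebraMap A B')))).symm.le.trans ((Ideal.map_mono
      (((local_hom_TFAE (algebraMap A B')).out 0 2 rfl rfl).mp inferInstance)).trans
      (IsLocalRing.map_maximalIdeal_of_surjective _ Ideal.Quotient.mk_surjective).le)
  have e4 : ringKrullDim C = (v : WithBot ℕ∞) + ringKrullDim (B' ⧸ (maximalIdeal A).map (algebraMap A B')) := by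
    rw [RatliffLib.dim_flat_local (A := A ⧸ I) (A' := C), hv, RegLocal.maximalIdeal_quot hI, Ideal.map_map]
    congr 1
    refine ringKrullDim_eq_of_ringEquiv ((Ideal.quotEquivOfEq (show _ = ((maximalIdeal A).map (algebraMap A B')).map
      (Ideal.Quotient.mk (I.map (algebraMap A B'))) from
        (Ideal.map_map (algebraMap A B') (Ideal.Quotient.mk (I.map (algebraMap A B')))).symm)).trans
      ((DoubleQuot.quotQuotEquivQuotSup _ _).trans (Ideal.quotEquivOfEq ?_)))
    exact sup_eq_right.2 (Ideal.map_mono (le_maximalIdeal hI))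
  have eC : ringKrullDim C = ringKrullDim (B ⧸ (I.map φ ⊔ J.map ψ)) :=
    ringKrullDim_eq_of_ringEquiv ((Ideal.quotEquivOfEq (show I.map (algebraMap A B') =
      (I.map φ).map (Ideal.Quotient.mk (J.map ψ)) from (Ideal.map_map φ (Ideal.Quotient.mk (J.map ψ))).symm)).trans
        ((DoubleQuot.quotQuotEquivQuotSup _ _).trans (Ideal.quotEquivOfEq (sup_comm _ _))))
  have hfin : ∀ (R : Type u) [CommRing R] [IsLocalRing R] [IsNoetherianRing R],
      ∃ d : ℕ, ringKrullDim R = (d : WithBot ℕ∞) := fun R _ _ _ => RegLocal.exists_nat_ringKrullDim R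
  haveI : Nontrivial (B ⧸ (maximalIdeal A).map ψ) := Ideal.Quotient.nontrivial_iff.2
    (ne_top_of_le_ne_top (maximalIdeal.isMaximal B).ne_top (((local_hom_TFAE ψ).out 0 2 rfl rfl).mp inferInstance))
  haveI : IsLocalRing (B ⧸ (maximalIdeal A).map ψ) := IsLocalRing.of_surjective' _ Ideal.Quotient.mk_surjective
  haveI : Nontrivial (B' ⧸ (maximalIdeal A).map (algebraMap A B')) := Ideal.Quotient.nontrivial_iff.2
    (ne_top_of_le_ne_top (maximalIdeal.isMaximal B').ne_top
      (RatliffLib.map_le_maximal _ (maximalIdeal.isMaximal A).ne_top))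
  haveI : IsLocalRing (B' ⧸ (maximalIdeal A).map (algebraMap A B')) :=
    IsLocalRing.of_surjective' _ Ideal.Quotient.mk_surjective
  obtain ⟨g, hg⟩ := hfin (B ⧸ (maximalIdeal A).map ψ)
  obtain ⟨h, hh⟩ := hfin (B' ⧸ (maximalIdeal A).map (algebraMap A B'))
  obtain ⟨d, hd⟩ := hfin C
  obtain ⟨b', hb'⟩ := hfin B'
  rw [hg] at e1 e2
  rw [hh, ha, hb'] at e3
  rw [hh, hd] at e4
  rw [hb'] at e2
  have n1 : a + g = b := by exact_mod_cast e1
  have n2 : b' = w + g := by exact_mod_cast e2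
  have n3 : b' = a + h := by exact_mod_cast e3
  have n4 : d = v + h := by exact_mod_cast e4
  exact ⟨d, eC ▸ hd, by omega⟩

theorem supportDim_quot_smul_le {B : Type u} [CommRing B] [IsNoetherianRing B] [IsLocalRing B] (L S : Ideal B)
    (hrad : (L ⊔ S).radical = maximalIdeal B) :
    (∀ p ∈ Module.support B (B ⧸ S), L ≤ p.asIdeal → p.asIdeal.IsMaximal) ∧
      Module.supportDim B ((B ⧸ S) ⧸ (L • ⊤ : Submodule B (B ⧸ S))) ≤ 0 := by
  have key : ∀ p ∈ Module.support B (B ⧸ S), L ≤ p.asIdeal → p.asIdeal = maximalIdeal B := fun p hp hL => by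
    have hS : S ≤ p.asIdeal := Ideal.annihilator_quotient.ge.trans (Module.mem_support_iff_of_finite.1 hp)
    exact le_antisymm (le_maximalIdeal p.2.ne_top) (hrad.ge.trans ((Ideal.radical_mono (sup_le hL hS)).trans
      p.2.radical.le))
  refine ⟨fun p hp hL => key p hp hL ▸ maximalIdeal.isMaximal B, ?_⟩
  haveI : Subsingleton (Module.support B ((B ⧸ S) ⧸ (L • ⊤ : Submodule B (B ⧸ S)))) := by
    refine ⟨fun q q' => Subtype.ext (PrimeSpectrum.ext ?_)⟩
    obtain ⟨q, hq⟩ := q
    obtain ⟨q', hq'⟩ := q'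
    rw [Module.support_quotient] at hq hq'
    exact (key q hq.1 hq.2).trans (key q' hq'.1 hq'.2).symm
  exact Order.krullDim_nonpos_of_subsingleton

/-- Vanishing below the expected dimension, algebraic form. -/
theorem chi_eq_zero_of_dim_lt {B : Type u} [CommRing B] [IsNoetherianRing B] [IsLocalRing B] {c d : ℕ} (g : Fin c → B)
    (hreg : IsRegular B (List.ofFn g)) (S : Ideal B) (hrad : (Ideal.span (Set.range g) ⊔ S).radical = maximalIdeal B)
    (hd : ringKrullDim (B ⧸ S) = (d : WithBot ℕ∞)) (hdc : d < c) :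
    IntMult.chi B (B ⧸ Ideal.span (Set.range g)) (B ⧸ S) = 0 := by
  haveI : Finite (MaximalSpectrum B) :=
    Finite.of_injective (fun _ => PUnit.unit.{1}) fun m m' _ =>
      MaximalSpectrum.ext ((eq_maximalIdeal m.isMaximal).trans (eq_maximalIdeal m'.isMaximal).symm)
  obtain ⟨hfl, h0⟩ := supportDim_quot_smul_le _ S hrad
  have hI : Ideal.span (Set.range g) ≤ Ring.jacobson B := by
    rw [ringJacobson_eq_maximalIdeal]
    exact le_sup_left.trans (Ideal.le_radical.trans hrad.le)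
  have h1 := S1914.result B c g hreg (B ⧸ S) h0
  have h2 := HSLib.tendsto_eSeq_zero (d := c) hI hfl (by
    rw [Module.supportDim_quotient_eq_ringKrullDim, hd]
    exact_mod_cast hdc)
  have h3 := tendsto_nhds_unique h1 h2
  exact_mod_cast h3

variable {K : Type u} [Field K] {X : Scheme.{u}} (f : X ⟶ Spec (CommRingCat.of K)) [Smooth f] [IsSeparated f]
  [IsIntegral X] {δ : X → ℤ} (hδ : Cyc.DeltaCompat f δ (fun _ => 0))

include f in
theorem isLocalHom_φd (ξ : X) : IsLocalHom (DiagRedLib.φd f ξ) := by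
  haveI : IsLocalHom (X.presheaf.stalkSpecializes (specializes_of_eq (DiagRedLib.fst_diag f ξ))).hom := by
    haveI : IsIso (X.presheaf.stalkSpecializes (specializes_of_eq (DiagRedLib.fst_diag f ξ))) :=
      ⟨X.presheaf.stalkSpecializes (specializes_of_eq (DiagRedLib.fst_diag f ξ).symm), by simp, by simp⟩
    exact isLocalHom_of_isIso _
  exact RingHom.isLocalHom_comp ((pullback.fst f f).stalkMap _).hom _

include f in
theorem isLocalHom_ψd (ξ : X) : IsLocalHom (DiagRedLib.ψd f ξ) := by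
  haveI : IsLocalHom (X.presheaf.stalkSpecializes (specializes_of_eq (DiagRedLib.snd_diag f ξ))).hom := by
    haveI : IsIso (X.presheaf.stalkSpecializes (specializes_of_eq (DiagRedLib.snd_diag f ξ))) :=
      ⟨X.presheaf.stalkSpecializes (specializes_of_eq (DiagRedLib.snd_diag f ξ).symm), by simp, by simp⟩
    exact isLocalHom_of_isIso _
  exact RingHom.isLocalHom_comp ((pullback.snd f f).stalkMap _).hom _

include f hδ in
/-- The dimension of the local ring at a point. -/
theorem dim_stalk (x : X) : ∃ a : ℕ, ringKrullDim (X.presheaf.stalk x) = (a : WithBot ℕ∞) ∧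
    (a : ℤ) = δ (genericPoint X) - δ x := by
  obtain ⟨tg, hg, -, -, hgc⟩ := IMultLib.delta_facts f hδ (genericPoint X)
  obtain ⟨tx, hx, -, -, hxc⟩ := IMultLib.delta_facts f hδ x
  have huniv : topologicalKrullDim X = (tg : WithBot ℕ∞) := by
    rw [← hgc, genericPoint_closure]
    exact (IsHomeomorph.topologicalKrullDim_eq _ (Homeomorph.Set.univ X).isHomeomorph).symm
  obtain ⟨a, t, ha, ht, hat⟩ := IMultLib.dims_point f tg huniv x
  have htt : t = tx := by exact_mod_cast ht.symm.trans hxc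
  exact ⟨a, ha, by omega⟩

include f hδ in
/-- The multiplicity vanishes below the expected dimension. -/
theorem mult_eq_zero (x y ζ : X) (hx : x ⤳ ζ) (hy : y ⤳ ζ) (hmax : ∀ t : X, x ⤳ t → y ⤳ t → t ⤳ ζ → t = ζ)
    (hlt : δ x + δ y - δ (genericPoint X) < δ ζ) : IntMult.mult (IntMult.ptIdeal x) (IntMult.ptIdeal y) ζ = 0 := by
  haveI := IMultLib.isIntegral_ptIdeal x
  haveI := IMultLib.isIntegral_ptIdeal y
  haveI := Groth.Agent.ASp.isRegularLocalRing_stalk_of_smooth_field f ζ
  haveI : Smooth (pullback.fst f f ≫ f) := inferInstance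
  haveI : IsRegularLocalRing (DiagRedLib.Bd f ζ) :=
    Groth.Agent.ASp.isRegularLocalRing_stalk_of_smooth_field (pullback.fst f f ≫ f) (pullback.diagonal f ζ)
  haveI := isLocalHom_φd f ζ
  haveI := isLocalHom_ψd f ζ
  have hmem : ∀ {p t : X}, t ∈ (IntMult.ptIdeal p).support ↔ p ⤳ t := fun {p t} => by
    rw [← SetLike.mem_coe, IMultLib.coe_support_ptIdeal, specializes_iff_mem_closure]
  obtain ⟨hIp, v, hv, hvd⟩ := IMultLib.dims_ptIdeal f hδ x ζ hx
  obtain ⟨hJp, w, hw, hwd⟩ := IMultLib.dims_ptIdeal f hδ y ζ hy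
  obtain ⟨a, ha, had⟩ := dim_stalk f hδ ζ
  obtain ⟨b, hb⟩ := RegLocal.exists_nat_ringKrullDim (DiagRedLib.Bd f ζ)
  set I := IntMult.stalkIdeal (IntMult.ptIdeal x) ζ
  set J := IntMult.stalkIdeal (IntMult.ptIdeal y) ζ
  have hsurj : Function.Surjective (DiagRedLib.δd f ζ) := fun z =>
    ⟨DiagRedLib.φd f ζ z, congrArg (fun m => m z) (DiagRedLib.δ_φ f ζ)⟩
  let e := RingHom.quotientKerEquivOfSurjective hsurj
  haveI : IsRegularLocalRing (DiagRedLib.Bd f ζ ⧸ RingHom.ker (DiagRedLib.δd f ζ)) :=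
    IsRegularLocalRing.of_ringEquiv e.symm
  obtain ⟨c, g, hca, hg, -, hreg⟩ := DiagRedLib.exists_regular_span (RingHom.ker (DiagRedLib.δd f ζ)) hb
    ((ringKrullDim_eq_of_ringEquiv e).trans ha)
  obtain ⟨d, hd, hbd⟩ := dim_eq (DiagRedLib.φd f ζ) (DiagRedLib.ψd f ζ) (DiagRedLib.flat_φd f ζ)
    (DiagRedLib.flat_ψd f ζ) I J hIp.ne_top hJp.ne_top (DiagRedLib.flat_quot_ψd f _ ζ (hmem.2 hy)) ha hb hv hw
  set S := I.map (DiagRedLib.φd f ζ) ⊔ J.map (DiagRedLib.ψd f ζ)
  have hmap : S.map (DiagRedLib.δd f ζ) = I ⊔ J := by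
    rw [Ideal.map_sup, Ideal.map_map, Ideal.map_map, DiagRedLib.δ_φ, DiagRedLib.δ_ψ, Ideal.map_id, Ideal.map_id]
  have hrad : (Ideal.span (Set.range g) ⊔ S).radical = maximalIdeal (DiagRedLib.Bd f ζ) := by
    rw [← hg, sup_comm, RingHom.ker_eq_comap_bot, ← Ideal.comap_map_of_surjective _ hsurj, hmap,
      ← Ideal.comap_radical, IMultLib.sup_radical (IntMult.ptIdeal x) (IntMult.ptIdeal y) ζ (hmem.2 hx) (hmem.2 hy)
        (fun t h1 h2 h3 => hmax t (hmem.1 h1) (hmem.1 h2) h3)]
    haveI : IsLocalHom (DiagRedLib.δd f ζ) := inferInstanceAs (IsLocalHom ((pullback.diagonal f).stalkMap ζ).hom)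
    exact (((local_hom_TFAE (DiagRedLib.δd f ζ)).out 0 4 rfl rfl).mp inferInstance)
  rw [DiagRedLib.mult_eq_chi f _ _ ζ (hmem.2 hy), hg]
  exact chi_eq_zero_of_dim_lt g hreg S hrad hd (by omega)

end Groth.Agent.ChiCycLib
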