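import Mathlib
import Groth.Agent.ChiCycLib.Additive
import Groth.Agent.ChiCycLib.Vanish
import Groth.Agent.ChiCycLib.Points
import Groth.Agent.CycLib.DivPull
import Groth.Agent.FlatCx.TorBC

/-! Flat pullback commutes with intersection products. -/

set_option autoImplicit false
set_option linter.style.haveILetI false
set_option backward.isDefEq.respectTransparency false

universe u

open CategoryTheory CategoryTheory.Limits AlgebraicGeometry IsLocalRing Groth.Agent Groth.Agent.CycLib TensorProduct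

noncomputable section

namespace Groth.Agent.ChiCycLib

/-- The coefficient of `χ` at two primes. -/
def chiQ {A : Type u} [CommRing A] (p q : PrimeSpectrum A) : ℤ := IntMult.chi A (A ⧸ p.asIdeal) (A ⧸ q.asIdeal)

variable {X : Scheme.{u}}

theorem mult_fromSpecStalk {ζ : X} (p q : PrimeSpectrum (X.presheaf.stalk ζ)) :
    IntMult.mult (IntMult.ptIdeal (X.fromSpecStalk ζ p)) (IntMult.ptIdeal (X.fromSpecStalk ζ q)) ζ = chiQ p q := by
  rw [IntMult.mult, stalkIdeal_ptIdeal_fromSpecStalk p, stalkIdeal_ptIdeal_fromSpecStalk q, DiagRedLib.chi_comm]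
  rfl

/-- The intersection product at a point of the expected dimension as a sum over primes. -/
theorem interProd_eq_sum {δ : X → ℤ} {n r s : ℤ} (α β : X → ℤ) (ζ : X) (hζ : δ ζ = r + s - n)
    (S T : Finset (PrimeSpectrum (X.presheaf.stalk ζ))) (hS : ∀ p ∈ S, δ (X.fromSpecStalk ζ p) = r)
    (hT : ∀ p ∈ T, δ (X.fromSpecStalk ζ p) = s) (hα : ∀ p, α (X.fromSpecStalk ζ p) ≠ 0 → p ∈ S)
    (hβ : ∀ p, β (X.fromSpecStalk ζ p) ≠ 0 → p ∈ T) :
    IntMult.interProd δ n α β ζ =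
      ∑ p ∈ S, ∑ q ∈ T, α (X.fromSpecStalk ζ p) * β (X.fromSpecStalk ζ q) * chiQ p q := by
  classical
  rw [← Finset.sum_product']
  let ι : (S ×ˢ T : Finset _) → {p : X × X // p.1 ⤳ ζ ∧ p.2 ⤳ ζ ∧ δ p.1 + δ p.2 - n = δ ζ} := fun i =>
    ⟨(X.fromSpecStalk ζ i.1.1, X.fromSpecStalk ζ i.1.2), fromSpecStalk_specializes _, fromSpecStalk_specializes _, by
      obtain ⟨h1, h2⟩ := Finset.mem_product.1 i.2
      show δ (X.fromSpecStalk ζ i.1.1) + δ (X.fromSpecStalk ζ i.1.2) - n = δ ζ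
      rw [hS _ h1, hT _ h2, hζ]⟩
  have hinj := (X.fromSpecStalk ζ).isEmbedding.injective
  have hι : Function.Injective ι := fun i j h => by
    have h' := congrArg Subtype.val h
    exact Subtype.ext (Prod.ext (hinj (congrArg Prod.fst h')) (hinj (congrArg Prod.snd h')))
  rw [IntMult.interProd, finsum_eq_sum_of_support_subset _ (s := (S ×ˢ T).attach.map ⟨ι, hι⟩) ?_, Finset.sum_map]
  · refine Eq.trans (Finset.sum_congr rfl fun i _ => ?_) (Finset.sum_attach (S ×ˢ T)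
      (fun x => α (X.fromSpecStalk ζ x.1) * β (X.fromSpecStalk ζ x.2) * chiQ x.1 x.2))
    show α (X.fromSpecStalk ζ i.1.1) * β (X.fromSpecStalk ζ i.1.2) *
      IntMult.mult (IntMult.ptIdeal (X.fromSpecStalk ζ i.1.1)) (IntMult.ptIdeal (X.fromSpecStalk ζ i.1.2)) ζ = _
    rw [mult_fromSpecStalk]
  · intro p hp
    obtain ⟨P, hP⟩ := exists_fromSpecStalk p.2.1
    obtain ⟨Q, hQ⟩ := exists_fromSpecStalk p.2.2.1
    refine Finset.mem_coe.2 (Finset.mem_map.2 ⟨⟨(P, Q), Finset.mem_product.2 ⟨hα P ?_, hβ Q ?_⟩⟩,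
      Finset.mem_attach _ _, Subtype.ext (Prod.ext hP hQ)⟩)
    · rw [hP]
      exact left_ne_zero_of_mul (left_ne_zero_of_mul hp)
    · rw [hQ]
      exact right_ne_zero_of_mul (left_ne_zero_of_mul hp)

/-- `χ` after flat base change. -/
theorem chi_flat_quot {A B : Type u} [CommRing A] [CommRing B] [IsNoetherianRing A] [IsLocalRing A] [Algebra A B]
    [Module.Flat A B] (I J : Ideal A) (hfin : ∀ p : PrimeSpectrum A, I ≤ p.asIdeal → J ≤ p.asIdeal → p.asIdeal.IsMaximal) :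
    IntMult.chi B (B ⧸ I.map (algebraMap A B)) (B ⧸ J.map (algebraMap A B)) =
      IntMult.chi A (A ⧸ I) (A ⧸ J) * ((Module.length B (B ⧸ (maximalIdeal A).map (algebraMap A B))).toNat : ℤ) := by
  unfold IntMult.chi
  rw [finsum_mul]
  refine finsum_congr fun i => ?_
  obtain ⟨e⟩ := FlatCx.tor_baseChange (A := A) (B := B) (A ⧸ I) (A ⧸ J) i
  have hfl : IsFiniteLength A (DRing.Tor A i (A ⧸ I) (A ⧸ J)) :=
    Module.length_ne_top_iff.1 (length_tor_ne_top _ _ (fun p hp hq => hfin p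
      (Ideal.annihilator_quotient.ge.trans (Module.mem_support_iff_of_finite.1 hp))
      (Ideal.annihilator_quotient.ge.trans (Module.mem_support_iff_of_finite.1 hq))) i)
  have e1 : Module.length B (DRing.Tor B i (B ⊗[A] (A ⧸ I)) (B ⊗[A] (A ⧸ J))) =
      Module.length B (DRing.Tor B i (B ⧸ I.map (algebraMap A B)) (B ⧸ J.map (algebraMap A B))) := by
    rw [(DiagRedLib.torLeftCongr (Algebra.TensorProduct.quotIdealMapEquivTensorQuot B I).symm.toLinearEquiv
      (B ⊗[A] (A ⧸ J)) i).length_eq]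
    obtain ⟨s1⟩ := TorLib.tor_symm (A := B) i (B ⧸ I.map (algebraMap A B)) (B ⊗[A] (A ⧸ J))
    obtain ⟨s2⟩ := TorLib.tor_symm (A := B) i (B ⧸ J.map (algebraMap A B)) (B ⧸ I.map (algebraMap A B))
    rw [s1.length_eq, (DiagRedLib.torLeftCongr (Algebra.TensorProduct.quotIdealMapEquivTensorQuot B J).symm.toLinearEquiv
      (B ⧸ I.map (algebraMap A B)) i).length_eq, s2.length_eq]
  rw [← e1, ← e.length_eq, InjHullLib.length_baseChange B hfl, ENat.toNat_mul]
  push_cast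
  ring

variable {K : Type u} [Field K] {Y : Scheme.{u}} (f : X ⟶ Y)

theorem lp_fibre [IsLocallyNoetherian X] [IsLocallyNoetherian Y] {ζ : X} (P : PrimeSpectrum (X.presheaf.stalk ζ))
    (p : PrimeSpectrum (Y.presheaf.stalk (f ζ))) (h : f (X.fromSpecStalk ζ P) = Y.fromSpecStalk (f ζ) p) :
    lp P (X.presheaf.stalk ζ ⧸ p.asIdeal.map (f.stalkMap ζ).hom) =
      ((Module.length (X.presheaf.stalk (X.fromSpecStalk ζ P)) (X.presheaf.stalk (X.fromSpecStalk ζ P) ⧸
        fibIdeal f (X.fromSpecStalk ζ P))).toNat : ℤ) := by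
  have hη := fromSpecStalk_specializes P
  have hker : RingHom.ker (Cyc.specMap (f ζ) (f (X.fromSpecStalk ζ P)) (hη.map f.continuous)) = p.asIdeal := by
    have : ∀ (y : Y) (hy : y ⤳ f ζ), y = Y.fromSpecStalk (f ζ) p → RingHom.ker (Cyc.specMap (f ζ) y hy) = p.asIdeal := by
      rintro y hy rfl
      exact ker_specMap_eq p hy
    exact this _ _ h
  letI := (X.presheaf.stalkSpecializes hη).hom.toAlgebra
  haveI hloc : IsLocalization.AtPrime (X.presheaf.stalk (X.fromSpecStalk ζ P)) P.asIdeal := by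
    have h1 := S5090.isLocalization_stalkSpecializes hη
    have hm : (maximalIdeal (X.presheaf.stalk (X.fromSpecStalk ζ P))).comap (X.presheaf.stalkSpecializes hη).hom =
        P.asIdeal := by
      rw [← ker_specMap_eq P hη]
      ext a
      exact (IsLocalRing.residue_eq_zero_iff _).symm
    simpa only [hm] using h1
  rw [lp, length_localized_quot (S := X.presheaf.stalk (X.fromSpecStalk ζ P)) P.asIdeal
    (p.asIdeal.map (f.stalkMap ζ).hom), ← hker]
  rw [← clIdeal_map (p := f) hη]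
  rfl

include K in
set_option maxHeartbeats 800000 in
/-- Flat pullback commutes with the intersection product. -/
theorem pullFun_interProd (gX : X ⟶ Spec (CommRingCat.of K)) (gY : Y ⟶ Spec (CommRingCat.of K))
    [Smooth gX] [IsSeparated gX] [IsIntegral X] [Smooth gY] [Flat f] [IsLocallyNoetherian X] [IsLocallyNoetherian Y]
    {δX : X → ℤ} {δY : Y → ℤ} (hδX' : Cyc.IsDimFun X δX) (hδY' : Cyc.IsDimFun Y δY)
    (hδX : Cyc.DeltaCompat gX δX (fun _ => 0)) {n m : ℤ} (hn : δX (genericPoint X) = n) {e : ℤ} (he : e = n - m)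
    (hs' : IsShift f δX δY e) {r s : ℤ} (α β : Y → ℤ) (hα : ∀ y, α y ≠ 0 → δY y = r) (hβ : ∀ y, β y ≠ 0 → δY y = s)
    (hαfin : ∀ y : Y, {p : PrimeSpectrum (Y.presheaf.stalk y) | α (Y.fromSpecStalk y p) ≠ 0}.Finite)
    (hβfin : ∀ y : Y, {p : PrimeSpectrum (Y.presheaf.stalk y) | β (Y.fromSpecStalk y p) ≠ 0}.Finite)
    (hprop : IntMult.IntersectProperly δY m α β) :
    IntMult.IntersectProperly δX n (Cyc.pullFun f δX δY e α) (Cyc.pullFun f δX δY e β) ∧
      Cyc.pullFun f δX δY e (IntMult.interProd δY m α β) =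
        IntMult.interProd δX n (Cyc.pullFun f δX δY e α) (Cyc.pullFun f δX δY e β) := by
  classical
  have hpull : ∀ {γ : Y → ℤ} {x : X}, Cyc.pullFun f δX δY e γ x ≠ 0 → δX x = δY (f x) + e ∧ γ (f x) ≠ 0 := by
    intro γ x h
    rw [pullFun_apply] at h
    split_ifs at h with h1
    · exact ⟨h1, left_ne_zero_of_mul h⟩
    · exact absurd rfl h
  refine ⟨fun x y ζ hx hy hxζ hyζ => ?_, funext fun ζ => ?_⟩
  · obtain ⟨h1, h1'⟩ := hpull hx
    obtain ⟨h2, h2'⟩ := hpull hy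
    have h3 := hprop _ _ _ h1' h2' (hxζ.map f.continuous) (hyζ.map f.continuous)
    have h4 := hs'.le hδX' ζ
    omega
  by_cases hcase : δX ζ = δY (f ζ) + e ∧ δY (f ζ) = r + s - m
  swap
  · have hR : IntMult.interProd δX n (Cyc.pullFun f δX δY e α) (Cyc.pullFun f δX δY e β) ζ = 0 := by
      refine finsum_eq_zero_of_forall_eq_zero fun p => ?_
      by_contra hne
      obtain ⟨h1, h1'⟩ := hpull (left_ne_zero_of_mul (left_ne_zero_of_mul hne))
      obtain ⟨h2, h2'⟩ := hpull (right_ne_zero_of_mul (left_ne_zero_of_mul hne))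
      have h3 := hprop _ _ _ h1' h2' (p.2.1.map f.continuous) (p.2.2.1.map f.continuous)
      have h4 := hs'.le hδX' ζ
      have h5 := hα _ h1'
      have h6 := hβ _ h2'
      have h7 := p.2.2.2
      exact hcase ⟨by omega, by omega⟩
    rw [hR, pullFun_apply]
    split_ifs with h
    · rw [show IntMult.interProd δY m α β (f ζ) = 0 from ?_, zero_mul]
      refine finsum_eq_zero_of_forall_eq_zero fun p => ?_
      by_contra hne
      have h5 := hα _ (left_ne_zero_of_mul (left_ne_zero_of_mul hne))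
      have h6 := hβ _ (right_ne_zero_of_mul (left_ne_zero_of_mul hne))
      have h7 := p.2.2.2
      exact hcase ⟨h, by omega⟩
    · rfl
  obtain ⟨hζe, hξt⟩ := hcase
  haveI := Groth.Agent.ASp.isRegularLocalRing_stalk_of_smooth_field gX ζ
  haveI := Groth.Agent.ASp.isRegularLocalRing_stalk_of_smooth_field gY (f ζ)
  obtain ⟨a, ha, -⟩ := dim_stalk gX hδX ζ
  let A := Y.presheaf.stalk (f ζ)
  let B := X.presheaf.stalk ζ
  letI : Algebra A B := (f.stalkMap ζ).hom.toAlgebra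
  haveI : Module.Flat A B := Flat.stalkMap f ζ
  let ptY : PrimeSpectrum A → Y := fun p => Y.fromSpecStalk (f ζ) p
  let ptX : PrimeSpectrum B → X := fun P => X.fromSpecStalk ζ P
  have hinjY : Function.Injective ptY := (Y.fromSpecStalk (f ζ)).isEmbedding.injective
  have hinjX : Function.Injective ptX := (X.fromSpecStalk ζ).isEmbedding.injective
  have hle : ∀ (p : PrimeSpectrum A) (P : PrimeSpectrum B),
      p.asIdeal.map (algebraMap A B) ≤ P.asIdeal ↔ ptY p ⤳ f (ptX P) := fun p P => by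
    have h := fromSpecStalk_specializes p
    have := clIdeal_le_iff (p := f) h P
    unfold clIdeal at this
    rw [ker_specMap_eq p h] at this
    exact this
  let S₀ := (hαfin (f ζ)).toFinset
  let T₀ := (hβfin (f ζ)).toFinset
  have hS₀ : ∀ {p}, p ∈ S₀ → α (ptY p) ≠ 0 := fun {p} h => (hαfin (f ζ)).mem_toFinset.1 h
  have hT₀ : ∀ {p}, p ∈ T₀ → β (ptY p) ≠ 0 := fun {p} h => (hβfin (f ζ)).mem_toFinset.1 h
  -- the components of the preimage of a prime
  have hcomp : ∀ (k : ℤ) (p : PrimeSpectrum A), δY (ptY p) = k →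
      ({P : PrimeSpectrum B | δX (ptX P) = k + e ∧ p.asIdeal.map (algebraMap A B) ≤ P.asIdeal}.Finite ∧
        (∀ P, δX (ptX P) = k + e → p.asIdeal.map (algebraMap A B) ≤ P.asIdeal →
          f (ptX P) = ptY p ∧ ∀ Q, p.asIdeal.map (algebraMap A B) ≤ Q.asIdeal → Q.asIdeal ≤ P.asIdeal → Q = P) ∧
        ∀ P, p.asIdeal.map (algebraMap A B) ≤ P.asIdeal → δX (ptX P) ≤ k + e) := by
    intro k p hp
    have hbound : ∀ P, p.asIdeal.map (algebraMap A B) ≤ P.asIdeal → δX (ptX P) ≤ k + e := fun P hP => by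
      have h1 := hs'.le hδX' (ptX P)
      have h2 := delta_le hδY' ((hle p P).1 hP)
      omega
    have hmin : ∀ P, δX (ptX P) = k + e → p.asIdeal.map (algebraMap A B) ≤ P.asIdeal →
        f (ptX P) = ptY p ∧ ∀ Q, p.asIdeal.map (algebraMap A B) ≤ Q.asIdeal → Q.asIdeal ≤ P.asIdeal → Q = P := by
      intro P hP hpP
      refine ⟨?_, fun Q hQ hQP => ?_⟩
      · by_contra hne
        have h1 := hs'.le hδX' (ptX P)
        have h2 := (hδY' _ _ ((hle p P).1 hpP) (Ne.symm hne)).1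
        omega
      · by_contra hne
        have h1 := (hδX' (ptX Q) (ptX P) ((fromSpecStalk_specializes_iff Q P).2 hQP) (hinjX.ne hne)).1
        have h2 := hbound Q hQ
        omega
    refine ⟨?_, hmin, hbound⟩
    let J := p.asIdeal.map (algebraMap A B)
    haveI : Finite J.minimalPrimes := (Ideal.finite_minimalPrimes_of_isNoetherianRing _ J).to_subtype
    refine Set.Finite.subset ((Set.finite_range fun R : J.minimalPrimes =>
      (⟨R.1, R.2.1.1⟩ : PrimeSpectrum B))) fun P hP => ?_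
    refine ⟨⟨P.asIdeal, ⟨P.2, hP.2⟩, fun R hR hRP => ?_⟩, rfl⟩
    exact (congrArg PrimeSpectrum.asIdeal ((hmin P hP.1 hP.2).2 ⟨R, hR.1⟩ hR.2 hRP)).ge
  let Sp : PrimeSpectrum A → Finset (PrimeSpectrum B) := fun p =>
    if h : δY (ptY p) = r then (hcomp r p h).1.toFinset else ∅
  let Tq : PrimeSpectrum A → Finset (PrimeSpectrum B) := fun q =>
    if h : δY (ptY q) = s then (hcomp s q h).1.toFinset else ∅
  have hSp : ∀ {p P}, p ∈ S₀ → (P ∈ Sp p ↔ δX (ptX P) = r + e ∧ p.asIdeal.map (algebraMap A B) ≤ P.asIdeal) :=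
    fun {p P} hp => by
      simp only [Sp, dif_pos (hα _ (hS₀ hp)), Set.Finite.mem_toFinset, Set.mem_ofPred_eq]
  have hTq : ∀ {p P}, p ∈ T₀ → (P ∈ Tq p ↔ δX (ptX P) = s + e ∧ p.asIdeal.map (algebraMap A B) ≤ P.asIdeal) :=
    fun {p P} hp => by
      simp only [Tq, dif_pos (hβ _ (hT₀ hp)), Set.Finite.mem_toFinset, Set.mem_ofPred_eq]
  have hdisjS : (S₀ : Set (PrimeSpectrum A)).PairwiseDisjoint Sp := fun p hp q hq hne => by
    refine Finset.disjoint_left.2 fun P hP hP' => hne (hinjY ?_)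
    obtain ⟨h1, h1'⟩ := (hSp hp).1 hP
    obtain ⟨h2, h2'⟩ := (hSp hq).1 hP'
    exact (((hcomp r p (hα _ (hS₀ hp))).2.1 P h1 h1').1).symm.trans ((hcomp r q (hα _ (hS₀ hq))).2.1 P h2 h2').1
  have hdisjT : (T₀ : Set (PrimeSpectrum A)).PairwiseDisjoint Tq := fun p hp q hq hne => by
    refine Finset.disjoint_left.2 fun P hP hP' => hne (hinjY ?_)
    obtain ⟨h1, h1'⟩ := (hTq hp).1 hP
    obtain ⟨h2, h2'⟩ := (hTq hq).1 hP'
    exact (((hcomp s p (hβ _ (hT₀ hp))).2.1 P h1 h1').1).symm.trans ((hcomp s q (hβ _ (hT₀ hq))).2.1 P h2 h2').1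
  -- points of the preimages
  have hlift : ∀ (γ : Y → ℤ) (k : ℤ), (∀ y, γ y ≠ 0 → δY y = k) → ∀ (P : PrimeSpectrum B),
      Cyc.pullFun f δX δY e γ (ptX P) ≠ 0 →
        ∃ p, γ (ptY p) ≠ 0 ∧ δX (ptX P) = k + e ∧ p.asIdeal.map (algebraMap A B) ≤ P.asIdeal := by
    intro γ k hγ P hP
    obtain ⟨h1, h2⟩ := hpull hP
    obtain ⟨p, hp⟩ := exists_fromSpecStalk ((fromSpecStalk_specializes P).map f.continuous)
    change ptY p = f (ptX P) at hp
    exact ⟨p, by rw [hp]; exact h2, by rw [← hγ _ h2]; exact h1, (hle p P).2 (specializes_of_eq hp)⟩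
  rw [interProd_eq_sum (δ := δX) (r := r + e) (s := s + e) _ _ ζ (by omega) (S₀.biUnion Sp) (T₀.biUnion Tq)
    (fun P hP => by
      obtain ⟨p, hp, hPp⟩ := Finset.mem_biUnion.1 hP
      exact ((hSp hp).1 hPp).1)
    (fun P hP => by
      obtain ⟨p, hp, hPp⟩ := Finset.mem_biUnion.1 hP
      exact ((hTq hp).1 hPp).1)
    (fun P hP => by
      obtain ⟨p, h1, h2, h3⟩ := hlift α r hα P hP
      have hp : p ∈ S₀ := (hαfin (f ζ)).mem_toFinset.2 h1
      exact Finset.mem_biUnion.2 ⟨p, hp, (hSp hp).2 ⟨h2, h3⟩⟩)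
    (fun P hP => by
      obtain ⟨p, h1, h2, h3⟩ := hlift β s hβ P hP
      have hp : p ∈ T₀ := (hβfin (f ζ)).mem_toFinset.2 h1
      exact Finset.mem_biUnion.2 ⟨p, hp, (hTq hp).2 ⟨h2, h3⟩⟩),
    pullFun_apply, if_pos hζe,
    interProd_eq_sum α β (f ζ) hξt S₀ T₀ (fun p hp => hα _ (hS₀ hp)) (fun p hp => hβ _ (hT₀ hp))
      (fun p hp => (hαfin (f ζ)).mem_toFinset.2 hp) (fun p hp => (hβfin (f ζ)).mem_toFinset.2 hp),
    Finset.sum_biUnion hdisjS, Finset.sum_mul]
  refine Finset.sum_congr rfl fun p hp => ?_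
  conv_rhs =>
    enter [2, P]
    rw [Finset.sum_biUnion hdisjT]
  rw [Finset.sum_comm (s := Sp p), Finset.sum_mul]
  refine Finset.sum_congr rfl fun q hq => ?_
  obtain ⟨-, hSm, hSb⟩ := hcomp r p (hα _ (hS₀ hp))
  obtain ⟨-, hTm, hTb⟩ := hcomp s q (hβ _ (hT₀ hq))
  have hcommon : ∀ t : Y, ptY p ⤳ t → ptY q ⤳ t → δY t ≤ r + s - m := fun t h1 h2 => by
    have := hprop _ _ _ (hS₀ hp) (hT₀ hq) h1 h2
    rwa [hα _ (hS₀ hp), hβ _ (hT₀ hq)] at this
  have hfinA : ∀ z : PrimeSpectrum A, p.asIdeal ≤ z.asIdeal → q.asIdeal ≤ z.asIdeal → z.asIdeal.IsMaximal := by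
    intro z h1 h2
    have h3 := hcommon (ptY z) ((fromSpecStalk_specializes_iff p z).2 h1) ((fromSpecStalk_specializes_iff q z).2 h2)
    have hz : ptY z = f ζ := by
      by_contra hne
      have h4 := (hδY' (ptY z) (f ζ) (fromSpecStalk_specializes z) hne).1
      omega
    rw [show z = closedPoint A from hinjY (hz.trans Scheme.fromSpecStalk_closedPoint.symm)]
    exact maximalIdeal.isMaximal A
  have hsupp : ∀ (I : Ideal B) (P : PrimeSpectrum B), P ∈ Module.support B (B ⧸ I) ↔ I ≤ P.asIdeal := fun I P => by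
    rw [Module.mem_support_iff_of_finite, Ideal.annihilator_quotient]
  have hcommonX : ∀ (P Q : PrimeSpectrum B) (t : X), p.asIdeal.map (algebraMap A B) ≤ P.asIdeal →
      q.asIdeal.map (algebraMap A B) ≤ Q.asIdeal → ptX P ⤳ t → ptX Q ⤳ t → t ⤳ ζ → t = ζ := by
    intro P Q t hP hQ h1 h2 h3
    by_contra hne
    have h4 := hcommon (f t) (((hle p P).1 hP).trans (h1.map f.continuous)) (((hle q Q).1 hQ).trans (h2.map f.continuous))
    have h5 := hs'.le hδX' t
    have h6 := (hδX' t ζ h3 hne).1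
    omega
  have key := devissage_chi ha (B ⧸ p.asIdeal.map (algebraMap A B)) (B ⧸ q.asIdeal.map (algebraMap A B)) (Sp p) (Tq q)
    (fun P hP => (hsupp _ P).2 ((hSp hp).1 hP).2) (fun P hP => (hsupp _ P).2 ((hTq hq).1 hP).2)
    (fun P hP Q hQ hQP => (hSm P ((hSp hp).1 hP).1 ((hSp hp).1 hP).2).2 Q ((hsupp _ Q).1 hQ) hQP)
    (fun P hP Q hQ hQP => (hTm P ((hTq hq).1 hP).1 ((hTq hq).1 hP).2).2 Q ((hsupp _ Q).1 hQ) hQP)
    (fun P hP hQ => by
      have h1 := hcommonX P P (ptX P) ((hsupp _ P).1 hP) ((hsupp _ P).1 hQ) specializes_rfl specializes_rfl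
        (fromSpecStalk_specializes P)
      rw [show P = closedPoint B from hinjX (h1.trans Scheme.fromSpecStalk_closedPoint.symm)]
      exact maximalIdeal.isMaximal B)
    (fun P hP Q hQ hor => by
      show chiQ P Q = 0
      rw [← mult_fromSpecStalk]
      refine mult_eq_zero gX hδX _ _ ζ (fromSpecStalk_specializes P) (fromSpecStalk_specializes Q)
        (fun t h1 h2 h3 => hcommonX P Q t ((hsupp _ P).1 hP) ((hsupp _ Q).1 hQ) h1 h2 h3) ?_
      have h1 : δX (ptX P) ≤ r + e := hSb P ((hsupp _ P).1 hP)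
      have h2 : δX (ptX Q) ≤ s + e := hTb Q ((hsupp _ Q).1 hQ)
      show δX (ptX P) + δX (ptX Q) - δX (genericPoint X) < δX ζ
      rcases hor with h | h
      · have : δX (ptX P) ≠ r + e := fun e' => h ((hSp hp).2 ⟨e', (hsupp _ P).1 hP⟩)
        omega
      · have : δX (ptX Q) ≠ s + e := fun e' => h ((hTq hq).2 ⟨e', (hsupp _ Q).1 hQ⟩)
        omega)
  rw [chi_flat_quot p.asIdeal q.asIdeal hfinA] at key
  show α (ptY p) * β (ptY q) * IntMult.chi A (A ⧸ p.asIdeal) (A ⧸ q.asIdeal) *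
    ((Module.length B (B ⧸ (maximalIdeal A).map (algebraMap A B))).toNat : ℤ) = _
  rw [mul_assoc _ (IntMult.chi A (A ⧸ p.asIdeal) (A ⧸ q.asIdeal)), key, Finset.mul_sum]
  refine Finset.sum_congr rfl fun P hP => ?_
  rw [Finset.mul_sum]
  refine Finset.sum_congr rfl fun Q hQ => ?_
  obtain ⟨hP1, hP2⟩ := (hSp hp).1 hP
  obtain ⟨hQ1, hQ2⟩ := (hTq hq).1 hQ
  have hfP : f (ptX P) = ptY p := (hSm P hP1 hP2).1
  have hfQ : f (ptX Q) = ptY q := (hTm Q hQ1 hQ2).1
  rw [pullFun_apply, pullFun_apply,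
    if_pos (show δX (ptX P) = δY (f (ptX P)) + e by rw [hfP, hP1, hα _ (hS₀ hp)]),
    if_pos (show δX (ptX Q) = δY (f (ptX Q)) + e by rw [hfQ, hQ1, hβ _ (hT₀ hq)])]
  rw [show lp P (B ⧸ p.asIdeal.map (algebraMap A B)) = _ from lp_fibre f P p hfP,
    show lp Q (B ⧸ q.asIdeal.map (algebraMap A B)) = _ from lp_fibre f Q q hfQ]
  show _ = α (f (ptX P)) * _ * (β (f (ptX Q)) * _) * chiQ P Q
  rw [hfP, hfQ]
  unfold chiQ
  ring

end Groth.Agent.ChiCycLib
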