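import Mathlib
import Groth.Agent.ChiCycLib.Pull
import Groth.Agent.IMultLib.ExtProdPull
import Groth.Agent.S1582

/-! Reduction to the diagonal for cycles. -/

set_option autoImplicit false
set_option linter.style.haveILetI false
set_option linter.unusedSectionVars false
set_option backward.isDefEq.respectTransparency false

universe u

open CategoryTheory CategoryTheory.Limits AlgebraicGeometry IsLocalRing Groth.Agent Groth.Agent.CycLib
open Groth.Agent.DiagRedLib (Bd φd ψd δd fst_diag snd_diag)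

noncomputable section

namespace Groth.Agent.ChiCycLib

variable {X : Scheme.{u}}

theorem map_ker_specMap_eq {x y : X} (e : x = y) {ξ : X} (h : ξ ⤳ y) (h' : ξ ⤳ x) :
    (RingHom.ker (Cyc.specMap y ξ h)).map (X.presheaf.stalkSpecializes (specializes_of_eq e)).hom =
      RingHom.ker (Cyc.specMap x ξ h') := by
  subst e
  rw [TopCat.Presheaf.stalkSpecializes_refl, CommRingCat.hom_id, Ideal.map_id]

theorem finite_cycle {Y : Scheme.{u}} (γ : AlgebraicCycle Y ℤ) (y : Y) :
    {p : PrimeSpectrum (Y.presheaf.stalk y) | γ (Y.fromSpecStalk y p) ≠ 0}.Finite := by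
  obtain ⟨t, ht, hfin⟩ := γ.supportLocallyFiniteWithinDomain' y (Set.mem_univ y)
  obtain ⟨U, hUt, hU, hyU⟩ := mem_nhds_iff.1 ht
  refine Set.Finite.of_injOn (f := fun p => Y.fromSpecStalk y p) (fun p hp => ?_)
    (Y.fromSpecStalk y).isEmbedding.injective.injOn hfin
  exact ⟨hUt ((fromSpecStalk_specializes p).mem_open hU hyU), hp⟩

variable {K : Type u} [Field K] (f : X ⟶ Spec (CommRingCat.of K)) [Smooth f] [IsSeparated f]

theorem map_φd_eq (ζ : X) (p : PrimeSpectrum (X.presheaf.stalk ζ))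
    (h : X.fromSpecStalk ζ p ⤳ pullback.fst f f (pullback.diagonal f ζ)) :
    p.asIdeal.map (φd f ζ) = clIdeal (pullback.fst f f) (pullback.diagonal f ζ) (X.fromSpecStalk ζ p) h := by
  unfold clIdeal
  rw [← map_ker_specMap_eq (fst_diag f ζ) (fromSpecStalk_specializes p) h, ker_specMap_eq p, Ideal.map_map]
  rfl

theorem map_ψd_eq (ζ : X) (p : PrimeSpectrum (X.presheaf.stalk ζ))
    (h : X.fromSpecStalk ζ p ⤳ pullback.snd f f (pullback.diagonal f ζ)) :
    p.asIdeal.map (ψd f ζ) = clIdeal (pullback.snd f f) (pullback.diagonal f ζ) (X.fromSpecStalk ζ p) h := by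
  unfold clIdeal
  rw [← map_ker_specMap_eq (snd_diag f ζ) (fromSpecStalk_specializes p) h, ker_specMap_eq p, Ideal.map_map]
  rfl

theorem map_φd_le_iff (ζ : X) (p : PrimeSpectrum (X.presheaf.stalk ζ)) (P : PrimeSpectrum (Bd f ζ)) :
    p.asIdeal.map (φd f ζ) ≤ P.asIdeal ↔
      X.fromSpecStalk ζ p ⤳ pullback.fst f f ((pullback f f).fromSpecStalk (pullback.diagonal f ζ) P) := by
  rw [map_φd_eq f ζ p ((fromSpecStalk_specializes p).trans (specializes_of_eq (fst_diag f ζ).symm))]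
  exact clIdeal_le_iff _ P

theorem map_ψd_le_iff (ζ : X) (p : PrimeSpectrum (X.presheaf.stalk ζ)) (P : PrimeSpectrum (Bd f ζ)) :
    p.asIdeal.map (ψd f ζ) ≤ P.asIdeal ↔
      X.fromSpecStalk ζ p ⤳ pullback.snd f f ((pullback f f).fromSpecStalk (pullback.diagonal f ζ) P) := by
  rw [map_ψd_eq f ζ p ((fromSpecStalk_specializes p).trans (specializes_of_eq (snd_diag f ζ).symm))]
  exact clIdeal_le_iff _ P

theorem lp_diag [IsLocallyNoetherian X] [IsLocallyNoetherian (pullback f f)] (ζ : X)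
    (P : PrimeSpectrum (Bd f ζ)) (p q : PrimeSpectrum (X.presheaf.stalk ζ))
    (hp : pullback.fst f f ((pullback f f).fromSpecStalk (pullback.diagonal f ζ) P) = X.fromSpecStalk ζ p)
    (hq : pullback.snd f f ((pullback f f).fromSpecStalk (pullback.diagonal f ζ) P) = X.fromSpecStalk ζ q) :
    lp P (Bd f ζ ⧸ (p.asIdeal.map (φd f ζ) ⊔ q.asIdeal.map (ψd f ζ))) =
      ((Module.length ((pullback f f).presheaf.stalk ((pullback f f).fromSpecStalk (pullback.diagonal f ζ) P))
        ((pullback f f).presheaf.stalk ((pullback f f).fromSpecStalk (pullback.diagonal f ζ) P) ⧸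
          (fibIdeal (pullback.fst f f) ((pullback f f).fromSpecStalk (pullback.diagonal f ζ) P) ⊔
            fibIdeal (pullback.snd f f) ((pullback f f).fromSpecStalk (pullback.diagonal f ζ) P)))).toNat : ℤ) := by
  set w := pullback.diagonal f ζ
  set z := (pullback f f).fromSpecStalk w P
  have hη : z ⤳ w := fromSpecStalk_specializes P
  letI := ((pullback f f).presheaf.stalkSpecializes hη).hom.toAlgebra
  haveI hloc : IsLocalization.AtPrime ((pullback f f).presheaf.stalk z) P.asIdeal := by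
    have h1 := S5090.isLocalization_stalkSpecializes hη
    have hm : (maximalIdeal ((pullback f f).presheaf.stalk z)).comap ((pullback f f).presheaf.stalkSpecializes hη).hom =
        P.asIdeal := by
      rw [← ker_specMap_eq P hη]
      ext a
      exact (IsLocalRing.residue_eq_zero_iff _).symm
    simpa only [hm] using h1
  rw [lp, length_localized_quot (S := (pullback f f).presheaf.stalk z) P.asIdeal
    (p.asIdeal.map (φd f ζ) ⊔ q.asIdeal.map (ψd f ζ)), ← clIdeal_map (p := pullback.fst f f) hη,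
    ← clIdeal_map (p := pullback.snd f f) hη, Ideal.map_sup]
  have key : ∀ (g : pullback f f ⟶ X) (a : X) (_ : g z = a) (ha : a ⤳ g w),
      clIdeal g w (g z) (hη.map g.continuous) = clIdeal g w a ha := by
    rintro g a rfl ha
    rfl
  rw [key (pullback.fst f f) _ hp ((fromSpecStalk_specializes p).trans (specializes_of_eq (fst_diag f ζ).symm)),
    key (pullback.snd f f) _ hq ((fromSpecStalk_specializes q).trans (specializes_of_eq (snd_diag f ζ).symm)),
    ← map_φd_eq, ← map_ψd_eq]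
  rfl

theorem fromSpecStalk_ker_δd [IsIntegral X] (ζ : X) :
    ∃ D : PrimeSpectrum (Bd f ζ), D.asIdeal = RingHom.ker (δd f ζ) ∧
      (pullback f f).fromSpecStalk (pullback.diagonal f ζ) D = pullback.diagonal f (genericPoint X) := by
  let b : PrimeSpectrum (X.presheaf.stalk ζ) := ⟨⊥, Ideal.isPrime_bot⟩
  refine ⟨PrimeSpectrum.comap (δd f ζ) b, (RingHom.ker_eq_comap_bot _).symm, ?_⟩
  have hb : X.fromSpecStalk ζ b = genericPoint X := by
    obtain ⟨p, hp⟩ := exists_fromSpecStalk (genericPoint_specializes ζ)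
    have h1 : X.fromSpecStalk ζ b ⤳ genericPoint X := hp ▸ (fromSpecStalk_specializes_iff b p).2 bot_le
    exact (h1.antisymm (genericPoint_specializes _)).eq
  rw [← hb]
  exact congrArg (fun φ : Spec (X.presheaf.stalk ζ) ⟶ pullback f f => φ b)
    (Scheme.SpecMap_stalkMap_fromSpecStalk (f := pullback.diagonal f) (x := ζ))

variable {δ : X → ℤ} {δ₂ : ↥(pullback f f) → ℤ}

omit [Smooth f] in
theorem delta_diag [LocallyOfFiniteType f] (h₂' : Cyc.DeltaCompat (pullback.fst f f) δ₂ δ) (x : X) :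
    δ₂ (pullback.diagonal f x) = δ x := by
  obtain ⟨t, ht, he⟩ := h₂' (pullback.diagonal f x)
  have h := FlatDim.resTrdegAt_comp (pullback.diagonal f) (pullback.fst f f) x
  rw [pullback.diagonal_fst, show DimFormulaLib.resTrdegAt (pullback.fst f f) (pullback.diagonal f x) = (t : Cardinal) from ht,
    GenIrredLib.resTrdegAt_locallyQuasiFinite (𝟙 X) x] at h
  have ht0 : (t : Cardinal.{u}) = 0 := le_antisymm (le_of_le_of_eq le_self_add h.symm) zero_le
  have : t = 0 := by exact_mod_cast ht0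
  subst this
  rw [he, fst_diag, Nat.cast_zero, add_zero]

set_option maxHeartbeats 1000000 in
/-- Reduction to the diagonal. -/
theorem map_diag_interProd [IsAlgClosed K] [IsIntegral X] [QuasiCompact f] (hX : Cyc.IsSetup X δ)
    (hδ : Cyc.DeltaCompat f δ (fun _ => 0)) (n : ℕ) (hn : δ (genericPoint X) = n)
    (h₂ : Cyc.DeltaCompat (pullback.fst f f ≫ f) δ₂ (fun _ => 0))
    (h₂' : Cyc.DeltaCompat (pullback.fst f f) δ₂ δ) {r s : ℤ} (α β : AlgebraicCycle X ℤ) (hα : α ∈ Cyc.Zk X δ r)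
    (hβ : β ∈ Cyc.Zk X δ s) (hprop : IntMult.IntersectProperly δ n ⇑α ⇑β) :
    IntMult.IntersectProperly δ₂ ((n : ℤ) + n) (Set.indicator {pullback.diagonal f (genericPoint X)} 1)
        (IntMult.extProd f f δ δ δ₂ ⇑α ⇑β) ∧
      (∀ w, IntMult.interProd δ₂ ((n : ℤ) + n) (Set.indicator {pullback.diagonal f (genericPoint X)} 1)
          (IntMult.extProd f f δ δ δ₂ ⇑α ⇑β) w ≠ 0 → w = pullback.diagonal f (pullback.fst f f w)) ∧
      ∀ ζ, IntMult.interProd δ₂ ((n : ℤ) + n) (Set.indicator {pullback.diagonal f (genericPoint X)} 1)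
          (IntMult.extProd f f δ δ δ₂ ⇑α ⇑β) (pullback.diagonal f ζ) = IntMult.interProd δ n ⇑α ⇑β ζ := by
  classical
  haveI : IsIntegral (pullback f f) := S1582.result K X X f f
  haveI : GeometricallyIntegral f := AVLib.geometricallyIntegral_of_isIntegral f
  haveI := hX.1
  have hsP := isSetup_of_lft (pullback.fst f f ≫ f) (isSetup_spec_field K) h₂
  haveI := hsP.1
  have hδ' := hX.2.2
  have hδ2' := hsP.2.2
  set Δ := pullback.diagonal f with hΔ
  have hdiag : ∀ x, δ₂ (Δ x) = δ x := delta_diag f h₂'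
  have hle : ∀ t, δ₂ t ≤ δ (pullback.fst f f t) + δ (pullback.snd f f t) :=
    CrossLib.delta_le_add f f _ _ (IsPullback.of_hasPullback f f) δ δ δ₂ hδ hδ h₂'
  have hn₂ : δ₂ (genericPoint ↥(pullback f f)) = (n : ℤ) + n := by
    have hsh := IMultLib.isShift_prodFst (IsPullback.of_hasPullback f f) hδ hδ h₂ n hn
    obtain ⟨w, hw, hwe⟩ := Flat.generalizingMap (f := pullback.fst f f)
      (genericPoint_specializes (pullback.fst f f (genericPoint ↥(pullback f f))))
    have hq : pullback.fst f f (genericPoint ↥(pullback f f)) = genericPoint X := by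
      rw [← hwe, (hw.antisymm (genericPoint_specializes w)).eq]
    rw [hsh _ fun v _ hv => (hv.antisymm (genericPoint_specializes v)).eq, hq, hn]
  have hext : ∀ {z}, IntMult.extProd f f δ δ δ₂ ⇑α ⇑β z ≠ 0 → δ₂ z = r + s ∧ δ (pullback.fst f f z) = r ∧
      δ (pullback.snd f f z) = s ∧ α (pullback.fst f f z) ≠ 0 ∧ β (pullback.snd f f z) ≠ 0 := by
    intro z h
    rw [IntMult.extProd] at h
    split_ifs at h with hd
    · have h1 := left_ne_zero_of_mul (left_ne_zero_of_mul h)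
      have h2 := right_ne_zero_of_mul (left_ne_zero_of_mul h)
      have h3 : δ (pullback.fst f f z) = r := by_contra fun e => h1 (hα _ e)
      have h4 : δ (pullback.snd f f z) = s := by_contra fun e => h2 (hβ _ e)
      exact ⟨by omega, h3, h4, h1, h2⟩
    · exact absurd rfl h
  have hind : ∀ {z}, Set.indicator {Δ (genericPoint X)} (1 : ↥(pullback f f) → ℤ) z ≠ 0 → z = Δ (genericPoint X) :=
    fun {z} h => Set.mem_singleton_iff.1 (Set.mem_of_indicator_ne_zero h)
  have honD : ∀ {t}, Δ (genericPoint X) ⤳ t → t = Δ (pullback.fst f f t) := by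
    intro t h
    obtain ⟨τ, rfl⟩ := h.mem_closed Δ.isClosedEmbedding.isClosed_range ⟨_, rfl⟩
    rw [fst_diag]
  -- points of the diagonal below a point of the product
  have hbound : ∀ {x y z τ}, α x ≠ 0 → β y ≠ 0 → x ⤳ pullback.fst f f z → y ⤳ pullback.snd f f z → z ⤳ Δ τ →
      δ τ ≤ r + s - n := by
    intro x y z τ hx hy hxz hyz hz
    have h1 := hz.map (pullback.fst f f).continuous
    have h2 := hz.map (pullback.snd f f).continuous
    rw [hΔ, fst_diag] at h1
    rw [hΔ, snd_diag] at h2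
    have := hprop x y τ hx hy (hxz.trans h1) (hyz.trans h2)
    have h3 : δ x = r := by_contra fun e => hx (hα _ e)
    have h4 : δ y = s := by_contra fun e => hy (hβ _ e)
    omega
  refine ⟨fun a b t ha hb hat hbt => ?_, fun w hw => ?_, fun ζ => ?_⟩
  · obtain ⟨h1, -, -, h4, h5⟩ := hext hb
    rw [hind ha] at hat ⊢
    rw [honD hat] at hbt ⊢
    rw [hdiag, hdiag, hn]
    have := hbound h4 h5 specializes_rfl specializes_rfl hbt
    omega
  · obtain ⟨p, hp⟩ : ∃ p : {p : ↥(pullback f f) × ↥(pullback f f) // p.1 ⤳ w ∧ p.2 ⤳ w ∧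
        δ₂ p.1 + δ₂ p.2 - ((n : ℤ) + n) = δ₂ w},
        Set.indicator {Δ (genericPoint X)} (1 : ↥(pullback f f) → ℤ) p.1.1 ≠ 0 := by
      by_contra hcon
      push Not at hcon
      exact hw (finsum_eq_zero_of_forall_eq_zero fun p => by rw [hcon p, zero_mul, zero_mul])
    have := p.2.1
    rw [hind hp] at this
    exact honD this
  by_cases hζ : δ ζ = r + s - n
  swap
  · have hR : IntMult.interProd δ n ⇑α ⇑β ζ = 0 := by
      refine finsum_eq_zero_of_forall_eq_zero fun p => ?_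
      by_contra hne
      have h1 : δ p.1.1 = r := by_contra fun e => left_ne_zero_of_mul (left_ne_zero_of_mul hne) (hα _ e)
      have h2 : δ p.1.2 = s := by_contra fun e => right_ne_zero_of_mul (left_ne_zero_of_mul hne) (hβ _ e)
      have := p.2.2.2
      omega
    rw [hR]
    refine finsum_eq_zero_of_forall_eq_zero fun p => ?_
    by_contra hne
    obtain ⟨h1, -, -, -, -⟩ := hext (right_ne_zero_of_mul (left_ne_zero_of_mul hne))
    have h2 := p.2.2.2
    rw [hind (left_ne_zero_of_mul (left_ne_zero_of_mul hne)), hdiag, hn, h1, hdiag] at h2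
    omega
  -- the main case
  haveI := Groth.Agent.ASp.isRegularLocalRing_stalk_of_smooth_field f ζ
  haveI : Smooth (pullback.fst f f ≫ f) := inferInstance
  haveI : IsRegularLocalRing (Bd f ζ) :=
    Groth.Agent.ASp.isRegularLocalRing_stalk_of_smooth_field (pullback.fst f f ≫ f) (pullback.diagonal f ζ)
  obtain ⟨b, hb, -⟩ := dim_stalk (pullback.fst f f ≫ f) h₂ (Δ ζ)
  let A := X.presheaf.stalk ζ
  let B := Bd f ζ
  let ptA : PrimeSpectrum A → X := fun p => X.fromSpecStalk ζ p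
  let ptB : PrimeSpectrum B → ↥(pullback f f) := fun P => (pullback f f).fromSpecStalk (Δ ζ) P
  have hinjA : Function.Injective ptA := (X.fromSpecStalk ζ).isEmbedding.injective
  have hinjB : Function.Injective ptB := ((pullback f f).fromSpecStalk (Δ ζ)).isEmbedding.injective
  obtain ⟨D, hD, hDpt⟩ := fromSpecStalk_ker_δd f ζ
  change ptB D = Δ (genericPoint X) at hDpt
  let S₀ := (finite_cycle α ζ).toFinset
  let T₀ := (finite_cycle β ζ).toFinset
  have hS₀ : ∀ {p}, p ∈ S₀ → α (ptA p) ≠ 0 := fun {p} h => (finite_cycle α ζ).mem_toFinset.1 h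
  have hT₀ : ∀ {p}, p ∈ T₀ → β (ptA p) ≠ 0 := fun {p} h => (finite_cycle β ζ).mem_toFinset.1 h
  have hSr : ∀ {p}, p ∈ S₀ → δ (ptA p) = r := fun {p} h => by_contra fun e => hS₀ h (hα _ e)
  have hTs : ∀ {p}, p ∈ T₀ → δ (ptA p) = s := fun {p} h => by_contra fun e => hT₀ h (hβ _ e)
  let J : PrimeSpectrum A × PrimeSpectrum A → Ideal B := fun i => i.1.asIdeal.map (φd f ζ) ⊔ i.2.asIdeal.map (ψd f ζ)
  have hJ : ∀ {i P}, J i ≤ P.asIdeal ↔ ptA i.1 ⤳ pullback.fst f f (ptB P) ∧ ptA i.2 ⤳ pullback.snd f f (ptB P) :=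
    fun {i P} => sup_le_iff.trans (and_congr (map_φd_le_iff f ζ i.1 P) (map_ψd_le_iff f ζ i.2 P))
  have hcomp : ∀ i ∈ S₀ ×ˢ T₀, ({P : PrimeSpectrum B | δ₂ (ptB P) = r + s ∧ J i ≤ P.asIdeal}.Finite ∧
      (∀ P, δ₂ (ptB P) = r + s → J i ≤ P.asIdeal → pullback.fst f f (ptB P) = ptA i.1 ∧
        pullback.snd f f (ptB P) = ptA i.2 ∧ ∀ Q, J i ≤ Q.asIdeal → Q.asIdeal ≤ P.asIdeal → Q = P) ∧
      ∀ P, J i ≤ P.asIdeal → δ₂ (ptB P) ≤ r + s) := by
    intro i hi
    obtain ⟨hi1, hi2⟩ := Finset.mem_product.1 hi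
    have hbd : ∀ P, J i ≤ P.asIdeal → δ₂ (ptB P) ≤ r + s := fun P hP => by
      have h0 := hle (ptB P)
      have h1 := delta_le hδ' (hJ.1 hP).1
      have h2 := delta_le hδ' (hJ.1 hP).2
      rw [hSr hi1] at h1
      rw [hTs hi2] at h2
      omega
    have hmin : ∀ P, δ₂ (ptB P) = r + s → J i ≤ P.asIdeal → pullback.fst f f (ptB P) = ptA i.1 ∧
        pullback.snd f f (ptB P) = ptA i.2 ∧ ∀ Q, J i ≤ Q.asIdeal → Q.asIdeal ≤ P.asIdeal → Q = P := by
      intro P hP hJP
      have h0 := hle (ptB P)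
      have h1 := delta_le hδ' (hJ.1 hJP).1
      have h2 := delta_le hδ' (hJ.1 hJP).2
      rw [hSr hi1] at h1
      rw [hTs hi2] at h2
      refine ⟨?_, ?_, fun Q hQ hQP => ?_⟩
      · by_contra hne
        have h3 := (hδ' _ _ (hJ.1 hJP).1 (Ne.symm hne)).1
        rw [hSr hi1] at h3
        omega
      · by_contra hne
        have h3 := (hδ' _ _ (hJ.1 hJP).2 (Ne.symm hne)).1
        rw [hTs hi2] at h3
        omega
      · by_contra hne
        have h3 := (hδ2' (ptB Q) (ptB P) ((fromSpecStalk_specializes_iff Q P).2 hQP) (hinjB.ne hne)).1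
        have h4 := hbd Q hQ
        omega
    refine ⟨?_, hmin, hbd⟩
    haveI : Finite (J i).minimalPrimes := (Ideal.finite_minimalPrimes_of_isNoetherianRing _ (J i)).to_subtype
    refine Set.Finite.subset ((Set.finite_range fun R : (J i).minimalPrimes =>
      (⟨R.1, R.2.1.1⟩ : PrimeSpectrum B))) fun P hP => ?_
    refine ⟨⟨P.asIdeal, ⟨P.2, hP.2⟩, fun R hR hRP => ?_⟩, rfl⟩
    exact (congrArg PrimeSpectrum.asIdeal ((hmin P hP.1 hP.2).2.2 ⟨R, hR.1⟩ hR.2 hRP)).ge
  let C : PrimeSpectrum A × PrimeSpectrum A → Finset (PrimeSpectrum B) := fun i =>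
    if h : i ∈ S₀ ×ˢ T₀ then (hcomp i h).1.toFinset else ∅
  have hC : ∀ {i P}, i ∈ S₀ ×ˢ T₀ → (P ∈ C i ↔ δ₂ (ptB P) = r + s ∧ J i ≤ P.asIdeal) := fun {i P} hi => by
    simp only [C, dif_pos hi, Set.Finite.mem_toFinset, Set.mem_ofPred_eq]
  have hdisj : ((S₀ ×ˢ T₀ : Finset _) : Set (PrimeSpectrum A × PrimeSpectrum A)).PairwiseDisjoint C :=
    fun i hi j hj hne => by
      refine Finset.disjoint_left.2 fun P hP hP' => hne ?_
      obtain ⟨h1, h1'⟩ := (hC hi).1 hP
      obtain ⟨h2, h2'⟩ := (hC hj).1 hP'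
      obtain ⟨e1, e2, -⟩ := (hcomp i hi).2.1 P h1 h1'
      obtain ⟨e3, e4, -⟩ := (hcomp j hj).2.1 P h2 h2'
      exact Prod.ext (hinjA (e1.symm.trans e3)) (hinjA (e2.symm.trans e4))
  have hlift : ∀ P, IntMult.extProd f f δ δ δ₂ ⇑α ⇑β (ptB P) ≠ 0 → P ∈ (S₀ ×ˢ T₀).biUnion C := by
    intro P hP
    obtain ⟨h1, -, -, h4, h5⟩ := hext hP
    have hw := fromSpecStalk_specializes P
    obtain ⟨p, hp⟩ := exists_fromSpecStalk (x := ζ) ((hw.map (pullback.fst f f).continuous).trans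
      (specializes_of_eq (fst_diag f ζ)))
    obtain ⟨q, hq⟩ := exists_fromSpecStalk (x := ζ) ((hw.map (pullback.snd f f).continuous).trans
      (specializes_of_eq (snd_diag f ζ)))
    change ptA p = pullback.fst f f (ptB P) at hp
    change ptA q = pullback.snd f f (ptB P) at hq
    have hpq : (p, q) ∈ S₀ ×ˢ T₀ := Finset.mem_product.2
      ⟨(finite_cycle α ζ).mem_toFinset.2 (show α (ptA p) ≠ 0 by rw [hp]; exact h4),
        (finite_cycle β ζ).mem_toFinset.2 (show β (ptA q) ≠ 0 by rw [hq]; exact h5)⟩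
    exact Finset.mem_biUnion.2 ⟨(p, q), hpq, (hC hpq).2 ⟨h1, hJ.2 ⟨specializes_of_eq hp, specializes_of_eq hq⟩⟩⟩
  rw [interProd_eq_sum (δ := δ₂) (r := (n : ℤ)) (s := r + s) _ _ (Δ ζ) (by rw [hdiag]; omega) {D}
    ((S₀ ×ˢ T₀).biUnion C) (fun P hP => by
      rw [Finset.mem_singleton.1 hP]
      show δ₂ (ptB D) = _
      rw [hDpt, hdiag, hn])
    (fun P hP => by
      obtain ⟨i, hi, hPi⟩ := Finset.mem_biUnion.1 hP
      exact ((hC hi).1 hPi).1)
    (fun P hP => Finset.mem_singleton.2 (hinjB ((hind hP).trans hDpt.symm))) hlift,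
    Finset.sum_singleton, Finset.sum_biUnion hdisj,
    interProd_eq_sum (δ := δ) ⇑α ⇑β ζ hζ S₀ T₀ (fun p hp => hSr hp) (fun p hp => hTs hp)
      (fun p hp => (finite_cycle α ζ).mem_toFinset.2 hp) (fun p hp => (finite_cycle β ζ).mem_toFinset.2 hp),
    ← Finset.sum_product']
  refine Finset.sum_congr rfl fun i hi => ?_
  obtain ⟨hi1, hi2⟩ := Finset.mem_product.1 hi
  obtain ⟨-, hmin, hbd⟩ := hcomp i hi
  have hDone : Set.indicator {Δ (genericPoint X)} (1 : ↥(pullback f f) → ℤ)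
      ((pullback f f).fromSpecStalk (Δ ζ) D) = 1 := by
    rw [show (pullback f f).fromSpecStalk (Δ ζ) D = Δ (genericPoint X) from hDpt,
      Set.indicator_of_mem (Set.mem_singleton _), Pi.one_apply]
  have hsupp : ∀ (I : Ideal B) (P : PrimeSpectrum B), P ∈ Module.support B (B ⧸ I) ↔ I ≤ P.asIdeal := fun I P => by
    rw [Module.mem_support_iff_of_finite, Ideal.annihilator_quotient]
  have hmax : ∀ (P : PrimeSpectrum B) (t : ↥(pullback f f)), J i ≤ P.asIdeal → Δ (genericPoint X) ⤳ t →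
      ptB P ⤳ t → t ⤳ Δ ζ → t = Δ ζ := by
    intro P t hP h1 h2 h3
    have ht := honD h1
    rw [ht] at h2 h3 ⊢
    have h4 := hbound (hS₀ hi1) (hT₀ hi2) (hJ.1 hP).1 (hJ.1 hP).2 h2
    have h5 := h3.map (pullback.fst f f).continuous
    rw [hΔ, fst_diag, fst_diag] at h5
    refine congrArg Δ ?_
    by_contra hne
    have h6 := (hδ' _ _ h5 hne).1
    omega
  have hfinite : ∀ P : PrimeSpectrum B, J i ≤ P.asIdeal → D.asIdeal ≤ P.asIdeal → P.asIdeal.IsMaximal := by
    intro P h1 h2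
    have h3 : Δ (genericPoint X) ⤳ ptB P := hDpt ▸ (fromSpecStalk_specializes_iff D P).2 h2
    have h4 := hmax P (ptB P) h1 h3 specializes_rfl (fromSpecStalk_specializes P)
    rw [show P = closedPoint B from hinjB (h4.trans Scheme.fromSpecStalk_closedPoint.symm)]
    exact maximalIdeal.isMaximal B
  have key := devissage (Module.support B (B ⧸ J i)) (C i)
    (fun P hP Q hQ hQP => (hmin P ((hC hi).1 hP).1 ((hC hi).1 hP).2).2.2 Q ((hsupp _ Q).1 hQ) hQP)
    (fun M _ _ => IntMult.chi B M (B ⧸ D.asIdeal))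
    (fun M₁ M₂ M₃ _ _ _ _ _ _ _ g h hg hh hgh hsub => chi_add hb g h hg hh hgh _ fun P hP hP' =>
      hfinite P ((hsupp _ P).1 (hsub hP)) ((hsupp _ P).1 hP'))
    (fun P hP hPC => by
      show IntMult.chi B (B ⧸ P.asIdeal) (B ⧸ D.asIdeal) = 0
      refine Eq.trans (mult_fromSpecStalk (ζ := Δ ζ) P D).symm ?_
      refine mult_eq_zero (pullback.fst f f ≫ f) h₂ _ _ (Δ ζ) (fromSpecStalk_specializes P) (fromSpecStalk_specializes D)
        (fun t h1 h2 h3 => hmax P t ((hsupp _ P).1 hP) (hDpt ▸ h2) h1 h3) ?_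
      show δ₂ (ptB P) + δ₂ (ptB D) - δ₂ (genericPoint ↥(pullback f f)) < δ₂ (Δ ζ)
      have h1 := hbd P ((hsupp _ P).1 hP)
      have h2 : δ₂ (ptB P) ≠ r + s := fun e => hPC ((hC hi).2 ⟨e, (hsupp _ P).1 hP⟩)
      rw [hDpt, hdiag, hdiag, hn, hn₂]
      omega)
    (B ⧸ J i) Set.Subset.rfl
  have hdiagchi : IntMult.chi B (B ⧸ J i) (B ⧸ D.asIdeal) = IntMult.chi A (A ⧸ i.1.asIdeal) (A ⧸ i.2.asIdeal) := by
    rw [hD, DiagRedLib.chi_comm]
    refine (DiagRedLib.chi_diag (φd f ζ) (ψd f ζ) (δd f ζ) (DiagRedLib.δ_φ f ζ) (DiagRedLib.δ_ψ f ζ)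
      (DiagRedLib.flat_ψd f ζ) i.1.asIdeal i.2.asIdeal ?_).symm
    have hmem : ζ ∈ (IntMult.ptIdeal (ptA i.2)).support := by
      rw [← SetLike.mem_coe, IMultLib.coe_support_ptIdeal, ← specializes_iff_mem_closure]
      exact fromSpecStalk_specializes _
    have := DiagRedLib.flat_quot_ψd f (IntMult.ptIdeal (ptA i.2)) ζ hmem
    rwa [stalkIdeal_ptIdeal_fromSpecStalk i.2] at this
  rw [hdiagchi] at key
  show _ = α (ptA i.1) * β (ptA i.2) * IntMult.chi A (A ⧸ i.1.asIdeal) (A ⧸ i.2.asIdeal)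
  rw [key, Finset.mul_sum]
  refine Finset.sum_congr rfl fun P hP => ?_
  obtain ⟨hP1, hP2⟩ := (hC hi).1 hP
  obtain ⟨e1, e2, -⟩ := hmin P hP1 hP2
  rw [hDone, one_mul, show lp P (B ⧸ J i) = _ from lp_diag f ζ P i.1 i.2 e1 e2, IntMult.extProd,
    if_pos (show δ₂ (ptB P) = δ (pullback.fst f f (ptB P)) + δ (pullback.snd f f (ptB P)) by
      rw [e1, e2, hSr hi1, hTs hi2, hP1])]
  show α (pullback.fst f f (ptB P)) * β (pullback.snd f f (ptB P)) * _ * chiQ D P = _
  rw [show α (pullback.fst f f (ptB P)) = α (ptA i.1) from congrArg _ e1, show β (pullback.snd f f (ptB P)) = β (ptA i.2) from congrArg _ e2]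
  unfold chiQ
  rw [DiagRedLib.chi_comm (A := B) (B ⧸ D.asIdeal)]
  exact mul_assoc _ _ _

end Groth.Agent.ChiCycLib
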