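import Mathlib
import Groth.Agent.ChiCycLib.AltTor
import Groth.Agent.DiagRedLib.Chi
import Groth.Agent.FlatCx.TorBC

/-! The triple Euler characteristic is invariant under rotation. -/

set_option autoImplicit false
set_option linter.style.haveILetI false
set_option linter.unusedSectionVars false
set_option backward.isDefEq.respectTransparency false

universe u

open CategoryTheory CategoryTheory.Limits IsLocalRing TensorProduct Groth.Agent Groth.Agent.KEulerLib

noncomputable section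

namespace Groth.Agent.ChiCycLib

variable {A : Type u} [CommRing A]

/-- `χ(-, N)` is additive on modules meeting the support of `N` in closed points. -/
theorem addOn_chi [IsRegularLocalRing A] {a : ℕ} (ha : ringKrullDim A = (a : WithBot ℕ∞)) (N : Type u)
    [AddCommGroup N] [Module A N] [Module.Finite A N] :
    AddOn {p | p ∈ Module.support A N → p.asIdeal.IsMaximal} (fun T _ _ => IntMult.chi A T N) :=
  fun _ _ _ _ _ _ _ _ _ _ f g hf hg hfg hs => chi_add ha f g hf hg hfg N fun _ hp hN => hs hp hN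

/-- `Σ_i (-1)^i χ(A/u, Tor_i(A/v, A/w))`. -/
def Phi (A : Type u) [CommRing A] (u v w : Ideal A) : ℤ :=
  ∑ᶠ i : ℕ, (-1 : ℤ) ^ i * IntMult.chi A (A ⧸ u) (DRing.Tor A i (A ⧸ v) (A ⧸ w))

theorem Phi_eq_sum [IsRegularLocalRing A] {a : ℕ} (ha : ringKrullDim A = (a : WithBot ℕ∞)) (u v w : Ideal A)
    {N : ℕ} (hN : a < N) :
    Phi A u v w = ∑ i ∈ Finset.range N, (-1 : ℤ) ^ i * IntMult.chi A (A ⧸ u) (DRing.Tor A i (A ⧸ v) (A ⧸ w)) := by
  refine finsum_eq_sum_of_support_subset _ fun i hi => ?_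
  rw [Finset.coe_range, Set.mem_Iio]
  by_contra hlt
  haveI := subsingleton_tor ha (A ⧸ v) (A ⧸ w) i (by omega)
  refine hi ?_
  show (-1 : ℤ) ^ i * IntMult.chi A (A ⧸ u) (DRing.Tor A i (A ⧸ v) (A ⧸ w)) = 0
  rw [DiagRedLib.chi_comm]
  exact mul_eq_zero_of_right _ ((addOn_chi ha (A ⧸ u)).zero _)

variable {B : Type u} [CommRing B]

/-- Iterated quotients. -/
def quotEquiv (φ : A →+* B) (J : Ideal B) (I : Ideal A) :
    ((B ⧸ J) ⧸ I.map ((Ideal.Quotient.mk J).comp φ)) ≃ₐ[B] B ⧸ (I.map φ ⊔ J) :=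
  (Ideal.quotientEquivAlgOfEq B (show _ = (I.map φ).map (Ideal.Quotient.mkₐ B J) from
    (Ideal.map_map φ (Ideal.Quotient.mk J)).symm)).trans
    ((DoubleQuot.quotQuotEquivQuotSupₐ B J (I.map φ)).trans (Ideal.quotientEquivAlgOfEq B (sup_comm _ _)))

variable (φ ψ : A →+* B) (δ : B →+* A) (hφ : δ.comp φ = RingHom.id A) (hψ : δ.comp ψ = RingHom.id A)

include hφ hψ in
/-- `Tor` at the diagonal, with its semilinear structure. -/
theorem exists_diag_equiv (hψf : ψ.Flat) (v w : Ideal A) (hw : ((Ideal.Quotient.mk (w.map ψ)).comp φ).Flat) (j : ℕ) :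
    ∃ e : DRing.Tor A j (A ⧸ v) (A ⧸ w) ≃+
        DRing.Tor B j (B ⧸ RingHom.ker δ) (B ⧸ (v.map φ ⊔ w.map ψ)), ∀ a x, e (a • x) = φ a • e x := by
  letI : Algebra A (B ⧸ w.map ψ) := ((Ideal.Quotient.mk (w.map ψ)).comp φ).toAlgebra
  haveI : Module.Flat A (B ⧸ w.map ψ) := hw
  let L := RingHom.ker δ
  let K : Ideal (B ⧸ w.map ψ) := L.map (algebraMap B (B ⧸ w.map ψ))
  let C : Ideal (B ⧸ w.map ψ) := v.map (algebraMap A (B ⧸ w.map ψ))
  have hvan : ∀ n : ℕ, Subsingleton (DRing.Tor B (n + 1) (B ⧸ w.map ψ) (B ⧸ L)) := fun n => by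
    letI : Algebra A B := ψ.toAlgebra
    haveI : Module.Flat A B := hψf
    haveI := DiagRedLib.tor_vanish_section (A := A) L ⟨fun x y h => by
      have h1 : δ (ψ x - ψ y) = 0 := Ideal.Quotient.eq.1 h
      rw [map_sub, ← RingHom.comp_apply, ← RingHom.comp_apply, hψ] at h1
      exact sub_eq_zero.1 h1, fun z => by
        obtain ⟨b, rfl⟩ := Ideal.Quotient.mk_surjective z
        refine ⟨δ b, Ideal.Quotient.eq.2 ?_⟩
        show δ (ψ (δ b) - b) = 0
        rw [map_sub, ← RingHom.comp_apply δ ψ, hψ, RingHom.id_apply, sub_self]⟩ w n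
    obtain ⟨e⟩ := TorLib.tor_symm (A := B) (n + 1) (B ⧸ L) (B ⧸ w.map ψ)
    exact e.symm.toEquiv.subsingleton
  have hK : Function.Surjective (algebraMap A ((B ⧸ w.map ψ) ⧸ K)) := fun z => by
    obtain ⟨x, rfl⟩ := Ideal.Quotient.mk_surjective z
    obtain ⟨b, rfl⟩ := Ideal.Quotient.mk_surjective x
    refine ⟨δ b, Ideal.Quotient.eq.2 ?_⟩
    show Ideal.Quotient.mk (w.map ψ) (φ (δ b)) - Ideal.Quotient.mk (w.map ψ) b ∈ K
    rw [← map_sub]
    refine Ideal.mem_map_of_mem _ ?_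
    show δ (φ (δ b) - b) = 0
    rw [map_sub, ← RingHom.comp_apply δ φ, hφ, RingHom.id_apply, sub_self]
  have hker : ∀ x : A, algebraMap A ((B ⧸ w.map ψ) ⧸ K) x = 0 ↔ x ∈ w := fun x => by
    refine ⟨fun h => ?_, fun h => Ideal.Quotient.eq_zero_iff_mem.2 ?_⟩
    · have h1 : φ x ∈ K.comap (Ideal.Quotient.mk (w.map ψ)) := by
        rw [Ideal.mem_comap]
        exact (Ideal.Quotient.eq_zero_iff_mem (I := K) (a := Ideal.Quotient.mk (w.map ψ) (φ x))).1 h
      rw [show K = L.map (Ideal.Quotient.mk (w.map ψ)) from rfl,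
        Ideal.comap_map_of_surjective _ Ideal.Quotient.mk_surjective, ← RingHom.ker_eq_comap_bot, Ideal.mk_ker] at h1
      have h2 := Ideal.mem_map_of_mem δ h1
      rwa [Ideal.map_sup, Ideal.map_map, hψ, Ideal.map_id, Ideal.map_eq_bot_iff_le_ker δ |>.2 le_rfl, bot_sup_eq,
        ← RingHom.comp_apply, hφ] at h2
    · show Ideal.Quotient.mk (w.map ψ) (φ x) ∈ K
      rw [← sub_add_cancel (φ x) (ψ x), map_add, Ideal.Quotient.eq_zero_iff_mem.2 (Ideal.mem_map_of_mem ψ h), add_zero]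
      refine Ideal.mem_map_of_mem _ ?_
      show δ (φ x - ψ x) = 0
      rw [map_sub, ← RingHom.comp_apply, ← RingHom.comp_apply δ ψ, hφ, hψ, sub_self]
  let eD : (A ⧸ w) ≃ₗ[A] (B ⧸ w.map ψ) ⧸ K :=
    (Submodule.quotEquivOfEq _ _ (Ideal.ext fun x => (hker x).symm)).trans
      ((Algebra.linearMap A ((B ⧸ w.map ψ) ⧸ K)).quotKerEquivOfSurjective hK)
  obtain ⟨s₀⟩ := TorLib.tor_symm (A := A) j (A ⧸ v) (A ⧸ w)
  obtain ⟨σ₁, hσ₁⟩ := TorLib.exists_semilinear_bijective (B ⧸ w.map ψ) ((B ⧸ w.map ψ) ⧸ K) (A ⧸ v)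
    (fun n => TorLib.subsingleton_tor_of_flat (B ⧸ w.map ψ) (A ⧸ v) n) ((B ⧸ w.map ψ) ⧸ C)
    (Algebra.TensorProduct.quotIdealMapEquivTensorQuot (B ⧸ w.map ψ) v).symm.toLinearEquiv j
  obtain ⟨σ₂, hσ₂⟩ := TorLib.exists_semilinear_bijective (B ⧸ w.map ψ) ((B ⧸ w.map ψ) ⧸ C) (B ⧸ L) hvan
    ((B ⧸ w.map ψ) ⧸ K) (Algebra.TensorProduct.quotIdealMapEquivTensorQuot (B ⧸ w.map ψ) L).symm.toLinearEquiv j
  obtain ⟨s₁⟩ := TorLib.tor_symm (A := B ⧸ w.map ψ) j ((B ⧸ w.map ψ) ⧸ K) ((B ⧸ w.map ψ) ⧸ C)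
  obtain ⟨s₂⟩ := TorLib.tor_symm (A := B) j (B ⧸ (v.map φ ⊔ w.map ψ)) (B ⧸ L)
  let ρ := s₀.trans (DiagRedLib.torLeftCongr eD (A ⧸ v) j)
  let c := (DiagRedLib.torLeftCongr (quotEquiv φ (w.map ψ) v).toLinearEquiv (B ⧸ L) j).trans s₂
  let e₁ := ρ.toAddEquiv.trans ((AddEquiv.ofBijective σ₁.toAddMonoidHom hσ₁).trans s₁.toAddEquiv)
  let e₂ := AddEquiv.ofBijective σ₂.toAddMonoidHom hσ₂
  refine ⟨e₁.trans (e₂.symm.trans c.toAddEquiv), fun a x => ?_⟩
  show c (e₂.symm (e₁ (a • x))) = φ a • c (e₂.symm (e₁ x))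
  rw [← map_smul c]
  congr 1
  refine e₂.injective ?_
  rw [AddEquiv.apply_symm_apply]
  show s₁ (σ₁ (ρ (a • x))) = σ₂ (φ a • e₂.symm (e₁ x))
  rw [map_smul ρ, map_smulₛₗ, map_smul s₁, map_smulₛₗ,
    show σ₂ (e₂.symm (e₁ x)) = e₁ x from e₂.apply_symm_apply _]
  rfl

include hφ in
/-- `χ` against a module on the diagonal. -/
theorem chi_on_diag (hφf : φ.Flat) (u : Ideal A) (X Y : Type u) [AddCommGroup X] [Module A X] [AddCommGroup Y]
    [Module B Y] (e : X ≃+ Y) (he : ∀ a x, e (a • x) = φ a • e x) (hY : ∀ b ∈ RingHom.ker δ, ∀ y : Y, b • y = 0) :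
    IntMult.chi A X (A ⧸ u) = IntMult.chi B Y (B ⧸ u.map φ) := by
  letI : Algebra A B := φ.toAlgebra
  haveI : Module.Flat A B := hφf
  letI : Module B X := Module.compHom X δ
  haveI : IsScalarTower A B X := ⟨fun a b x => by
    show δ (φ a * b) • x = a • δ b • x
    rw [map_mul, ← RingHom.comp_apply, hφ, RingHom.id_apply, mul_smul]⟩
  have hL : ∀ (b : B) (y : Y), φ (δ b) • y = b • y := fun b y => sub_eq_zero.1 (by
    rw [← sub_smul]
    refine hY _ ?_ y
    rw [RingHom.mem_ker, map_sub, ← RingHom.comp_apply δ φ, hφ, RingHom.id_apply, sub_self])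
  let eB : X ≃ₗ[B] Y := { e with map_smul' := fun b x => (he (δ b) x).trans (hL b (e x)) }
  refine Eq.trans (finsum_congr fun i => ?_) (finsum_congr fun i =>
    congrArg (fun n : ℕ∞ => (-1 : ℤ) ^ i * (n.toNat : ℤ)) (DiagRedLib.torLeftCongr eB (B ⧸ u.map φ) i).length_eq)
  obtain ⟨θ, hθ⟩ := TorLib.exists_semilinear_bijective B X (A ⧸ u)
    (fun n => TorLib.subsingleton_tor_of_flat B (A ⧸ u) n) (B ⧸ u.map φ)
    (Algebra.TensorProduct.quotIdealMapEquivTensorQuot B u).symm.toLinearEquiv i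
  rw [DiagRedLib.length_semilinear θ hθ fun b => ⟨δ b, fun z => sub_eq_zero.1 (by
    rw [← sub_smul]
    refine DiagRedLib.smul_tor_eq_zero _ (fun x => ?_) i z
    show δ (φ (δ b) - b) • x = 0
    rw [map_sub, ← RingHom.comp_apply δ φ, hφ, RingHom.id_apply, sub_self, zero_smul])⟩]

/-- `Tor` against a pulled back quotient, after a flat base change. -/
theorem exists_bc_equiv [Algebra A B] [Module.Flat A B] (J : Ideal B) [Module.Flat A (B ⧸ J)] (u v : Ideal A) (i : ℕ) :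
    ∃ e : DRing.Tor B i (B ⧸ (v.map (algebraMap A B) ⊔ J)) (B ⧸ u.map (algebraMap A B)) ≃+
        ((B ⧸ J) ⊗[A] DRing.Tor A i (A ⧸ u) (A ⧸ v)),
      ∀ b x, e (b • x) = Ideal.Quotient.mk J b • e x := by
  have hvan : ∀ n : ℕ, Subsingleton (DRing.Tor B (n + 1) (B ⧸ J) (B ⧸ u.map (algebraMap A B))) := fun n => by
    obtain ⟨θ, hθ⟩ := TorLib.exists_semilinear_bijective B (B ⧸ J) (A ⧸ u)
      (fun n => TorLib.subsingleton_tor_of_flat B (A ⧸ u) n) (B ⧸ u.map (algebraMap A B))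
      (Algebra.TensorProduct.quotIdealMapEquivTensorQuot B u).symm.toLinearEquiv (n + 1)
    haveI := TorLib.subsingleton_tor_of_flat (A := A) (B ⧸ J) (A ⧸ u) n
    exact hθ.2.subsingleton
  have hmap : (algebraMap B (B ⧸ J)).comp (algebraMap A B) = algebraMap A (B ⧸ J) :=
    (IsScalarTower.algebraMap_eq A B (B ⧸ J)).symm
  let U : Ideal (B ⧸ J) := u.map (algebraMap A (B ⧸ J))
  let C : Ideal (B ⧸ J) := v.map (algebraMap A (B ⧸ J))
  obtain ⟨σ, hσ⟩ := TorLib.exists_semilinear_bijective (B ⧸ J) ((B ⧸ J) ⧸ C) (B ⧸ u.map (algebraMap A B)) hvan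
    ((B ⧸ J) ⧸ U) ((Algebra.TensorProduct.quotIdealMapEquivTensorQuot (B ⧸ J)
      (u.map (algebraMap A B))).symm.toLinearEquiv.trans (Submodule.quotEquivOfEq _ _ (by rw [Ideal.map_map, hmap]))) i
  obtain ⟨t⟩ := FlatCx.tor_baseChange (A := A) (B := B ⧸ J) (A ⧸ u) (A ⧸ v) i
  let qu := (Algebra.TensorProduct.quotIdealMapEquivTensorQuot (B ⧸ J) u).symm.toLinearEquiv
  let qv := (Algebra.TensorProduct.quotIdealMapEquivTensorQuot (B ⧸ J) v).symm.toLinearEquiv
  obtain ⟨s⟩ := TorLib.tor_symm (A := B ⧸ J) i ((B ⧸ J) ⧸ U) ((B ⧸ J) ⊗[A] (A ⧸ v))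
  let τ := t.trans ((DiagRedLib.torLeftCongr qu _ i).trans (s.trans (DiagRedLib.torLeftCongr qv ((B ⧸ J) ⧸ U) i)))
  have hC : C = v.map ((Ideal.Quotient.mk J).comp (algebraMap A B)) := congrArg (Ideal.map · v) hmap.symm
  let c := DiagRedLib.torLeftCongr ((quotEquiv (algebraMap A B) J v).symm.trans
    (Ideal.quotientEquivAlgOfEq B hC.symm)).toLinearEquiv (B ⧸ u.map (algebraMap A B)) i
  refine ⟨c.toAddEquiv.trans ((AddEquiv.ofBijective σ.toAddMonoidHom hσ).trans τ.symm.toAddEquiv), fun b x => ?_⟩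
  show τ.symm (σ (c (b • x))) = Ideal.Quotient.mk J b • τ.symm (σ (c x))
  rw [map_smul c, map_smulₛₗ, map_smul τ.symm]
  rfl

variable [IsRegularLocalRing A] [IsRegularLocalRing B]

include hφ hψ in
set_option maxHeartbeats 1000000 in
/-- The rotation. -/
theorem Phi_rotate (hφf : φ.Flat) (hψf : ψ.Flat) {c : ℕ} (g : Fin c → B)
    (hreg : RingTheory.Sequence.IsWeaklyRegular B (List.ofFn g)) (hg : RingHom.ker δ = Ideal.span (Set.range g))
    (u v w : Ideal A) (hw : ((Ideal.Quotient.mk (w.map ψ)).comp φ).Flat)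
    (hfin : ∀ p : PrimeSpectrum A, u ≤ p.asIdeal → v ≤ p.asIdeal → w ≤ p.asIdeal → p.asIdeal.IsMaximal) :
    Phi A u v w = Phi A w u v := by
  obtain ⟨a, ha⟩ := RegLocal.exists_nat_ringKrullDim A
  obtain ⟨b, hb⟩ := RegLocal.exists_nat_ringKrullDim B
  let L := RingHom.ker δ
  let l := List.ofFn g
  have hl : Ideal.ofList l = L := (ofList_ofFn g).trans hg.symm
  have hsurj : Function.Surjective δ := fun x => ⟨φ x, congrArg (fun m => m x) hφ⟩
  have hmax : ∀ P : PrimeSpectrum B, L ≤ P.asIdeal → u.map φ ≤ P.asIdeal → v.map φ ≤ P.asIdeal →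
      w.map ψ ≤ P.asIdeal → P.asIdeal.IsMaximal := by
    intro P hLP huP hvP hwP
    haveI := Ideal.map_isPrime_of_surjective hsurj hLP
    have hkey : ∀ {I : Ideal A} {χ : A →+* B}, δ.comp χ = RingHom.id A → I.map χ ≤ P.asIdeal →
        I ≤ P.asIdeal.map δ := fun {I χ} hχ h => by
      have := Ideal.map_mono (f := δ) h
      rwa [Ideal.map_map, hχ, Ideal.map_id] at this
    haveI := hfin ⟨P.asIdeal.map δ, inferInstance⟩ (hkey hφ huP) (hkey hφ hvP) (hkey hψ hwP)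
    have hP : (P.asIdeal.map δ).comap δ = P.asIdeal := by
      rw [Ideal.comap_map_of_surjective _ hsurj, ← RingHom.ker_eq_comap_bot, sup_eq_left.2 hLP]
    rw [← hP]
    exact Ideal.comap_isMaximal_of_surjective δ hsurj
  have hsuppq : ∀ {R : Type u} [CommRing R] (I : Ideal R) {p : PrimeSpectrum R},
      p ∈ Module.support R (R ⧸ I) → I ≤ p.asIdeal := fun I p hp =>
    Ideal.annihilator_quotient.ge.trans (Module.mem_support_iff_of_finite.1 hp)
  let M₀ := B ⧸ u.map φ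
  let N₀ := B ⧸ (v.map φ ⊔ w.map ψ)
  let P := projectiveResolution (ModuleCat.of B N₀)
  have hQ : Module.support B N₀ ⊆ Qr M₀ (l ++ []) := fun p hp hpM hr => by
    rw [List.append_nil, hl] at hr
    exact hmax p hr (hsuppq _ hpM) (le_sup_left.trans (hsuppq _ hp)) (le_sup_right.trans (hsuppq _ hp))
  have key := sum_G M₀ hb P l hreg [] hQ
  rw [List.append_nil] at key
  -- the left hand side
  have hleft : ∀ j, G M₀ b [] (TorKEulerLib.T P l j) =
      IntMult.chi A (A ⧸ u) (DRing.Tor A j (A ⧸ v) (A ⧸ w)) := fun j => by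
    obtain ⟨e, he⟩ := exists_diag_equiv φ ψ δ hφ hψ hψf v w hw j
    rw [G_nil M₀ hb, DiagRedLib.chi_comm (A := A) (A ⧸ u),
      chi_on_diag φ δ hφ hφf u _ _ e he fun z hz y => DiagRedLib.smul_tor_eq_zero _ (fun m => by
        obtain ⟨m, rfl⟩ := Ideal.Quotient.mk_surjective m
        rw [Algebra.smul_def, Ideal.Quotient.algebraMap_eq, ← map_mul, Ideal.Quotient.eq_zero_iff_mem]
        exact Ideal.mul_mem_right _ _ hz) j y]
    let ε : TorKEulerLib.T P l j ≃ₗ[B] DRing.Tor B j (B ⧸ L) N₀ :=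
      (TorLib.torIso P (ModuleCat.of B (B ⧸ Ideal.ofList l)) j).symm.toLinearEquiv.trans
        (DiagRedLib.torLeftCongr (Submodule.quotEquivOfEq _ _ hl) N₀ j)
    refine finsum_congr fun i => ?_
    rw [(DiagRedLib.torLeftCongr ε M₀ i).length_eq]
  -- the right hand side
  letI : Algebra A B := φ.toAlgebra
  haveI : Module.Flat A B := hφf
  haveI : Module.Flat A (B ⧸ w.map ψ) := RingHom.flat_algebraMap_iff.1 (show (algebraMap A (B ⧸ w.map ψ)).Flat from hw)
  let R := B ⧸ w.map ψ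
  let ω : ∀ (X : Type u) [AddCommGroup X] [Module A X], ℤ := fun X _ _ => E l (R ⊗[A] X)
  let V : Set (PrimeSpectrum A) := {p | u ⊔ v ≤ p.asIdeal}
  have hfinR : ∀ (X : Type u) [AddCommGroup X] [Module A X] [Module.Finite A X], Module.Finite B (R ⊗[A] X) :=
    fun X _ _ _ => Module.Finite.trans R _
  have hdom : ∀ (X : Type u) [AddCommGroup X] [Module A X] [Module.Finite A X], Module.support A X ⊆ V →
      Dom l (R ⊗[A] X) := fun X _ _ _ hX p hp hr => by
    haveI := hfinR X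
    have hann := Module.mem_support_iff_of_finite.1 hp
    have hz : ∀ a ∈ Module.annihilator A X, φ a ∈ p.asIdeal := fun a hma => hann (Module.mem_annihilator.2 fun z => by
      rw [show φ a • z = a • z from algebraMap_smul B a z]
      induction z using TensorProduct.induction_on with
      | zero => exact smul_zero _
      | tmul r x => rw [← TensorProduct.tmul_smul, Module.mem_annihilator.1 hma x, TensorProduct.tmul_zero]
      | add z z' h h' => rw [smul_add, h, h', add_zero])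
    have hw' : w.map ψ ≤ p.asIdeal := fun x hx => hann (Module.mem_annihilator.2 fun z => by
      rw [← algebraMap_smul R x z, show algebraMap B R x = 0 from Ideal.Quotient.eq_zero_iff_mem.2 hx, zero_smul])
    have huv : u ⊔ v ≤ p.asIdeal.comap φ :=
      hX ((Module.mem_support_iff_of_finite (p := ⟨p.asIdeal.comap φ, inferInstance⟩)).2 fun a ha => hz a ha)
    exact hmax p (hl ▸ hr) (Ideal.map_le_iff_le_comap.2 (le_sup_left.trans huv))
      (Ideal.map_le_iff_le_comap.2 (le_sup_right.trans huv)) hw'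
  have hω : AddOn V ω := fun X₁ X₂ X₃ _ _ _ _ _ _ _ f h hf hh hfh hs => by
    haveI := hfinR X₂
    exact E_add (hdom X₂ hs) (AlgebraTensorModule.lTensor B R f) (AlgebraTensorModule.lTensor B R h)
      (Module.Flat.lTensor_preserves_injective_linearMap f hf) (LinearMap.lTensor_surjective R hh)
      (Module.Flat.lTensor_exact R hfh)
  have hprime : ∀ σ ∈ V, ω (A ⧸ σ.asIdeal) = IntMult.chi A (A ⧸ σ.asIdeal) (A ⧸ w) := by
    intro σ hσ
    let ε : (R ⊗[A] (A ⧸ σ.asIdeal)) ≃ₗ[B] B ⧸ (σ.asIdeal.map φ ⊔ w.map ψ) :=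
      ((Algebra.TensorProduct.quotIdealMapEquivTensorQuot R σ.asIdeal).symm.toLinearEquiv.restrictScalars B).trans
        (quotEquiv φ (w.map ψ) σ.asIdeal).toLinearEquiv
    have hd : Dom l (B ⧸ (σ.asIdeal.map φ ⊔ w.map ψ)) := fun p hp hr => by
      have h := hsuppq _ hp
      exact hmax p (hl ▸ hr) ((Ideal.map_mono (le_sup_left.trans hσ)).trans (le_sup_left.trans h))
        ((Ideal.map_mono (le_sup_right.trans hσ)).trans (le_sup_left.trans h)) (le_sup_right.trans h)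
    show E l (R ⊗[A] (A ⧸ σ.asIdeal)) = _
    rw [E_congr l ε, ← TorKEulerLib.chi_eq l hreg _ hd, DiagRedLib.chi_diag φ ψ δ hφ hψ hψf σ.asIdeal w hw, hl]
  have hright : ∀ i, E l (TP B M₀ i N₀) = IntMult.chi A (A ⧸ w) (DRing.Tor A i (A ⧸ u) (A ⧸ v)) := fun i => by
    obtain ⟨e, he⟩ := exists_bc_equiv (w.map ψ) u v i
    let eB : DRing.Tor B i N₀ M₀ ≃ₗ[B] R ⊗[A] DRing.Tor A i (A ⧸ u) (A ⧸ v) :=
      { e with map_smul' := fun z x => (he z x).trans (algebraMap_smul R z (e x)) }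
    haveI := finite_tor (A := A) (A ⧸ u) (A ⧸ v) i
    have hs : Module.support A (DRing.Tor A i (A ⧸ u) (A ⧸ v)) ⊆ V := fun p hp =>
      sup_le (hsuppq u (support_tor _ _ i hp).1) (hsuppq v (support_tor _ _ i hp).2)
    have hchi : AddOn V (fun X _ _ => IntMult.chi A X (A ⧸ w)) := (addOn_chi ha (A ⧸ w)).mono fun p hp hpw =>
      hfin p (le_sup_left.trans hp) (le_sup_right.trans hp) (hsuppq w hpw)
    have h0 := devissage V ∅ (fun p hp => absurd hp (Finset.notMem_empty p))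
      (fun X _ _ => ω X - IntMult.chi A X (A ⧸ w)) (hω.sub hchi)
      (fun p hp _ => sub_eq_zero.2 (hprime p hp)) _ hs
    rw [E_congr l ((tpEquiv B M₀ i N₀).symm.trans eB), DiagRedLib.chi_comm (A := A) (A ⧸ w)]
    exact sub_eq_zero.1 h0
  have hlen : l.length = c := List.length_ofFn
  rw [Phi_eq_sum ha u v w (N := a + b + c + 3) (by omega), Phi_eq_sum ha w u v (N := a + b + c + 3) (by omega)]
  have e1 : ∑ i ∈ Finset.range (a + b + c + 3), (-1 : ℤ) ^ i * G M₀ b ([] : List B) (TorKEulerLib.T P l i) =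
      ∑ i ∈ Finset.range (l.length + 1), (-1 : ℤ) ^ i * G M₀ b ([] : List B) (TorKEulerLib.T P l i) := by
    refine (Finset.sum_subset (fun x hx => ?_) fun x _ hx => ?_).symm
    · rw [Finset.mem_range] at hx ⊢
      omega
    · haveI := (TorKEulerLib.T_props P l hreg x).2.1 (by rw [Finset.mem_range] at hx; omega)
      rw [show G M₀ b ([] : List B) (TorKEulerLib.T P l x) = 0 from (addOn_G M₀ hb ([] : List B)).zero _, mul_zero]
  have e2 : ∑ i ∈ Finset.range (a + b + c + 3), (-1 : ℤ) ^ i * E l (TP B M₀ i N₀) = G M₀ b l N₀ := by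
    show _ = ∑ i ∈ Finset.range (b + 2), (-1 : ℤ) ^ i * E l (TP B M₀ i N₀)
    refine (Finset.sum_subset (fun x hx => ?_) fun x _ hx => ?_).symm
    · rw [Finset.mem_range] at hx ⊢
      omega
    · haveI := subsingleton_TP M₀ hb x (by rw [Finset.mem_range] at hx; omega) N₀
      rw [E_subsingleton, mul_zero]
  rw [key, ← e2] at e1
  simpa only [hleft, hright] using e1

end Groth.Agent.ChiCycLib
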