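import Mathlib
import Groth.Agent.ChiCycLib.Rotate
import Groth.Agent.ChiCycLib.Pull
import Groth.Agent.ChiCycLib.Diag
import Groth.Agent.DivisorialLib.Basic

/-! Iterated intersection products of three prime cycles. -/

set_option autoImplicit false
set_option linter.style.haveILetI false
set_option linter.unusedSectionVars false
set_option backward.isDefEq.respectTransparency false

universe u

open CategoryTheory CategoryTheory.Limits AlgebraicGeometry IsLocalRing TensorProduct Groth.Agent Groth.Agent.CycLib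

noncomputable section

namespace Groth.Agent.ChiCycLib

/-- The length of a localisation, computed in any model. -/
theorem length_baseChange_loc {A S : Type u} [CommRing A] [CommRing S] [Algebra A S] (τ : PrimeSpectrum A)
    [IsLocalization.AtPrime S τ.asIdeal] (M : Type u) [AddCommGroup M] [Module A M] :
    ((Module.length S (S ⊗[A] M)).toNat : ℤ) = lp τ M := by
  let L := Localization.AtPrime τ.asIdeal
  have hb : IsBaseChange L (LocalizedModule.mkLinearMap τ.asIdeal.primeCompl M) :=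
    IsLocalizedModule.isBaseChange τ.asIdeal.primeCompl L _
  let φ : L ≃ₐ[A] S := IsLocalization.algEquiv τ.asIdeal.primeCompl L S
  letI : Algebra L S := φ.toRingEquiv.toRingHom.toAlgebra
  let e := TensorProduct.congr φ.toLinearEquiv (LinearEquiv.refl A M)
  let θ : (L ⊗[A] M) →ₛₗ[algebraMap L S] (S ⊗[A] M) :=
    { toFun := e
      map_add' := map_add e
      map_smul' := fun l z => by
        show e (l • z) = φ l • e z
        induction z using TensorProduct.induction_on with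
        | zero => simp
        | tmul r m =>
          rw [TensorProduct.smul_tmul', smul_eq_mul]
          show φ (l * r) ⊗ₜ[A] m = φ l • (φ r ⊗ₜ[A] m)
          rw [map_mul, TensorProduct.smul_tmul', smul_eq_mul]
        | add z z' h h' => rw [smul_add, map_add, h, h', map_add, smul_add] }
  rw [lp, ← hb.equiv.length_eq, DiagRedLib.length_semilinear θ e.bijective fun b => ⟨φ.symm b, fun x => by
    show φ (φ.symm b) • x = b • x
    rw [φ.apply_symm_apply]⟩]

theorem tor_congr_length {S : Type u} [CommRing S] {M M' N N' : Type u} [AddCommGroup M] [Module S M]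
    [AddCommGroup M'] [Module S M'] [AddCommGroup N] [Module S N] [AddCommGroup N'] [Module S N'] (e : M ≃ₗ[S] M')
    (h : N ≃ₗ[S] N') (i : ℕ) : Module.length S (DRing.Tor S i M N) = Module.length S (DRing.Tor S i M' N') :=
  ((FlatCx.torCongr (LinearEquiv.toModuleIso (R := S) (X₁ := M) (X₂ := M') e)
    (LinearEquiv.toModuleIso (R := S) (X₁ := N) (X₂ := N') h) i).toLinearEquiv).length_eq

variable {X : Scheme.{u}}

/-- The multiplicity at a generisation, by localised lengths. -/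
theorem mult_localize [IsLocallyNoetherian X] {ζ : X} [IsRegularLocalRing (X.presheaf.stalk ζ)] {a : ℕ}
    (ha : ringKrullDim (X.presheaf.stalk ζ) = (a : WithBot ℕ∞)) (v w τ : PrimeSpectrum (X.presheaf.stalk ζ)) :
    IntMult.mult (IntMult.ptIdeal (X.fromSpecStalk ζ v)) (IntMult.ptIdeal (X.fromSpecStalk ζ w))
        (X.fromSpecStalk ζ τ) =
      ∑ i ∈ Finset.range (a + 2), (-1 : ℤ) ^ i *
        lp τ (DRing.Tor (X.presheaf.stalk ζ) i (X.presheaf.stalk ζ ⧸ v.asIdeal) (X.presheaf.stalk ζ ⧸ w.asIdeal)) := by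
  set t := X.fromSpecStalk ζ τ
  have hη : t ⤳ ζ := fromSpecStalk_specializes τ
  let A := X.presheaf.stalk ζ
  let S := X.presheaf.stalk t
  letI : Algebra A S := (X.presheaf.stalkSpecializes hη).hom.toAlgebra
  haveI hloc : IsLocalization.AtPrime S τ.asIdeal := by
    have h1 := S5090.isLocalization_stalkSpecializes hη
    have hm : (maximalIdeal (X.presheaf.stalk t)).comap (X.presheaf.stalkSpecializes hη).hom = τ.asIdeal := by
      rw [← ker_specMap_eq τ hη]
      ext x
      exact (IsLocalRing.residue_eq_zero_iff _).symm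
    simpa only [hm] using h1
  haveI : Module.Flat A S := IsLocalization.flat S τ.asIdeal.primeCompl
  have hI : ∀ p : PrimeSpectrum A, IntMult.stalkIdeal (IntMult.ptIdeal (X.fromSpecStalk ζ p)) t =
      p.asIdeal.map (algebraMap A S) := fun p => by
    rw [← DivisorialLib.map_stalkSpecializes _ hη, stalkIdeal_ptIdeal_fromSpecStalk p]
    rfl
  rw [IntMult.mult, hI v, hI w, DiagRedLib.chi_comm, IntMult.chi]
  have hT : ∀ i, ((Module.length S (DRing.Tor S i (S ⧸ v.asIdeal.map (algebraMap A S))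
      (S ⧸ w.asIdeal.map (algebraMap A S)))).toNat : ℤ) = lp τ (DRing.Tor A i (A ⧸ v.asIdeal) (A ⧸ w.asIdeal)) :=
    fun i => by
      obtain ⟨e⟩ := FlatCx.tor_baseChange (A := A) (B := S) (A ⧸ v.asIdeal) (A ⧸ w.asIdeal) i
      rw [tor_congr_length (Algebra.TensorProduct.quotIdealMapEquivTensorQuot S v.asIdeal).toLinearEquiv
        (Algebra.TensorProduct.quotIdealMapEquivTensorQuot S w.asIdeal).toLinearEquiv i, ← e.length_eq]
      exact length_baseChange_loc τ _
  rw [finsum_congr fun i => congrArg ((-1 : ℤ) ^ i * ·) (hT i)]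
  refine finsum_eq_sum_of_support_subset _ fun i hi => ?_
  rw [Finset.coe_range, Set.mem_Iio]
  by_contra hlt
  haveI := subsingleton_tor ha (A ⧸ v.asIdeal) (A ⧸ w.asIdeal) i (by omega)
  refine hi ?_
  show (-1 : ℤ) ^ i * lp τ (DRing.Tor A i (A ⧸ v.asIdeal) (A ⧸ w.asIdeal)) = 0
  rw [lp, Module.length_eq_zero, ENat.toNat_zero, Nat.cast_zero, mul_zero]

variable {δ : X → ℤ} {n : ℤ}

theorem interProd_comm (α β : X → ℤ) : IntMult.interProd δ n α β = IntMult.interProd δ n β α := by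
  funext ζ
  unfold IntMult.interProd
  refine finsum_eq_of_bijective (fun p => ⟨(p.1.2, p.1.1), p.2.2.1, p.2.1, (by rw [add_comm]; exact p.2.2.2)⟩) ?_ ?_
  · exact ⟨fun p q h => Subtype.ext (Prod.ext (congrArg (fun z => z.1.2) h) (congrArg (fun z => z.1.1) h)),
      fun p => ⟨⟨(p.1.2, p.1.1), p.2.2.1, p.2.1, (by rw [add_comm]; exact p.2.2.2)⟩, rfl⟩⟩
  · intro p
    show _ = β p.1.2 * α p.1.1 * IntMult.mult (IntMult.ptIdeal p.1.2) (IntMult.ptIdeal p.1.1) ζ
    rw [IntMult.mult, IntMult.mult, DiagRedLib.chi_comm, mul_comm (α _)]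

theorem interProd_ne_zero {α β : X → ℤ} {ζ : X} (h : IntMult.interProd δ n α β ζ ≠ 0) :
    ∃ a b, α a ≠ 0 ∧ β b ≠ 0 ∧ a ⤳ ζ ∧ b ⤳ ζ ∧ δ a + δ b - n = δ ζ := by
  by_contra hcon
  push Not at hcon
  refine h (finsum_eq_zero_of_forall_eq_zero fun p => ?_)
  by_contra hne
  exact hcon p.1.1 p.1.2 (left_ne_zero_of_mul (left_ne_zero_of_mul hne)) (right_ne_zero_of_mul (left_ne_zero_of_mul hne))
    p.2.1 p.2.2.1 p.2.2.2

theorem interProd_single (y z t : X) (hy : y ⤳ t) (hz : z ⤳ t) (h : δ y + δ z - n = δ t) :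
    IntMult.interProd δ n (Set.indicator {y} 1) (Set.indicator {z} 1) t =
      IntMult.mult (IntMult.ptIdeal y) (IntMult.ptIdeal z) t := by
  rw [IntMult.interProd, finsum_eq_single _ (⟨(y, z), hy, hz, h⟩ : {p : X × X // p.1 ⤳ t ∧ p.2 ⤳ t ∧
    δ p.1 + δ p.2 - n = δ t}) fun p hp => by
      by_contra hne
      exact hp (Subtype.ext (Prod.ext
        (Set.mem_singleton_iff.1 (Set.mem_of_indicator_ne_zero (left_ne_zero_of_mul (left_ne_zero_of_mul hne))))
        (Set.mem_singleton_iff.1 (Set.mem_of_indicator_ne_zero (right_ne_zero_of_mul (left_ne_zero_of_mul hne))))))]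
  simp

theorem interProd_nested_ne_zero {x y z ζ : X}
    (h : IntMult.interProd δ n (Set.indicator {x} 1) (IntMult.interProd δ n (Set.indicator {y} 1) (Set.indicator {z} 1))
      ζ ≠ 0) : x ⤳ ζ ∧ y ⤳ ζ ∧ z ⤳ ζ ∧ δ ζ = δ x + δ y + δ z - 2 * n := by
  obtain ⟨a, b, ha, hb, haζ, hbζ, hab⟩ := interProd_ne_zero h
  obtain ⟨c, d, hc, hd, hcb, hdb, hcd⟩ := interProd_ne_zero hb
  rw [Set.mem_singleton_iff.1 (Set.mem_of_indicator_ne_zero ha)] at haζ hab
  rw [Set.mem_singleton_iff.1 (Set.mem_of_indicator_ne_zero hc)] at hcb hcd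
  rw [Set.mem_singleton_iff.1 (Set.mem_of_indicator_ne_zero hd)] at hdb hcd
  exact ⟨haζ, hcb.trans hbζ, hdb.trans hbζ, by omega⟩

variable {K : Type u} [Field K] (f : X ⟶ Spec (CommRingCat.of K)) [Smooth f] [IsSeparated f] [IsIntegral X]

include f in
set_option maxHeartbeats 800000 in
/-- The iterated product at a point of the expected dimension. -/
theorem interProd_inner (hX : Cyc.IsSetup X δ) (hδ : Cyc.DeltaCompat f δ (fun _ => 0)) (hn : δ (genericPoint X) = n)
    {ζ : X} (u v w : PrimeSpectrum (X.presheaf.stalk ζ))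
    (hd : δ ζ = δ (X.fromSpecStalk ζ u) + δ (X.fromSpecStalk ζ v) + δ (X.fromSpecStalk ζ w) - 2 * n)
    (hyz : ∀ t, X.fromSpecStalk ζ v ⤳ t → X.fromSpecStalk ζ w ⤳ t → t ⤳ ζ →
      δ t ≤ δ (X.fromSpecStalk ζ v) + δ (X.fromSpecStalk ζ w) - n)
    (hxyz : ∀ t, X.fromSpecStalk ζ u ⤳ t → X.fromSpecStalk ζ v ⤳ t → X.fromSpecStalk ζ w ⤳ t → t ⤳ ζ →
      δ t ≤ δ ζ) :
    IntMult.interProd δ n (Set.indicator {X.fromSpecStalk ζ u} 1) (IntMult.interProd δ n
        (Set.indicator {X.fromSpecStalk ζ v} 1) (Set.indicator {X.fromSpecStalk ζ w} 1)) ζ =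
      Phi (X.presheaf.stalk ζ) u.asIdeal v.asIdeal w.asIdeal := by
  classical
  haveI := hX.1
  haveI := Groth.Agent.ASp.isRegularLocalRing_stalk_of_smooth_field f ζ
  obtain ⟨a, ha⟩ := RegLocal.exists_nat_ringKrullDim (X.presheaf.stalk ζ)
  let A := X.presheaf.stalk ζ
  have hinj : Function.Injective (fun p : PrimeSpectrum A => X.fromSpecStalk ζ p) := (X.fromSpecStalk ζ).isEmbedding.injective
  set s := δ (X.fromSpecStalk ζ v) + δ (X.fromSpecStalk ζ w) - n
  have hbd : ∀ p : PrimeSpectrum A, v.asIdeal ⊔ w.asIdeal ≤ p.asIdeal → δ (X.fromSpecStalk ζ p) ≤ s := fun p hp =>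
    hyz _ ((fromSpecStalk_specializes_iff v p).2 (le_sup_left.trans hp))
      ((fromSpecStalk_specializes_iff w p).2 (le_sup_right.trans hp)) (fromSpecStalk_specializes p)
  have hmin : ∀ p : PrimeSpectrum A, δ (X.fromSpecStalk ζ p) = s → ∀ q : PrimeSpectrum A, v.asIdeal ⊔ w.asIdeal ≤ q.asIdeal →
      q.asIdeal ≤ p.asIdeal → q = p := fun p hp q hq hqp => by
    by_contra hne
    have h3 := (hX.2.2 (X.fromSpecStalk ζ q) (X.fromSpecStalk ζ p) ((fromSpecStalk_specializes_iff q p).2 hqp) (hinj.ne hne)).1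
    have h4 := hbd q hq
    omega
  have hfin : {p : PrimeSpectrum A | δ (X.fromSpecStalk ζ p) = s ∧ v.asIdeal ⊔ w.asIdeal ≤ p.asIdeal}.Finite := by
    haveI : Finite (v.asIdeal ⊔ w.asIdeal).minimalPrimes :=
      (Ideal.finite_minimalPrimes_of_isNoetherianRing _ _).to_subtype
    refine Set.Finite.subset ((Set.finite_range fun R : (v.asIdeal ⊔ w.asIdeal).minimalPrimes =>
      (⟨R.1, R.2.1.1⟩ : PrimeSpectrum A))) fun P hP => ?_
    exact ⟨⟨P.asIdeal, ⟨P.2, hP.2⟩, fun R hR hRP =>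
      (congrArg PrimeSpectrum.asIdeal (hmin P hP.1 ⟨R, hR.1⟩ hR.2 hRP)).ge⟩, rfl⟩
  let T := hfin.toFinset
  have hclosed : ∀ p : PrimeSpectrum A, v.asIdeal ⊔ w.asIdeal ≤ p.asIdeal → u.asIdeal ≤ p.asIdeal →
      δ (X.fromSpecStalk ζ p) ≤ δ ζ := fun p hp hu => hxyz _ ((fromSpecStalk_specializes_iff u p).2 hu)
        ((fromSpecStalk_specializes_iff v p).2 (le_sup_left.trans hp))
        ((fromSpecStalk_specializes_iff w p).2 (le_sup_right.trans hp)) (fromSpecStalk_specializes p)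
  have hadd : AddOn {p : PrimeSpectrum A | v.asIdeal ⊔ w.asIdeal ≤ p.asIdeal}
      (fun M _ _ => IntMult.chi A M (A ⧸ u.asIdeal)) := (addOn_chi ha (A ⧸ u.asIdeal)).mono fun p hp hu => by
    have h1 := hclosed p hp (Ideal.annihilator_quotient.ge.trans (Module.mem_support_iff_of_finite.1 hu))
    have h2 : X.fromSpecStalk ζ p = ζ := by
      by_contra hne
      have := (hX.2.2 _ _ (fromSpecStalk_specializes p) hne).1
      omega
    rw [show p = closedPoint A from hinj (h2.trans Scheme.fromSpecStalk_closedPoint.symm)]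
    exact maximalIdeal.isMaximal A
  rw [interProd_eq_sum (r := δ (X.fromSpecStalk ζ u)) (s := s) _ _ ζ (by omega) {u} T
    (fun p hp => by rw [Finset.mem_singleton.1 hp]) (fun p hp => (hfin.mem_toFinset.1 hp).1)
    (fun p hp => Finset.mem_singleton.2 (hinj (Set.mem_singleton_iff.1 (Set.mem_of_indicator_ne_zero hp))))
    (fun p hp => by
      obtain ⟨c, d, hc, hd', hcb, hdb, hcd⟩ := interProd_ne_zero hp
      rw [Set.mem_singleton_iff.1 (Set.mem_of_indicator_ne_zero hc)] at hcb hcd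
      rw [Set.mem_singleton_iff.1 (Set.mem_of_indicator_ne_zero hd')] at hdb hcd
      exact hfin.mem_toFinset.2 ⟨by show δ (X.fromSpecStalk ζ p) = δ (X.fromSpecStalk ζ v) + δ (X.fromSpecStalk ζ w) - n; exact hcd.symm,
        sup_le ((fromSpecStalk_specializes_iff v p).1 hcb) ((fromSpecStalk_specializes_iff w p).1 hdb)⟩),
    Finset.sum_singleton, Phi_eq_sum ha _ _ _ (N := a + 2) (by omega)]
  have hval : ∀ p ∈ T, IntMult.interProd δ n (Set.indicator {X.fromSpecStalk ζ v} 1)
      (Set.indicator {X.fromSpecStalk ζ w} 1) (X.fromSpecStalk ζ p) =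
      ∑ i ∈ Finset.range (a + 2), (-1 : ℤ) ^ i * lp p (DRing.Tor A i (A ⧸ v.asIdeal) (A ⧸ w.asIdeal)) := fun p hp => by
    obtain ⟨h1, h2⟩ := hfin.mem_toFinset.1 hp
    rw [interProd_single _ _ _ ((fromSpecStalk_specializes_iff v p).2 (le_sup_left.trans h2))
      ((fromSpecStalk_specializes_iff w p).2 (le_sup_right.trans h2))
      (by show δ (X.fromSpecStalk ζ v) + δ (X.fromSpecStalk ζ w) - n = δ (X.fromSpecStalk ζ p); exact h1.symm), mult_localize ha v w p]
  have key : ∀ i, IntMult.chi A (A ⧸ u.asIdeal) (DRing.Tor A i (A ⧸ v.asIdeal) (A ⧸ w.asIdeal)) =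
      ∑ p ∈ T, lp p (DRing.Tor A i (A ⧸ v.asIdeal) (A ⧸ w.asIdeal)) * chiQ u p := fun i => by
    haveI := finite_tor (A := A) (A ⧸ v.asIdeal) (A ⧸ w.asIdeal) i
    rw [DiagRedLib.chi_comm (A := A) (A ⧸ u.asIdeal)]
    refine (devissage {p : PrimeSpectrum A | v.asIdeal ⊔ w.asIdeal ≤ p.asIdeal} T
      (fun p hp q hq hqp => hmin p (hfin.mem_toFinset.1 hp).1 q hq hqp)
      (fun M _ _ => IntMult.chi A M (A ⧸ u.asIdeal)) hadd (fun p hp hpT => ?_) _ (fun p hp => ?_)).trans
      (Finset.sum_congr rfl fun p _ => congrArg _ (DiagRedLib.chi_comm _ _))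
    · show chiQ p u = 0
      rw [← mult_fromSpecStalk]
      refine mult_eq_zero f hδ _ _ ζ (fromSpecStalk_specializes p) (fromSpecStalk_specializes u)
        (fun t h1 h2 h3 => ?_) ?_
      · have hpv := ((fromSpecStalk_specializes_iff v p).2 ((le_sup_left : v.asIdeal ≤ v.asIdeal ⊔ w.asIdeal).trans hp)).trans h1
        have hpw := ((fromSpecStalk_specializes_iff w p).2 ((le_sup_right : w.asIdeal ≤ v.asIdeal ⊔ w.asIdeal).trans hp)).trans h1
        have h4 := hxyz t h2 hpv hpw h3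
        by_contra hne
        have := (hX.2.2 _ _ h3 hne).1
        omega
      · have h1 := hbd p hp
        have h2 : δ (X.fromSpecStalk ζ p) ≠ s := fun e => hpT (hfin.mem_toFinset.2 ⟨e, hp⟩)
        show δ (X.fromSpecStalk ζ p) + δ (X.fromSpecStalk ζ u) - δ (genericPoint X) < δ ζ
        omega
    · obtain ⟨h1, h2⟩ := support_tor _ _ i hp
      show v.asIdeal ⊔ w.asIdeal ≤ p.asIdeal
      have e1 : v.asIdeal ≤ p.asIdeal := (Ideal.annihilator_quotient (I := v.asIdeal)).ge.trans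
        ((Module.mem_support_iff_of_finite (R := A) (M := A ⧸ v.asIdeal)).1 h1)
      have e2 : w.asIdeal ≤ p.asIdeal := (Ideal.annihilator_quotient (I := w.asIdeal)).ge.trans
        ((Module.mem_support_iff_of_finite (R := A) (M := A ⧸ w.asIdeal)).1 h2)
      exact sup_le e1 e2
  refine Eq.trans ?_ (Finset.sum_congr rfl fun i _ => congrArg ((-1 : ℤ) ^ i * ·) (key i)).symm
  simp only [Finset.mul_sum]
  rw [Finset.sum_comm]
  refine Finset.sum_congr rfl fun p hp => ?_
  rw [Set.indicator_of_mem (Set.mem_singleton _), Pi.one_apply, one_mul, hval p hp, Finset.sum_mul]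
  exact Finset.sum_congr rfl fun i _ => mul_assoc _ _ _

include f in
/-- Associativity at a point near which the intersections are proper. -/
theorem interProd_assoc_at (hX : Cyc.IsSetup X δ) (hδ : Cyc.DeltaCompat f δ (fun _ => 0)) (hn : δ (genericPoint X) = n)
    {ζ : X} (x y z : X) (hd : δ ζ = δ x + δ y + δ z - 2 * n)
    (hxy : ∀ t, x ⤳ t → y ⤳ t → t ⤳ ζ → δ t ≤ δ x + δ y - n)
    (hyz : ∀ t, y ⤳ t → z ⤳ t → t ⤳ ζ → δ t ≤ δ y + δ z - n)
    (hUVW : ∀ t, x ⤳ t → y ⤳ t → z ⤳ t → t ⤳ ζ → δ t ≤ δ ζ) :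
    IntMult.interProd δ n (Set.indicator {x} 1) (IntMult.interProd δ n (Set.indicator {y} 1) (Set.indicator {z} 1)) ζ =
      IntMult.interProd δ n (IntMult.interProd δ n (Set.indicator {x} 1) (Set.indicator {y} 1))
        (Set.indicator {z} 1) ζ := by
  haveI := hX.1
  rw [interProd_comm (IntMult.interProd δ n (Set.indicator {x} 1) (Set.indicator {y} 1))]
  by_cases hc : x ⤳ ζ ∧ y ⤳ ζ ∧ z ⤳ ζ
  swap
  · have h1 : IntMult.interProd δ n (Set.indicator {x} 1)
        (IntMult.interProd δ n (Set.indicator {y} 1) (Set.indicator {z} 1)) ζ = 0 :=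
      by_contra fun h => hc (by
        obtain ⟨a, b, c, -⟩ := interProd_nested_ne_zero h
        exact ⟨a, b, c⟩)
    have h2 : IntMult.interProd δ n (Set.indicator {z} 1)
        (IntMult.interProd δ n (Set.indicator {x} 1) (Set.indicator {y} 1)) ζ = 0 :=
      by_contra fun h => hc (by
        obtain ⟨a, b, c, -⟩ := interProd_nested_ne_zero h
        exact ⟨b, c, a⟩)
    rw [h1, h2]
  obtain ⟨hU, hV, hW⟩ := hc
  obtain ⟨u, rfl⟩ := CycLib.exists_fromSpecStalk hU
  obtain ⟨v, rfl⟩ := CycLib.exists_fromSpecStalk hV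
  obtain ⟨w, rfl⟩ := CycLib.exists_fromSpecStalk hW
  rw [interProd_inner f hX hδ hn u v w hd hyz hUVW,
    interProd_inner f hX hδ hn w u v (by omega) hxy (fun t h1 h2 h3 h4 => hUVW t h2 h3 h1 h4)]
  haveI := Groth.Agent.ASp.isRegularLocalRing_stalk_of_smooth_field f ζ
  haveI : Smooth (pullback.fst f f ≫ f) := inferInstance
  haveI : IsRegularLocalRing (DiagRedLib.Bd f ζ) :=
    Groth.Agent.ASp.isRegularLocalRing_stalk_of_smooth_field (pullback.fst f f ≫ f) (pullback.diagonal f ζ)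
  have hsurj : Function.Surjective (DiagRedLib.δd f ζ) := fun z =>
    ⟨DiagRedLib.φd f ζ z, congrArg (fun m => m z) (DiagRedLib.δ_φ f ζ)⟩
  let e := RingHom.quotientKerEquivOfSurjective hsurj
  haveI : IsRegularLocalRing (DiagRedLib.Bd f ζ ⧸ RingHom.ker (DiagRedLib.δd f ζ)) :=
    IsRegularLocalRing.of_ringEquiv e.symm
  obtain ⟨a, ha⟩ := RegLocal.exists_nat_ringKrullDim (X.presheaf.stalk ζ)
  obtain ⟨b, hb⟩ := RegLocal.exists_nat_ringKrullDim (DiagRedLib.Bd f ζ)
  obtain ⟨c, g, -, hg, -, hreg⟩ := DiagRedLib.exists_regular_span (RingHom.ker (DiagRedLib.δd f ζ)) hb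
    ((ringKrullDim_eq_of_ringEquiv e).trans ha)
  refine Phi_rotate (DiagRedLib.φd f ζ) (DiagRedLib.ψd f ζ) (DiagRedLib.δd f ζ) (DiagRedLib.δ_φ f ζ)
    (DiagRedLib.δ_ψ f ζ) (DiagRedLib.flat_φd f ζ) (DiagRedLib.flat_ψd f ζ) g hreg.toIsWeaklyRegular hg
    u.asIdeal v.asIdeal w.asIdeal ?_ fun p hu hv hw => ?_
  · have hmem : ζ ∈ (IntMult.ptIdeal (X.fromSpecStalk ζ w)).support := by
      rw [← SetLike.mem_coe, IMultLib.coe_support_ptIdeal, ← specializes_iff_mem_closure]
      exact CycLib.fromSpecStalk_specializes _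
    have := DiagRedLib.flat_quot_ψd f (IntMult.ptIdeal (X.fromSpecStalk ζ w)) ζ hmem
    rwa [stalkIdeal_ptIdeal_fromSpecStalk w] at this
  · have h4 := hUVW _ ((CycLib.fromSpecStalk_specializes_iff u p).2 hu) ((CycLib.fromSpecStalk_specializes_iff v p).2 hv)
      ((CycLib.fromSpecStalk_specializes_iff w p).2 hw) (CycLib.fromSpecStalk_specializes p)
    have h2 : X.fromSpecStalk ζ p = ζ := by
      by_contra hne
      have := (hX.2.2 _ _ (CycLib.fromSpecStalk_specializes p) hne).1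
      omega
    rw [show p = IsLocalRing.closedPoint (X.presheaf.stalk ζ) from
      (X.fromSpecStalk ζ).isEmbedding.injective (h2.trans Scheme.fromSpecStalk_closedPoint.symm)]
    exact IsLocalRing.maximalIdeal.isMaximal _


end Groth.Agent.ChiCycLib
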