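import Mathlib
import Groth.Agent.ChiCycLib.Inner
import Groth.Agent.TorLib.ChangeRing

/-! `Tor` of a finite algebra as a module over the algebra. -/

set_option autoImplicit false
set_option linter.style.haveILetI false
set_option backward.isDefEq.respectTransparency false

universe u

open CategoryTheory CategoryTheory.Limits MonoidalCategory IsLocalRing Groth.Agent TensorProduct

noncomputable section

namespace Groth.Agent.ChiCycLib

variable {R : Type u} [CommRing R] (C : Type u) [CommRing C] [Algebra R C]
  {N : ModuleCat.{u} R} (P : ProjectiveResolution N)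

/-- `Tor^R_i(C, N)` as a `C`-module. -/
def hx (i : ℕ) : ModuleCat.{u} C :=
  (((TorLib.extF C).mapHomologicalComplex (ComplexShape.down ℕ)).obj P.complex).homology i

/-- `C ⊗_R X` regarded over `R`. -/
def hxIso₀ : TorLib.extF (A := R) C ⋙ TorLib.resF C ≅ tensorLeft (ModuleCat.of R C) :=
  NatIso.ofComponents (fun X => LinearEquiv.toModuleIso (R := R)
      (X₁ := (TorLib.resF (A := R) C).obj ((TorLib.extF (A := R) C).obj X)) (X₂ := TensorProduct R C X)
    { (FlatCx.eB C X).toAddEquiv with
      map_smul' := fun a x => by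
        show FlatCx.eB C X (algebraMap R C a • (x : (TorLib.extF (A := R) C).obj X)) = a • FlatCx.eB C X x
        exact (map_smul (FlatCx.eB C X) _ _).trans (algebraMap_smul C a _) })
    (fun {X Y} g => by
      ext x : 2
      exact (FlatCx.eB_naturality C g x).trans (congrFun (LinearMap.baseChange_eq_ltensor _) _))

/-- Its underlying `R`-module. -/
theorem exists_hx_res (i : ℕ) (Q : Type u) [AddCommGroup Q] [Module R Q] (P : ProjectiveResolution (ModuleCat.of R Q)) :
    Nonempty ((TorLib.resF (A := R) C).obj (hx C P i) ≅ ModuleCat.of R (DRing.Tor R i C Q)) :=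
  ⟨(((((TorLib.extF C).mapHomologicalComplex (ComplexShape.down ℕ)).obj P.complex).sc i).mapHomologyIso
      (TorLib.resF C)).symm ≪≫
    (HomologicalComplex.homologyFunctor _ _ i).mapIso
      ((NatIso.mapHomologicalComplex (hxIso₀ C) (ComplexShape.down ℕ)).app P.complex) ≪≫
    (TorLib.torIso P (ModuleCat.of R C) i).symm⟩

/-- Flat base change. -/
theorem exists_hx_bc (L : Type u) [CommRing L] [Algebra R L] [Algebra C L] [IsScalarTower R C L] [Module.Flat C L]
    (i : ℕ) : Nonempty (L ⊗[C] (hx C P i) ≃ₗ[L] hx L P i) := by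
  haveI : PreservesFiniteLimits (ModuleCat.extendScalars.{u, u, u} (algebraMap C L)) :=
    ModuleCat.preservesFiniteLimits_extendScalars_of_flat (RingHom.flat_algebraMap_iff.mpr inferInstance)
  let K := ((TorLib.extF (A := R) C).mapHomologicalComplex (ComplexShape.down ℕ)).obj P.complex
  let F := TorLib.extF (A := C) L
  let c : TorLib.extF (A := R) C ⋙ F ≅ TorLib.extF (A := R) L :=
    (ModuleCat.extendScalarsComp (algebraMap R C) (algebraMap C L)).symm ≪≫
      eqToIso (congrArg ModuleCat.extendScalars.{u, u, u} (IsScalarTower.algebraMap_eq R C L).symm)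
  let e : F.obj (hx C P i) ≅ hx L P i :=
    ((K.sc i).mapHomologyIso F).symm ≪≫
      (HomologicalComplex.homologyFunctor _ _ i).mapIso
        ((NatIso.mapHomologicalComplex c (ComplexShape.down ℕ)).app P.complex)
  exact ⟨(FlatCx.eB L (hx C P i)).symm ≪≫ₗ e.toLinearEquiv⟩

section quot

variable (B L : Type u) [CommRing B] [CommRing L] [Algebra R B] [Algebra R L] [Algebra B L] [IsScalarTower R B L]

/-- `L ⊗_B (B ⊗_R X) = L ⊗_R X` over `B`. -/
def quotIso₀ : TorLib.extF (A := R) B ⋙ tensorLeft (ModuleCat.of B L) ≅ TorLib.extF (A := R) L ⋙ TorLib.resF L :=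
  NatIso.ofComponents (fun X => LinearEquiv.toModuleIso (R := B)
      (X₁ := TensorProduct B L ((TorLib.extF (A := R) B).obj X))
      (X₂ := (TorLib.resF (A := B) L).obj ((TorLib.extF (A := R) L).obj X))
    { (TorLib.changeAux B L X).symm.toAddEquiv.trans (FlatCx.eB L X).symm.toAddEquiv with
      map_smul' := fun b x => by
        show (FlatCx.eB L X).symm ((TorLib.changeAux B L X).symm (b • x)) =
          algebraMap B L b • (FlatCx.eB L X).symm ((TorLib.changeAux B L X).symm x)
        rw [map_smul, ← algebraMap_smul L b, map_smul] })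
    (fun {X Y} g => by
      ext x : 2
      show (FlatCx.eB L Y).symm ((TorLib.changeAux B L Y).symm (LinearMap.lTensor L ((TorLib.extF B).map g).hom x)) =
        ((TorLib.extF L).map g).hom ((FlatCx.eB L X).symm ((TorLib.changeAux B L X).symm x))
      apply (FlatCx.eB L Y).injective
      rw [LinearEquiv.apply_symm_apply, FlatCx.eB_naturality, LinearEquiv.apply_symm_apply,
        LinearEquiv.symm_apply_eq]
      obtain ⟨w, rfl⟩ := (TorLib.changeAux B L X).surjective x
      rw [LinearEquiv.symm_apply_apply]
      induction w using TensorProduct.induction_on with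
      | zero => simp only [map_zero]
      | tmul l m =>
        rw [TorLib.changeAux_tmul, LinearMap.lTensor_tmul, LinearMap.baseChange_tmul, TorLib.changeAux_tmul]
        congr 1
      | add a b ha hb => simp only [map_add, ha, hb])

/-- At a surjection from a flat algebra it is the `Tor` over that algebra. -/
theorem length_hx_quot [Module.Flat R B] (hsurj : Function.Surjective (algebraMap B L)) (i : ℕ)
    (Q : Type u) [AddCommGroup Q] [Module R Q] (P : ProjectiveResolution (ModuleCat.of R Q))
    (Q' : Type u) [AddCommGroup Q'] [Module B Q'] (e : TensorProduct R B Q ≃ₗ[B] Q') :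
    Module.length L (hx L P i) = Module.length B (DRing.Tor B i L Q') := by
  have h : ∀ n : ℕ, (TorLib.cx P (ModuleCat.of R B)).ExactAt (n + 1) := fun n =>
    (HomologicalComplex.exactAt_iff_isZero_homology _ _).mpr
      ((@ModuleCat.isZero_of_subsingleton R _ _ (TorLib.subsingleton_tor_of_flat B Q n)).of_iso
        (TorLib.torIso P (ModuleCat.of R B) (n + 1)).symm)
  let θ : ((CategoryTheory.Tor (ModuleCat.{u} B) i).obj (ModuleCat.of B L)).obj ((TorLib.extF B).obj (ModuleCat.of R Q))
      ≅ (TorLib.resF (A := B) L).obj (hx L P i) :=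
    TorLib.torIso (TorLib.extResolution B P h) (ModuleCat.of B L) i ≪≫
      (HomologicalComplex.homologyFunctor _ _ i).mapIso
        ((NatIso.mapHomologicalComplex (quotIso₀ B L) (ComplexShape.down ℕ)).app P.complex) ≪≫
      ((((TorLib.extF (A := R) L).mapHomologicalComplex (ComplexShape.down ℕ)).obj P.complex).sc i).mapHomologyIso
        (TorLib.resF L)
  let t := ((CategoryTheory.Tor (ModuleCat.{u} B) i).obj (ModuleCat.of B L)).mapIso
    ((FlatCx.eB B (ModuleCat.of R Q)).trans e).toModuleIso
  let φ : DRing.Tor B i L Q' ≃ₗ[B] (TorLib.resF (A := B) L).obj (hx L P i) := (t.symm ≪≫ θ).toLinearEquiv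
  rw [φ.length_eq]
  letI : Module B (hx L P i) := Module.compHom _ (algebraMap B L)
  haveI : IsScalarTower B L (hx L P i) := IsScalarTower.of_algebraMap_smul fun _ _ => rfl
  exact (Module.length_eq_of_surjective (M := hx L P i) hsurj).symm

end quot

/-- `χ` as a longer sum. -/
theorem chi_eq_sum' {A : Type u} [CommRing A] [IsRegularLocalRing A] {a : ℕ} (ha : ringKrullDim A = (a : WithBot ℕ∞))
    {N : ℕ} (hN : a + 2 ≤ N) (M M' : Type u) [AddCommGroup M] [Module A M] [AddCommGroup M'] [Module A M'] :
    IntMult.chi A M M' = ∑ i ∈ Finset.range N, (-1 : ℤ) ^ i * lz A (DRing.Tor A i M M') := by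
  rw [chi_eq_sum ha]
  refine Finset.sum_subset (Finset.range_mono hN) fun i _ hi => ?_
  haveI := subsingleton_tor ha M M' i (by simp at hi; omega)
  rw [lz, Module.length_eq_zero, ENat.toNat_zero, Nat.cast_zero, mul_zero]

end Groth.Agent.ChiCycLib
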