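import Mathlib
import Groth.Agent.ChiCycLib.PushTor
import Groth.Agent.CycLib.FinPush
import Groth.Agent.CycLib.NormPush
import Groth.Agent.CycLib.SheafPush

/-! Intersection numbers along a finite piece of a proper morphism. -/

set_option autoImplicit false
set_option linter.style.haveILetI false
set_option backward.isDefEq.respectTransparency false

universe u

open CategoryTheory CategoryTheory.Limits AlgebraicGeometry IsLocalRing Groth.Agent Groth.Agent.CycLib TensorProduct

noncomputable section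

namespace Groth.Agent.ChiCycLib

/-- A proper morphism is finite near a point with zero-dimensional fibre. -/
theorem exists_finite_nhd_of_maximal {V Y : Scheme.{u}} (g : V ⟶ Y) [IsProper g] (z : Y)
    (h : ∀ x w : V, g x = z → g w = z → w ⤳ x → w = x) :
    ∃ W : Y.Opens, IsAffineOpen W ∧ IsAffineOpen (g ⁻¹ᵁ W) ∧ (g.app W).hom.Finite ∧ z ∈ W := by
  have hqf : ∀ x : V, g x = z → g.QuasiFiniteAt x := fun x hx => by
    subst hx
    rw [Scheme.Hom.quasiFiniteAt_iff_isOpen_singleton_asFiber]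
    haveI : Finite ↥(g.fiber (g x)) := by
      haveI := (finite_fibre_of_maximal g (g x) h).to_subtype
      exact Finite.of_injective _ (g.fiberHomeo (g x)).injective
    haveI : T1Space ↥(g.fiber (g x)) := t1Space_iff_specializes_imp_eq.2 fun a b hab =>
        (g.fiberι _).isEmbedding.injective (h _ _ (g.fiberHomeo _ b).2 (g.fiberHomeo _ a).2
          (hab.map (g.fiberι _).continuous))
    exact isOpen_discrete _
  let Z := g '' (g.quasiFiniteLocus : Set V)ᶜ
  have hZ : IsClosed Z := g.isClosedMap _ g.quasiFiniteLocus.2.isClosed_compl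
  let U : Y.Opens := ⟨Zᶜ, hZ.isOpen_compl⟩
  have hzU : z ∈ U := fun ⟨x, hx, e⟩ => hx (hqf x e)
  haveI : LocallyQuasiFinite (g ∣_ U) := by
    rw [← Scheme.Hom.quasiFiniteLocus_eq_top_iff, eq_top_iff]
    intro x _
    show (g ∣_ U).QuasiFiniteAt x
    have h1 : ((g ⁻¹ᵁ U).ι ≫ g).QuasiFiniteAt x := by
      rw [Scheme.Hom.quasiFiniteAt_comp_iff_of_isOpenImmersion]
      by_contra hne
      exact x.2 ⟨_, hne, rfl⟩
    rwa [← morphismRestrict_ι, Scheme.Hom.quasiFiniteAt_comp_iff] at h1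
  haveI : IsProper (g ∣_ U) := IsZariskiLocalAtTarget.restrict ‹_› U
  haveI : IsFinite (g ∣_ U) := IsFinite.of_isProper_of_locallyQuasiFinite _
  exact exists_affine_finite_app g hzU

theorem length_localized_congr {R : Type u} [CommRing R] (p : Ideal R) [p.IsPrime] {M M' : Type u} [AddCommGroup M]
    [Module R M] [AddCommGroup M'] [Module R M'] (e : M ≃ₗ[R] M') :
    Module.length (Localization.AtPrime p) (LocalizedModule p.primeCompl M) =
      Module.length (Localization.AtPrime p) ((Localization.AtPrime p) ⊗[R] M') := by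
  have hb : IsBaseChange (Localization.AtPrime p) (LocalizedModule.mkLinearMap p.primeCompl M) :=
    IsLocalizedModule.isBaseChange p.primeCompl _ _
  rw [← hb.equiv.length_eq, (TensorProduct.AlgebraTensorModule.congr (LinearEquiv.refl (Localization.AtPrime p) _) e).length_eq]

variable {X Y V : Scheme.{u}}

/-- The intersection numbers with a finite direct image. -/
theorem chi_push (f : X ⟶ Y) [Flat f] [IsLocallyNoetherian X] [IsLocallyNoetherian Y] (ι : V ⟶ X) [IsClosedImmersion ι]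
    {z : Y} [IsRegularLocalRing (Y.presheaf.stalk z)]
    (hreg : ∀ v : V, (ι ≫ f) v = z → IsRegularLocalRing (X.presheaf.stalk (ι v)))
    {W : Y.Opens} (hW : IsAffineOpen W) (hU : IsAffineOpen ((ι ≫ f) ⁻¹ᵁ W)) (hWfin : ((ι ≫ f).app W).hom.Finite)
    (hzW : z ∈ W) (I : Ideal Γ(Y, W)) (c : V → ℤ)
    (hfin : ∀ (v : V) (hv : f (ι v) ∈ W), (ι ≫ f) v = z → ∀ p : PrimeSpectrum (X.presheaf.stalk (ι v)),
      RingHom.ker (ι.stalkMap v).hom ≤ p.asIdeal →
      I.map ((f.stalkMap (ι v)).hom.comp (Y.presheaf.germ W (f (ι v)) hv).hom) ≤ p.asIdeal → p.asIdeal.IsMaximal)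
    (hc : ∀ (v : V) (hv : f (ι v) ∈ W), (ι ≫ f) v = z → c v =
      IntMult.chi (X.presheaf.stalk (ι v)) (X.presheaf.stalk (ι v) ⧸ RingHom.ker (ι.stalkMap v).hom)
        (X.presheaf.stalk (ι v) ⧸ I.map ((f.stalkMap (ι v)).hom.comp (Y.presheaf.germ W (f (ι v)) hv).hom))) :
    letI : Algebra Γ(Y, W) (Y.presheaf.stalk z) := (Y.presheaf.germ W z hzW).hom.toAlgebra
    letI : Algebra Γ(Y, W) Γ(V, (ι ≫ f) ⁻¹ᵁ W) := ((ι ≫ f).app W).hom.toAlgebra
    IntMult.chi (Y.presheaf.stalk z) ((Y.presheaf.stalk z) ⊗[Γ(Y, W)] Γ(V, (ι ≫ f) ⁻¹ᵁ W))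
        (Y.presheaf.stalk z ⧸ I.map (algebraMap Γ(Y, W) (Y.presheaf.stalk z))) =
      ∑ᶠ v ∈ (ι ≫ f) ⁻¹' {z}, ((ι ≫ f).residueDegree v : ℤ) * c v := by
  classical
  set g := ι ≫ f with hgdef
  let R := Γ(Y, W)
  let C := Γ(V, g ⁻¹ᵁ W)
  let A := Y.presheaf.stalk z
  letI algRA : Algebra R A := (Y.presheaf.germ W z hzW).hom.toAlgebra
  letI algRC : Algebra R C := (g.app W).hom.toAlgebra
  haveI : IsNoetherianRing R := IsLocallyNoetherian.component_noetherian ⟨W, hW⟩
  haveI : Module.Finite R C := hWfin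
  haveI hlocA : IsLocalization.AtPrime A (hW.primeIdealOf ⟨z, hzW⟩).asIdeal := hW.isLocalization_stalk ⟨z, hzW⟩
  haveI : Module.Flat R A := IsLocalization.flat A (hW.primeIdealOf ⟨z, hzW⟩).asIdeal.primeCompl
  obtain ⟨a, ha⟩ := RegLocal.exists_nat_ringKrullDim A
  let P := projectiveResolution (ModuleCat.of R (R ⧸ I))
  haveI hmodfin : ∀ i, Module.Finite C (hx C P i) := fun i => by
    obtain ⟨e⟩ := exists_hx_res C i (R ⧸ I) P
    haveI := finite_tor (A := R) C (R ⧸ I) i
    haveI : Module.Finite R ((TorLib.resF (A := R) C).obj (hx C P i)) := Module.Finite.equiv e.toLinearEquiv.symm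
    letI : Module R (hx C P i) := Module.compHom _ (algebraMap R C)
    haveI : IsScalarTower R C (hx C P i) := IsScalarTower.of_algebraMap_smul fun _ _ => rfl
    haveI : Module.Finite R (hx C P i) := ‹Module.Finite R ((TorLib.resF (A := R) C).obj (hx C P i))›
    exact Module.Finite.of_restrictScalars_finite R C _
  let T : ∀ (v : V), f (ι v) ∈ W → ℕ → ℕ∞ := fun v hv i =>
    Module.length (X.presheaf.stalk (ι v)) (DRing.Tor (X.presheaf.stalk (ι v)) i
      (X.presheaf.stalk (ι v) ⧸ RingHom.ker (ι.stalkMap v).hom)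
      (X.presheaf.stalk (ι v) ⧸ I.map ((f.stalkMap (ι v)).hom.comp (Y.presheaf.germ W (f (ι v)) hv).hom)))
  let G : ℕ → V → ℕ∞ := fun i v => if h : f (ι v) ∈ W ∧ g v = z then T v h.1 i else 0
  have hTfin : ∀ (v : V) (hv : f (ι v) ∈ W), g v = z → ∀ i, T v hv i ≠ ⊤ := fun v hv hvz i => by
    haveI := hreg v hvz
    refine length_tor_ne_top _ _ (fun p hp hq => hfin v hv hvz p ?_ ?_) i
    · exact Ideal.annihilator_quotient.ge.trans (Module.mem_support_iff_of_finite.1 hp)
    · exact Ideal.annihilator_quotient.ge.trans (Module.mem_support_iff_of_finite.1 hq)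
  have hloc : ∀ (i : ℕ) (v : V) (hvU : v ∈ g ⁻¹ᵁ W), g v = z →
      Module.length (Localization.AtPrime (hU.primeIdealOf ⟨v, hvU⟩).asIdeal)
        (LocalizedModule (hU.primeIdealOf ⟨v, hvU⟩).asIdeal.primeCompl (hx C P i)) = G i v := by
    intro i v hvU hvz
    have hv : f (ι v) ∈ W := hvU
    simp only [G, dif_pos (And.intro hv hvz)]
    let n := (hU.primeIdealOf ⟨v, hvU⟩).asIdeal
    let L := Localization.AtPrime n
    let B := X.presheaf.stalk (ι v)
    let ψ : R →+* B := (f.stalkMap (ι v)).hom.comp (Y.presheaf.germ W (f (ι v)) hv).hom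
    letI algRB : Algebra R B := ψ.toAlgebra
    haveI : Module.Flat R B := by
      letI : Algebra R (Y.presheaf.stalk (f (ι v))) := (Y.presheaf.germ W (f (ι v)) hv).hom.toAlgebra
      letI : Algebra (Y.presheaf.stalk (f (ι v))) B := (f.stalkMap (ι v)).hom.toAlgebra
      haveI : IsScalarTower R (Y.presheaf.stalk (f (ι v))) B := IsScalarTower.of_algebraMap_eq' rfl
      haveI := hW.isLocalization_stalk ⟨f (ι v), hv⟩
      haveI : Module.Flat R (Y.presheaf.stalk (f (ι v))) :=
        IsLocalization.flat _ (hW.primeIdealOf ⟨f (ι v), hv⟩).asIdeal.primeCompl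
      haveI : Module.Flat (Y.presheaf.stalk (f (ι v))) B := Flat.stalkMap f (ι v)
      exact Module.Flat.trans R (Y.presheaf.stalk (f (ι v))) B
    let Sv := V.presheaf.stalk v
    letI algCS : Algebra C Sv := (V.presheaf.germ (g ⁻¹ᵁ W) v hvU).hom.toAlgebra
    haveI : IsLocalization.AtPrime Sv n := hU.isLocalization_stalk ⟨v, hvU⟩
    let σ : Sv ≃ₐ[C] L := IsLocalization.algEquiv n.primeCompl Sv L
    letI algBL : Algebra B L := (σ.toRingEquiv.toRingHom.comp (ι.stalkMap v).hom).toAlgebra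
    have hker : RingHom.ker (algebraMap B L) = RingHom.ker (ι.stalkMap v).hom :=
      RingHom.ker_comp_of_injective _ σ.injective
    have hsurj : Function.Surjective (algebraMap B L) :=
      σ.surjective.comp (ι.stalkMap_surjective v)
    haveI : IsScalarTower R B L := IsScalarTower.of_algebraMap_eq fun r => by
      rw [IsScalarTower.algebraMap_apply R C L, ← σ.commutes]
      show σ (V.presheaf.germ (g ⁻¹ᵁ W) v hvU (g.app W r)) =
        σ (ι.stalkMap v (f.stalkMap (ι v) (Y.presheaf.germ W (f (ι v)) hv r)))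
      rw [Scheme.Hom.germ_stalkMap_apply, Scheme.Hom.germ_stalkMap_apply]
      rfl
    haveI : Module.Flat C L := IsLocalization.flat L n.primeCompl
    obtain ⟨e⟩ := exists_hx_bc C P L i
    have hb : IsBaseChange L (LocalizedModule.mkLinearMap n.primeCompl (hx C P i)) :=
      IsLocalizedModule.isBaseChange n.primeCompl _ _
    rw [← hb.equiv.length_eq, e.length_eq,
      length_hx_quot B L hsurj i (R ⧸ I) P (B ⧸ I.map (algebraMap R B))
        (Algebra.TensorProduct.quotIdealMapEquivTensorQuot B I).symm.toLinearEquiv]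
    exact tor_congr_length
      ((Ideal.quotientKerAlgEquivOfSurjective (f := Algebra.ofId B L) hsurj).symm.toLinearEquiv.trans
        (Submodule.quotEquivOfEq _ _ hker)) (LinearEquiv.refl _ _) i
  have hG : ∀ i v, g v = z → G i v ≠ ⊤ := fun i v hvz => by
    simp only [G]
    split_ifs with h
    · exact hTfin v h.1 hvz i
    · exact ENat.zero_ne_top
  obtain ⟨Fs, hFs, -⟩ : ∃ Fs : Finset V, (↑Fs = g ⁻¹' {z}) ∧ True := by
    letI : Module R (hx C P 0) := Module.compHom _ (algebraMap R C)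
    have := (length_eq_sum_fibre g hW hU hWfin hzW (hx C P 0) (fun _ _ => rfl) (G 0) (hloc 0) (hG 0)).1
    exact ⟨this.toFinset, this.coe_toFinset, trivial⟩
  have hlen : ∀ i, lz A (DRing.Tor A i (A ⊗[R] C) (A ⧸ I.map (algebraMap R A))) =
      ∑ v ∈ Fs, (g.residueDegree v : ℤ) * ((G i v).toNat : ℤ) := fun i => by
    letI : Module R (hx C P i) := Module.compHom _ (algebraMap R C)
    obtain ⟨hfinite, hsum⟩ := length_eq_sum_fibre g hW hU hWfin hzW (hx C P i) (fun _ _ => rfl) (G i) (hloc i) (hG i)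
    obtain ⟨eR⟩ := exists_hx_res C i (R ⧸ I) P
    obtain ⟨t⟩ := FlatCx.tor_baseChange (A := R) (B := A) C (R ⧸ I) i
    rw [lz, ← tor_congr_length (LinearEquiv.refl A (A ⊗[R] C))
      (Algebra.TensorProduct.quotIdealMapEquivTensorQuot A I).symm.toLinearEquiv i, ← t.length_eq,
      length_baseChange_loc (hW.primeIdealOf ⟨z, hzW⟩) (S := A), lp]
    let eR' : (hx C P i : Type u) ≃ₗ[R] DRing.Tor R i C (R ⧸ I) := eR.toLinearEquiv
    rw [length_localized_congr (hW.primeIdealOf ⟨z, hzW⟩).asIdeal (LinearEquiv.refl R (DRing.Tor R i C (R ⧸ I))),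
      ← length_localized_congr (hW.primeIdealOf ⟨z, hzW⟩).asIdeal eR', hsum, ← hFs, finsum_mem_coe_finset,
      ENat.toNat_sum fun v hv => WithTop.mul_ne_top (ENat.natCast_ne_top _)
        (hG i v (by
          have : v ∈ g ⁻¹' {z} := hFs ▸ hv
          exact this))]
    push_cast
    exact Finset.sum_congr rfl fun v _ => by rw [ENat.toNat_mul, ENat.toNat_natCast]; push_cast; rfl
  have hb : ∀ v ∈ Fs, ∃ b : ℕ, ringKrullDim (X.presheaf.stalk (ι v)) = (b : WithBot ℕ∞) := fun v hv => by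
    haveI := hreg v (show v ∈ g ⁻¹' {z} from hFs ▸ hv)
    exact RegLocal.exists_nat_ringKrullDim _
  choose b hb using hb
  let M := a + 2 + ∑ v ∈ Fs.attach, (b v.1 v.2 + 2)
  show IntMult.chi A (A ⊗[R] C) (A ⧸ I.map (algebraMap R A)) = _
  rw [chi_eq_sum' ha (N := M) (by omega), ← hFs, finsum_mem_coe_finset]
  simp only [hlen, Finset.mul_sum]
  rw [Finset.sum_comm]
  refine Finset.sum_congr rfl fun v hv => ?_
  have hvz : g v = z := show v ∈ g ⁻¹' {z} from hFs ▸ hv
  have hvW : f (ι v) ∈ W := by rw [show f (ι v) = z from hvz]; exact hzW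
  haveI := hreg v hvz
  have hle : b v hv + 2 ≤ M := le_trans (Finset.single_le_sum (f := fun w : Fs => b w.1 w.2 + 2) (fun _ _ => Nat.zero_le _)
    (Finset.mem_attach _ ⟨v, hv⟩)) (Nat.le_add_left _ _)
  rw [hc v hvW hvz, chi_eq_sum' (hb v hv) hle, Finset.mul_sum]
  refine Finset.sum_congr rfl fun i _ => ?_
  simp only [G, dif_pos (And.intro hvW hvz), T, lz]
  ring

end Groth.Agent.ChiCycLib
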