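import Mathlib
import Groth.Agent.ChiCycLib.PushSum
import Groth.Agent.ChiCycLib.Pull
import Groth.Agent.IMultLib.MultOne
import Groth.Agent.IdealStalkLib.Cartier
import Groth.Agent.CycLib.DegZero
import Groth.Agent.AssSupLib.Support
import Groth.Agent.CycLib.Shift

/-! The projection formula for a pair of points. -/

set_option autoImplicit false
set_option linter.style.haveILetI false
set_option maxHeartbeats 800000
set_option backward.isDefEq.respectTransparency false

universe u

open CategoryTheory CategoryTheory.Limits AlgebraicGeometry IsLocalRing Groth.Agent Groth.Agent.CycLib TensorProduct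

noncomputable section

namespace Groth.Agent.ChiCycLib

variable {X Y : Scheme.{u}} (f : X ⟶ Y)

/-- The intersection number at `x` of the closure of `ξ` with the inverse image of that of `η`. -/
def cc (ξ : X) (η : Y) (x : X) : ℤ :=
  IntMult.chi (X.presheaf.stalk x) (X.presheaf.stalk x ⧸ IntMult.stalkIdeal (IntMult.ptIdeal ξ) x)
    (X.presheaf.stalk x ⧸ (IntMult.stalkIdeal (IntMult.ptIdeal η) (f x)).map (f.stalkMap x).hom)

theorem mem_support_quot {A : Type u} [CommRing A] (I : Ideal A) (P : PrimeSpectrum A) :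
    P ∈ Module.support A (A ⧸ I) ↔ I ≤ P.asIdeal := by
  rw [Module.mem_support_iff_of_finite, Ideal.annihilator_quotient]

theorem map_le_iff_specializes (x : X) (q : PrimeSpectrum (Y.presheaf.stalk (f x))) (P : PrimeSpectrum (X.presheaf.stalk x)) :
    q.asIdeal.map (f.stalkMap x).hom ≤ P.asIdeal ↔
      Y.fromSpecStalk (f x) q ⤳ f (X.fromSpecStalk x P) := by
  have h := CycLib.fromSpecStalk_specializes q
  have := clIdeal_le_iff (p := f) h P
  unfold clIdeal at this
  rw [ker_specMap_eq q h] at this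
  exact this

variable {K : Type u} [Field K] [IsLocallyNoetherian X] [IsLocallyNoetherian Y]
  (gX : X ⟶ Spec (CommRingCat.of K)) [Smooth gX] [IsSeparated gX] [IsIntegral X]
  {δX : X → ℤ} {δY : Y → ℤ} (hδX' : Cyc.IsDimFun X δX) (hδY' : Cyc.IsDimFun Y δY)
  (hδX : Cyc.DeltaCompat gX δX (fun _ => 0)) {n m e r s k : ℤ} (hn : δX (genericPoint X) = n) (he : e = n - m)
  (hs : IsShift f δX δY e) (hk : k = r + s - m)

include hδX' hδY' hs in
/-- The components over a point form a finite set. -/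
theorem finite_comps (η : Y) (hη : δY η = s) (x : X) :
    {Q : PrimeSpectrum (X.presheaf.stalk x) | δX (X.fromSpecStalk x Q) = s + e ∧ η ⤳ f (X.fromSpecStalk x Q)}.Finite ∧
      ∀ Q : PrimeSpectrum (X.presheaf.stalk x), η ⤳ f (X.fromSpecStalk x Q) → δX (X.fromSpecStalk x Q) ≤ s + e ∧
        (δX (X.fromSpecStalk x Q) = s + e → f (X.fromSpecStalk x Q) = η ∧
          ∀ R : PrimeSpectrum (X.presheaf.stalk x), η ⤳ f (X.fromSpecStalk x R) → R.asIdeal ≤ Q.asIdeal → R = Q) := by
  have hbound : ∀ w : X, η ⤳ f w → δX w ≤ s + e := fun w hw => by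
    have h1 := hs.le hδX' w
    have h2 := CycLib.delta_le hδY' hw
    omega
  have hmain : ∀ Q : PrimeSpectrum (X.presheaf.stalk x), η ⤳ f (X.fromSpecStalk x Q) →
      δX (X.fromSpecStalk x Q) ≤ s + e ∧
        (δX (X.fromSpecStalk x Q) = s + e → f (X.fromSpecStalk x Q) = η ∧
          ∀ R : PrimeSpectrum (X.presheaf.stalk x), η ⤳ f (X.fromSpecStalk x R) → R.asIdeal ≤ Q.asIdeal → R = Q) := by
    refine fun Q hQ => ⟨hbound _ hQ, fun hd => ⟨?_, fun R hR hRQ => ?_⟩⟩
    · by_contra hne
      have h1 := hs.le hδX' (X.fromSpecStalk x Q)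
      have h2 := (hδY' _ _ hQ (Ne.symm hne)).1
      omega
    · by_contra hne
      have h1 := (hδX' _ _ ((fromSpecStalk_specializes_iff R Q).2 hRQ)
        ((X.fromSpecStalk x).isEmbedding.injective.ne hne)).1
      have h2 := hbound _ hR
      omega
  refine ⟨?_, hmain⟩
  by_cases hηx : η ⤳ f x
  swap
  · refine Set.Finite.subset Set.finite_empty fun Q hQ => hηx ?_
    exact hQ.2.trans ((CycLib.fromSpecStalk_specializes Q).map f.continuous)
  obtain ⟨q, rfl⟩ := CycLib.exists_fromSpecStalk hηx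
  let J := q.asIdeal.map (f.stalkMap x).hom
  haveI : Finite J.minimalPrimes := (Ideal.finite_minimalPrimes_of_isNoetherianRing _ J).to_subtype
  refine Set.Finite.subset ((Set.finite_range fun R : J.minimalPrimes =>
    (⟨R.1, R.2.1.1⟩ : PrimeSpectrum (X.presheaf.stalk x)))) fun P hP => ?_
  refine ⟨⟨P.asIdeal, ⟨P.2, (map_le_iff_specializes f x q P).2 hP.2⟩, fun R hR hRP => ?_⟩, rfl⟩
  exact (congrArg PrimeSpectrum.asIdeal (((hmain P hP.2).2 hP.1).2 ⟨R, hR.1⟩
    ((map_le_iff_specializes f x q ⟨R, hR.1⟩).1 hR.2) hRP)).ge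

include gX hδX' hδY' hδX hn he hs hk in
/-- The intersection number is that with the pulled back cycle. -/
theorem cc_eq (ξ : X) (η : Y) (hξ : δX ξ = r) (hη : δY η = s) (x : X) (hξx : ξ ⤳ x) (hηx : η ⤳ f x) (hx : δX x = k)
    (hcommon : ∀ t : X, ξ ⤳ t → η ⤳ f t → δX t ≤ k)
    (P : PrimeSpectrum (X.presheaf.stalk x)) (hP : X.fromSpecStalk x P = ξ) :
    cc f ξ η x = ∑ Q ∈ (finite_comps f hδX' hδY' hs η hη x).1.toFinset,
      ((Module.length (X.presheaf.stalk (X.fromSpecStalk x Q)) (X.presheaf.stalk (X.fromSpecStalk x Q) ⧸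
        fibIdeal f (X.fromSpecStalk x Q))).toNat : ℤ) * chiQ P Q := by
  classical
  subst hP
  obtain ⟨q, rfl⟩ := CycLib.exists_fromSpecStalk hηx
  haveI := Groth.Agent.ASp.isRegularLocalRing_stalk_of_smooth_field gX x
  obtain ⟨a, ha, -⟩ := dim_stalk gX hδX x
  rw [cc, stalkIdeal_ptIdeal_fromSpecStalk P, stalkIdeal_ptIdeal_fromSpecStalk q]
  let B := X.presheaf.stalk x
  have hinj := (X.fromSpecStalk x).isEmbedding.injective
  set T := (finite_comps f hδX' hδY' hs _ hη x).1.toFinset with hTdef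
  have hT : ∀ Q, Q ∈ T ↔ (δX (X.fromSpecStalk x Q) = s + e ∧
      Y.fromSpecStalk (f x) q ⤳ f (X.fromSpecStalk x Q)) := fun Q => Set.Finite.mem_toFinset _
  have hcomp := (finite_comps f hδX' hδY' hs _ hη x).2
  have hN : ∀ Q, Q ∈ Module.support B (B ⧸ q.asIdeal.map (f.stalkMap x).hom) ↔
      Y.fromSpecStalk (f x) q ⤳ f (X.fromSpecStalk x Q) := fun Q =>
    (mem_support_quot _ Q).trans (map_le_iff_specializes f x q Q)
  have hcap : ∀ (P' Q : PrimeSpectrum B) (t : X), P.asIdeal ≤ P'.asIdeal →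
      Y.fromSpecStalk (f x) q ⤳ f (X.fromSpecStalk x Q) → X.fromSpecStalk x P' ⤳ t →
      X.fromSpecStalk x Q ⤳ t → t ⤳ x → t = x := by
    intro P' Q t hP' hQ h1 h2 h3
    by_contra hne
    have h4 := hcommon t (((fromSpecStalk_specializes_iff P P').2 hP').trans h1) (hQ.trans (h2.map f.continuous))
    have h5 := (hδX' t x h3 hne).1
    omega
  rw [devissage_chi ha (B ⧸ P.asIdeal) (B ⧸ q.asIdeal.map (f.stalkMap x).hom) {P} T
    (fun p hp => by rw [Finset.mem_singleton.1 hp]; exact (mem_support_quot _ P).2 le_rfl)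
    (fun Q hQ => (hN Q).2 ((hT Q).1 hQ).2)
    (fun p hp R hR hRp => by
      rw [Finset.mem_singleton.1 hp] at hRp ⊢
      exact PrimeSpectrum.ext (le_antisymm hRp ((mem_support_quot _ R).1 hR)))
    (fun Q hQ R hR hRQ => ((hcomp Q ((hT Q).1 hQ).2).2 ((hT Q).1 hQ).1).2 R ((hN R).1 hR) hRQ)
    (fun R hR hR' => by
      have h1 := hcap R R _ ((mem_support_quot _ R).1 hR) ((hN R).1 hR') specializes_rfl specializes_rfl
        (CycLib.fromSpecStalk_specializes R)
      rw [show R = closedPoint B from hinj (h1.trans Scheme.fromSpecStalk_closedPoint.symm)]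
      exact maximalIdeal.isMaximal B)
    (fun P' hP' Q hQ hor => by
      show chiQ P' Q = 0
      rw [← mult_fromSpecStalk]
      refine mult_eq_zero gX hδX _ _ x (CycLib.fromSpecStalk_specializes P') (CycLib.fromSpecStalk_specializes Q)
        (fun t h1 h2 h3 => hcap P' Q t ((mem_support_quot _ P').1 hP') ((hN Q).1 hQ) h1 h2 h3) ?_
      have hsp := (fromSpecStalk_specializes_iff P P').2 ((mem_support_quot _ P').1 hP')
      have h1 := CycLib.delta_le hδX' hsp
      have h2 := (hcomp Q ((hN Q).1 hQ)).1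
      rcases hor with h | h
      · have h3 := (hδX' _ _ hsp (hinj.ne (Ne.symm fun e' => h (Finset.mem_singleton.2 e')))).1
        omega
      · have : δX (X.fromSpecStalk x Q) ≠ s + e := fun e' => h ((hT Q).2 ⟨e', (hN Q).1 hQ⟩)
        omega)]
  rw [Finset.sum_singleton]
  refine Finset.sum_congr rfl fun Q hQ => ?_
  rw [lp_quot_self, one_mul, lp_fibre f Q q ((hcomp Q ((hT Q).1 hQ).2).2 ((hT Q).1 hQ).1).1]
  rfl

variable (gY : Y ⟶ Spec (CommRingCat.of K)) [Smooth gY] [IsSeparated gY] [IsIntegral Y]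
  (hδY : Cyc.DeltaCompat gY δY (fun _ => 0)) (hm : δY (genericPoint Y) = m) (hδ : Cyc.DeltaCompat f δX δY)
  [Flat f] [IsProper f]

include gX gY hδX' hδY' hδY hm hδ hk in
open Classical in
/-- The sum over the fibre. -/
theorem push_pair (ξ : X) (η : Y) (hξ : δX ξ = r) (hη : δY η = s) (z : Y) (hz : δY z = k) (hηz : η ⤳ z)
    (hcommon : ∀ t : X, ξ ⤳ t → η ⤳ f t → δX t ≤ k) :
    {x : X | f x = z ∧ ξ ⤳ x}.Finite ∧
    (∀ x : X, f x = z → ξ ⤳ x → δX x = k) ∧
    ∑ᶠ x ∈ {x : X | f x = z ∧ ξ ⤳ x}, (f.residueDegree x : ℤ) * cc f ξ η x =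
      if δY (f ξ) = r ∧ f ξ ⤳ z then
        (f.residueDegree ξ : ℤ) * IntMult.mult (IntMult.ptIdeal (f ξ)) (IntMult.ptIdeal η) z
      else 0 := by
  classical
  have hdge : ∀ x : X, δY (f x) ≤ δX x := fun x => by
    obtain ⟨c, -, hc⟩ := hδ x
    omega
  have hfib : ∀ x : X, f x = z → ξ ⤳ x → δX x = k := fun x hx hξx => by
    have h1 := hcommon x hξx (by rw [hx]; exact hηz)
    have h2 := hdge x
    rw [hx, hz] at h2
    omega
  let V := (IntMult.ptIdeal ξ).subscheme
  let ι : V ⟶ X := (IntMult.ptIdeal ξ).subschemeι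
  haveI : IsIntegral V := IMultLib.isIntegral_ptIdeal ξ
  have hrange : Set.range ι = closure ({ξ} : Set X) := by
    rw [Scheme.IdealSheafData.range_subschemeι, IMultLib.coe_support_ptIdeal]
  have hιinj : Function.Injective ι := ι.isClosedEmbedding.injective
  have hιsp : ∀ v : V, ξ ⤳ ι v := fun v => specializes_iff_mem_closure.2 (hrange ▸ Set.mem_range_self v)
  have hιsurj : ∀ x : X, ξ ⤳ x → ∃ v : V, ι v = x := fun x hx => by
    have : x ∈ Set.range ι := hrange ▸ specializes_iff_mem_closure.1 hx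
    exact this
  set g := ι ≫ f with hg
  have hgap : ∀ v, g v = f (ι v) := fun v => rfl
  have hgmax : ∀ a b : V, g a = z → g b = z → b ⤳ a → b = a := fun a b ha hb hba => by
    by_contra hne
    have h1 := (hδX' _ _ (hba.map ι.continuous) (hιinj.ne hne)).1
    have e1 := hfib _ ha (hιsp a)
    have e2 := hfib _ hb (hιsp b)
    exact absurd (e1.trans e2.symm) h1.ne
  obtain ⟨W, hW, hU, hWfin, hzW⟩ := exists_finite_nhd_of_maximal g z hgmax
  have himg : ι '' (g ⁻¹' {z}) = {x : X | f x = z ∧ ξ ⤳ x} := by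
    ext x
    constructor
    · rintro ⟨v, hv, rfl⟩
      exact ⟨hv, hιsp v⟩
    · rintro ⟨hx, hξx⟩
      obtain ⟨v, rfl⟩ := hιsurj x hξx
      exact ⟨v, hx, rfl⟩
  have hfibfin : (g ⁻¹' {z}).Finite := finite_fibre_of_maximal g z hgmax
  refine ⟨himg ▸ hfibfin.image ι, hfib, ?_⟩
  rw [← himg, finsum_mem_image hιinj.injOn]
  have hdeg : ∀ v : V, g.residueDegree v = f.residueDegree (ι v) := fun v => by
    rw [hg, CycLib.residueDegree_comp_left ι f v (CycLib.bijective_residueFieldMap ι v)]
  rw [finsum_mem_congr rfl fun v _ =>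
    show (f.residueDegree (ι v) : ℤ) * cc f ξ η (ι v) = (g.residueDegree v : ℤ) * cc f ξ η (ι v) by rw [hdeg]]
  -- the local algebra at `z`
  have hηW : η ∈ W := hηz.mem_open W.2 hzW
  haveI := Groth.Agent.ASp.isRegularLocalRing_stalk_of_smooth_field gY z
  obtain ⟨a, ha, -⟩ := dim_stalk gY hδY z
  let R := Γ(Y, W)
  let C := Γ(V, g ⁻¹ᵁ W)
  let A := Y.presheaf.stalk z
  let I : Ideal R := (IntMult.ptIdeal η).ideal ⟨W, hW⟩
  obtain ⟨q, hq⟩ := CycLib.exists_fromSpecStalk hηz
  letI algRA : Algebra R A := (Y.presheaf.germ W z hzW).hom.toAlgebra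
  letI algRC : Algebra R C := (g.app W).hom.toAlgebra
  haveI : Module.Finite R C := hWfin
  haveI : IsNoetherianRing R := IsLocallyNoetherian.component_noetherian ⟨W, hW⟩
  have hIA : I.map (algebraMap R A) = q.asIdeal := by
    rw [← stalkIdeal_ptIdeal_fromSpecStalk q, hq]
    exact (IdealStalkLib.stalkIdeal_eq _ ⟨W, hW⟩ z hzW).symm
  have hIB : ∀ (v : V) (hv : f (ι v) ∈ W),
      I.map ((f.stalkMap (ι v)).hom.comp (Y.presheaf.germ W (f (ι v)) hv).hom) =
        (IntMult.stalkIdeal (IntMult.ptIdeal η) (f (ι v))).map (f.stalkMap (ι v)).hom := fun v hv => by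
    rw [← Ideal.map_map, IdealStalkLib.stalkIdeal_eq _ ⟨W, hW⟩ (f (ι v)) hv]
  have hker : ∀ v : V, RingHom.ker (ι.stalkMap v).hom = IntMult.stalkIdeal (IntMult.ptIdeal ξ) (ι v) :=
    fun v => IdealStalkLib.ker_stalkMap_subschemeι _ v
  have key := chi_push f ι (z := z) (fun v _ => Groth.Agent.ASp.isRegularLocalRing_stalk_of_smooth_field gX _)
    hW hU hWfin hzW I (fun v => cc f ξ η (ι v))
    (fun v hv hvz p h1 h2 => by
      rw [hker] at h1
      rw [hIB] at h2
      obtain ⟨P, hP⟩ := CycLib.exists_fromSpecStalk (hιsp v)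
      obtain ⟨q', hq'⟩ := CycLib.exists_fromSpecStalk (show η ⤳ f (ι v) from (show f (ι v) = z from hvz).symm ▸ hηz)
      rw [← hP, stalkIdeal_ptIdeal_fromSpecStalk P] at h1
      rw [← hq', stalkIdeal_ptIdeal_fromSpecStalk q', map_le_iff_specializes, hq'] at h2
      have h3 := (fromSpecStalk_specializes_iff P p).2 h1
      rw [hP] at h3
      have h4 := hcommon _ h3 h2
      have h5 : X.fromSpecStalk (ι v) p = ι v := by
        by_contra hne
        have := (hδX' _ _ (CycLib.fromSpecStalk_specializes p) hne).1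
        rw [hfib (ι v) hvz (hιsp v)] at this
        omega
      rw [show p = closedPoint _ from (X.fromSpecStalk (ι v)).isEmbedding.injective
        (h5.trans Scheme.fromSpecStalk_closedPoint.symm)]
      exact maximalIdeal.isMaximal _)
    (fun v hv _ => by
      show cc f ξ η (ι v) = _
      rw [cc, hker, hIB v hv])
  rw [← key, hIA]
  -- the support downstairs
  let pt : PrimeSpectrum A → Y := fun p => Y.fromSpecStalk z p
  have hinjY : Function.Injective pt := (Y.fromSpecStalk z).isEmbedding.injective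
  have hptW : ∀ p, pt p ∈ W := fun p => (CycLib.fromSpecStalk_specializes p).mem_open W.2 hzW
  have hprime : ∀ p, (hW.primeIdealOf ⟨pt p, hptW p⟩).asIdeal = p.asIdeal.comap (algebraMap R A) := fun p => by
    have h1 : hW.fromSpec (PrimeSpectrum.comap (algebraMap R A) p) = hW.fromSpec (hW.primeIdealOf ⟨pt p, hptW p⟩) := by
      rw [hW.fromSpec_primeIdealOf ⟨pt p, hptW p⟩]
      show _ = Y.fromSpecStalk z p
      rw [← hW.fromSpecStalk_eq_fromSpecStalk hzW]
      rfl
    exact (congrArg PrimeSpectrum.asIdeal (hW.fromSpec.isOpenEmbedding.injective h1)).symm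
  have hgfrom : ∀ Nn : PrimeSpectrum C, g (hU.fromSpec Nn) = hW.fromSpec (PrimeSpectrum.comap (algebraMap R C) Nn) :=
    fun Nn => by
      rw [← Scheme.Hom.comp_apply, (isPullback_fromSpec g hW hU).w]
      rfl
  have hsupp : ∀ p : PrimeSpectrum A, p ∈ Module.support A (A ⊗[R] C) ↔ ∃ v : V, g v = pt p := by
    intro p
    have h0 : p ∈ Module.support A (A ⊗[R] C) ↔ PrimeSpectrum.comap (algebraMap R A) p ∈ Module.support R C := by
      rw [AssSupLib.support_baseChange, Module.mem_support_iff_of_finite]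
      exact Ideal.map_le_iff_le_comap
    rw [h0, Module.mem_support_iff_of_finite]
    have hann : Module.annihilator R C = RingHom.ker (algebraMap R C) := by
      ext t
      rw [Module.mem_annihilator, RingHom.mem_ker]
      refine ⟨fun h => by have := h 1; rwa [Algebra.smul_def, mul_one] at this, fun h c => by
        rw [Algebra.smul_def, h, zero_mul]⟩
    rw [hann]
    constructor
    · intro hle
      obtain ⟨Q, -, hQ, hQc⟩ := Ideal.exists_ideal_over_prime_of_isIntegral
        (p.asIdeal.comap (algebraMap R A)) (⊥ : Ideal C) (by rw [← RingHom.ker_eq_comap_bot]; exact hle)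
      refine ⟨hU.fromSpec ⟨Q, hQ⟩, ?_⟩
      rw [hgfrom, show PrimeSpectrum.comap (algebraMap R C) ⟨Q, hQ⟩ = hW.primeIdealOf ⟨pt p, hptW p⟩ from
        PrimeSpectrum.ext (hQc.trans (hprime p).symm), hW.fromSpec_primeIdealOf ⟨pt p, hptW p⟩]
    · rintro ⟨v, hv⟩
      have hvU : v ∈ g ⁻¹ᵁ W := show g v ∈ W from hv ▸ hptW p
      have h1 : hW.fromSpec (PrimeSpectrum.comap (algebraMap R C) (hU.primeIdealOf ⟨v, hvU⟩)) =
          hW.fromSpec (hW.primeIdealOf ⟨pt p, hptW p⟩) := by
        rw [← hgfrom, hU.fromSpec_primeIdealOf ⟨v, hvU⟩, hW.fromSpec_primeIdealOf ⟨pt p, hptW p⟩]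
        exact hv
      show RingHom.ker (algebraMap R C) ≤ p.asIdeal.comap (algebraMap R A)
      rw [← hprime p, ← congrArg PrimeSpectrum.asIdeal (hW.fromSpec.isOpenEmbedding.injective h1)]
      intro t ht
      show algebraMap R C t ∈ (hU.primeIdealOf ⟨v, hvU⟩).asIdeal
      rw [RingHom.mem_ker.1 ht]
      exact zero_mem _
  have hupper : ∀ v : V, δY (g v) ≤ r ∧ (δY (g v) = r → ι v = ξ) := fun v => by
    have h1 := CycLib.delta_le hδX' (hιsp v)
    have h2 := hdge (ι v)
    rw [hξ] at h1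
    refine ⟨by rw [hgap]; omega, fun h => ?_⟩
    by_contra hne
    have h3 := (hδX' _ _ (hιsp v) (Ne.symm hne)).1
    rw [hgap] at h
    omega
  let S : Finset (PrimeSpectrum A) :=
    if h : δY (f ξ) = r ∧ f ξ ⤳ z then {(CycLib.exists_fromSpecStalk h.2).choose} else ∅
  have hS : ∀ p, p ∈ S ↔ δY (f ξ) = r ∧ pt p = f ξ := by
    intro p
    by_cases h : δY (f ξ) = r ∧ f ξ ⤳ z
    · have hp0 := (CycLib.exists_fromSpecStalk h.2).choose_spec
      simp only [S, dif_pos h, Finset.mem_singleton]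
      exact ⟨fun e' => ⟨h.1, e' ▸ hp0⟩, fun e' => hinjY (e'.2.trans hp0.symm)⟩
    · simp only [S, dif_neg h, Finset.notMem_empty, false_iff]
      exact fun e' => h ⟨e'.1, e'.2 ▸ CycLib.fromSpecStalk_specializes p⟩
  have hcapY : ∀ (p p' : PrimeSpectrum A) (t : Y), p ∈ Module.support A (A ⊗[R] C) → q.asIdeal ≤ p'.asIdeal →
      pt p ⤳ t → pt p' ⤳ t → t ⤳ z → t = z := by
    intro p p' t hp hp' h1 h2 h3
    obtain ⟨v, hv⟩ := (hsupp p).1 hp
    obtain ⟨w, hw, hwt⟩ : t ∈ g '' closure ({v} : Set V) := by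
      have hc : IsClosed (g '' closure ({v} : Set V)) := g.isClosedMap _ isClosed_closure
      refine hc.closure_subset_iff.2 (Set.singleton_subset_iff.2 ⟨v, subset_closure rfl, rfl⟩) ?_
      rw [hv]
      exact specializes_iff_mem_closure.1 h1
    have h4 : η ⤳ f (ι w) := by
      rw [← hgap, hwt, ← hq]
      exact ((fromSpecStalk_specializes_iff q p').2 hp').trans h2
    have h5 := hcommon _ (hιsp w) h4
    have h6 := hdge (ι w)
    rw [← hgap, hwt] at h6
    by_contra hne
    have h7 := (hδY' t z h3 hne).1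
    omega
  rw [devissage_chi ha (A ⊗[R] C) (A ⧸ q.asIdeal) S {q}
    (fun p hp => (hsupp p).2 (by
      obtain ⟨v, hv⟩ := hιsurj ξ specializes_rfl
      exact ⟨v, by rw [hgap, hv, ((hS p).1 hp).2]⟩))
    (fun p hp => by rw [Finset.mem_singleton.1 hp]; exact (mem_support_quot _ q).2 le_rfl)
    (fun p hp p' hp' hle => by
      obtain ⟨v, hv⟩ := (hsupp p').1 hp'
      obtain ⟨hr, hpξ⟩ := (hS p).1 hp
      have h1 := CycLib.delta_le hδY' ((fromSpecStalk_specializes_iff p' p).2 hle)
      change δY (pt p) ≤ δY (pt p') at h1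
      rw [hpξ, hr, ← hv] at h1
      exact hinjY (by rw [hpξ, ← hv, hgap, (hupper v).2 (le_antisymm (hupper v).1 h1)]))
    (fun p hp p' hp' hle => by
      rw [Finset.mem_singleton.1 hp] at hle ⊢
      exact PrimeSpectrum.ext (le_antisymm hle ((mem_support_quot _ p').1 hp')))
    (fun p hp hp' => by
      have h1 := hcapY p p _ hp ((mem_support_quot _ p).1 hp') specializes_rfl specializes_rfl
        (CycLib.fromSpecStalk_specializes p)
      rw [show p = closedPoint A from hinjY (h1.trans Scheme.fromSpecStalk_closedPoint.symm)]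
      exact maximalIdeal.isMaximal A)
    (fun p hp p' hp' hor => by
      show chiQ p p' = 0
      rw [← mult_fromSpecStalk]
      refine mult_eq_zero gY hδY _ _ z (CycLib.fromSpecStalk_specializes p) (CycLib.fromSpecStalk_specializes p')
        (fun t h1 h2 h3 => hcapY p p' t hp ((mem_support_quot _ p').1 hp') h1 h2 h3) ?_
      obtain ⟨v, hv⟩ := (hsupp p).1 hp
      have hsp : η ⤳ pt p' := hq ▸ (fromSpecStalk_specializes_iff q p').2 ((mem_support_quot _ p').1 hp')
      have h1 := CycLib.delta_le hδY' hsp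
      have h2 := (hupper v).1
      rw [hv] at h2
      change δY (pt p) + δY (pt p') - δY (genericPoint Y) < δY z
      rw [hm, hz]
      rcases hor with h | h
      · have : δY (pt p) ≠ r := fun e' => h ((hS p).2 (by
          have h' := (hupper v).2 (by rw [hv]; exact e')
          have h'' : pt p = f ξ := by rw [← hv, hgap, h']
          exact ⟨by rw [← h'']; exact e', h''⟩))
        omega
      · have h3 := (hδY' _ _ hsp (fun e' => h (Finset.mem_singleton.2 (hinjY (e'.symm.trans hq.symm))))).1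
        omega)]
  by_cases h : δY (f ξ) = r ∧ f ξ ⤳ z
  swap
  · rw [if_neg h, show S = ∅ from dif_neg h, Finset.sum_empty]
  rw [if_pos h]
  obtain ⟨p, hSp⟩ : ∃ p, S = {p} := ⟨_, dif_pos h⟩
  obtain ⟨hr, hpξ⟩ := (hS p).1 (by rw [hSp]; exact Finset.mem_singleton_self p)
  rw [hSp, Finset.sum_singleton, Finset.sum_singleton, lp_quot_self, mul_one]
  congr 1
  swap
  · conv_rhs => rw [← hpξ, ← hq]
    rw [mult_fromSpecStalk]
    rfl
  -- the degree
  let S' := Y.presheaf.stalk (pt p)
  have hpW := hptW p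
  letI algRS : Algebra R S' := (Y.presheaf.germ W (pt p) hpW).hom.toAlgebra
  haveI := hW.isLocalization_stalk ⟨pt p, hpW⟩
  have hsp := CycLib.fromSpecStalk_specializes p
  letI algAS : Algebra A S' := (Y.presheaf.stalkSpecializes hsp).hom.toAlgebra
  haveI : IsScalarTower R A S' := IsScalarTower.of_algebraMap_eq fun t =>
    (TopCat.Presheaf.germ_stalkSpecializes_apply Y.presheaf hzW hsp t).symm
  haveI hlocp : IsLocalization.AtPrime S' p.asIdeal := by
    have h1 := S5090.isLocalization_stalkSpecializes hsp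
    have hm' : (maximalIdeal S').comap (Y.presheaf.stalkSpecializes hsp).hom = p.asIdeal := by
      rw [← ker_specMap_eq p hsp]
      ext t
      exact (IsLocalRing.residue_eq_zero_iff _).symm
    have aux : ∀ (J : Ideal A) [J.IsPrime], J = p.asIdeal → IsLocalization.AtPrime S' J →
        IsLocalization.AtPrime S' p.asIdeal := by
      intro J _ e h
      subst e
      exact h
    exact aux _ hm' h1
  rw [← length_baseChange_loc p (S := S') (A ⊗[R] C),
    (TensorProduct.AlgebraTensorModule.cancelBaseChange R A S' S' C).length_eq,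
    length_baseChange_loc (hW.primeIdealOf ⟨pt p, hpW⟩) (S := S') C, lp]
  have hξU : ∀ v, g v = pt p → ι v = ξ := fun v hv => (hupper v).2 (by rw [hv, hpξ, hr])
  obtain ⟨v₀, hv₀⟩ := hιsurj ξ specializes_rfl
  have hgv₀ : g v₀ = pt p := by rw [hgap, hv₀, hpξ]
  have hv₀gen : v₀ = genericPoint V := hιinj (by
    rw [hv₀]
    by_contra hne
    have h1 := (hιsp (genericPoint V))
    have h2 : ι (genericPoint V) ⤳ ξ := hv₀ ▸ (genericPoint_specializes v₀).map ι.continuous
    have h3 := (hδX' _ _ h1 hne).1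
    have h4 := CycLib.delta_le hδX' h2
    omega)
  obtain ⟨-, hsum⟩ := length_eq_sum_fibre g hW hU hWfin hpW C (fun t c => Algebra.smul_def t c) (fun _ => 1)
    (fun v hvU hv => by
      obtain rfl : v = v₀ := hιinj ((hξU v hv).trans hv₀.symm)
      subst hv₀gen
      let n := (hU.primeIdealOf ⟨genericPoint V, hvU⟩).asIdeal
      let L := Localization.AtPrime n
      letI : Algebra C (V.presheaf.stalk (genericPoint V)) := (V.presheaf.germ (g ⁻¹ᵁ W) _ hvU).hom.toAlgebra
      haveI : IsLocalization.AtPrime (V.presheaf.stalk (genericPoint V)) n :=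
        hU.isLocalization_stalk ⟨genericPoint V, hvU⟩
      have hf : IsField L := MulEquiv.isField (Field.toIsField (V.functionField))
        (IsLocalization.algEquiv n.primeCompl L (V.presheaf.stalk (genericPoint V))).toMulEquiv
      letI := hf.toField
      have hb : IsBaseChange L (LocalizedModule.mkLinearMap n.primeCompl C) :=
        IsLocalizedModule.isBaseChange n.primeCompl _ _
      rw [← hb.equiv.length_eq, (TensorProduct.AlgebraTensorModule.rid C L L).length_eq]
      exact Module.length_eq_one_iff.2 (inferInstanceAs (IsSimpleModule L L)))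
    (fun _ _ => ENat.one_ne_top)
  rw [hsum, show g ⁻¹' {pt p} = {v₀} from Set.ext fun v =>
    ⟨fun hv => hιinj ((hξU v hv).trans hv₀.symm), fun hv => by rw [Set.mem_singleton_iff.1 hv]; exact hgv₀⟩,
    finsum_mem_singleton, mul_one, ENat.toNat_natCast, hdeg, hv₀]

end Groth.Agent.ChiCycLib
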