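import Mathlib
import Groth.Agent.ChiCycLib.Inner
import Groth.Agent.CycLib.P1Closed
import Groth.Agent.P1DivLib.Basic
import Groth.Agent.IMultLib.MultOne2
import Groth.Agent.IMultLib.ProdPts
import Groth.Agent.IMultLib.Chi
import Groth.Agent.ProjSmoothLib.Basic
import Groth.Agent.REqLib.P1Line
import Groth.Agent.P1CompLib
import Groth.Agent.AVLib.AmpleCrit

/-! Intersection products with the sections of the projective line. -/

set_option autoImplicit false
set_option linter.style.haveILetI false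
set_option linter.unusedSectionVars false
set_option backward.isDefEq.respectTransparency false

universe u

open CategoryTheory CategoryTheory.Limits AlgebraicGeometry IsLocalRing Groth.Agent Groth.Agent.CycLib

noncomputable section

namespace Groth.Agent.ChiCycLib

theorem length_ringEquiv {R S : Type u} [CommRing R] [CommRing S] (e : R ≃+* S) :
    Module.length R R = Module.length S S := by
  letI := e.toRingHom.toAlgebra
  rw [← Module.length_eq_of_surjective (M := S) (R := S) (show Function.Surjective (algebraMap R S) from e.surjective)]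
  exact (LinearEquiv.ofBijective (Algebra.linearMap R S) e.bijective).length_eq

section Ring

variable {Y : Scheme.{u}}

/-- A principal step drops the dimension by one. -/
theorem delta_succ_of_minimal [IsLocallyNoetherian Y] {δ : Y → ℤ} (hδ : Cyc.IsDimFun Y δ) {y : Y}
    (v Q : PrimeSpectrum (Y.presheaf.stalk y)) (g : Y.presheaf.stalk y) (hgv : g ∉ v.asIdeal)
    (hQ : Q.asIdeal ∈ (v.asIdeal ⊔ Ideal.span {g}).minimalPrimes) :
    δ (Y.fromSpecStalk y v) = δ (Y.fromSpecStalk y Q) + 1 := by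
  have hinj := (Y.fromSpecStalk y).isEmbedding.injective
  have hvQ : v.asIdeal ≤ Q.asIdeal := le_sup_left.trans hQ.1.2
  have hgQ : g ∈ Q.asIdeal := (le_sup_right.trans hQ.1.2) (Ideal.mem_span_singleton_self g)
  have hne : v ≠ Q := fun e => hgv (e ▸ hgQ)
  refine (hδ _ _ ((fromSpecStalk_specializes_iff v Q).2 hvQ) (hinj.ne hne)).2 fun z hz hz' => ?_
  obtain ⟨R, rfl⟩ := exists_fromSpecStalk (hz'.trans (fromSpecStalk_specializes Q))
  have hvR := (fromSpecStalk_specializes_iff v R).1 hz
  have hRQ := (fromSpecStalk_specializes_iff R Q).1 hz'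
  by_contra hcon
  push Not at hcon
  have hRne : R.asIdeal ≠ Q.asIdeal := fun e => hcon.2 (congrArg _ (PrimeSpectrum.ext e))
  have hRv : R.asIdeal ≠ v.asIdeal := fun e => hcon.1 (congrArg _ (PrimeSpectrum.ext e))
  let q := Ideal.Quotient.mk v.asIdeal
  have hsurj : Function.Surjective q := Ideal.Quotient.mk_surjective
  have hker : ∀ {I : Ideal (Y.presheaf.stalk y)}, v.asIdeal ≤ I → (I.map q).comap q = I := fun {I} h => by
    rw [Ideal.comap_map_of_surjective _ hsurj, ← RingHom.ker_eq_comap_bot, Ideal.mk_ker, sup_eq_left.2 h]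
  haveI hQp : (Q.asIdeal.map q).IsPrime := Ideal.map_isPrime_of_surjective hsurj (by rw [Ideal.mk_ker]; exact hvQ)
  haveI hRp : (R.asIdeal.map q).IsPrime := Ideal.map_isPrime_of_surjective hsurj (by rw [Ideal.mk_ker]; exact hvR)
  have hmin : Q.asIdeal.map q ∈ (Ideal.span {q g}).minimalPrimes := by
    refine ⟨⟨hQp, (Ideal.span_singleton_le_iff_mem _).2 (Ideal.mem_map_of_mem q hgQ)⟩, fun J hJ hJQ => ?_⟩
    have h1 : J.comap q ≤ Q.asIdeal := (Ideal.comap_mono hJQ).trans (hker hvQ).le
    haveI := hJ.1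
    have h2 : Q.asIdeal ≤ J.comap q := hQ.2 ⟨inferInstance, sup_le
      (fun x hx => by show q x ∈ J; rw [Ideal.Quotient.eq_zero_iff_mem.2 hx]; exact J.zero_mem)
      ((Ideal.span_singleton_le_iff_mem _).2 (hJ.2 (Ideal.mem_span_singleton_self _)))⟩ h1
    exact Ideal.map_le_iff_le_comap.2 h2
  have h1 : (Q.asIdeal.map q).height ≤ 1 :=
    Ideal.height_le_one_of_isPrincipal_of_mem_minimalPrimes (Ideal.span {q g}) _ hmin
  have hlt : R.asIdeal.map q < Q.asIdeal.map q := lt_of_le_of_ne (Ideal.map_mono hRQ) fun e => hRne (by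
    rw [← hker hvR, e, hker hvQ])
  haveI : IsDomain (Y.presheaf.stalk y ⧸ v.asIdeal) := Ideal.Quotient.isDomain _
  have hbot : (⊥ : Ideal (Y.presheaf.stalk y ⧸ v.asIdeal)) < R.asIdeal.map q := bot_lt_iff_ne_bot.2 fun e => hRv (by
    rw [← hker hvR, e, ← RingHom.ker_eq_comap_bot, Ideal.mk_ker])
  have h2 := Ideal.height_add_one_le_of_lt_of_isPrime hbot
  have h3 := Ideal.height_add_one_le_of_lt_of_isPrime hlt
  have h4 : ((1 : ℕ∞) + 1) ≤ 1 :=
    (add_le_add_left (le_trans le_add_self h2) 1).trans (h3.trans h1)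
  exact absurd h4 (by norm_num)

/-- The ideal of an integral closed subscheme is the prime of its generic point. -/
theorem stalkIdeal_ker_integral {W : Scheme.{u}} [IsIntegral W] (ι : W ⟶ Y) [IsClosedImmersion ι] (y : Y)
    (hy : y ∈ Set.range ι) (p : PrimeSpectrum (Y.presheaf.stalk y)) (hp : Y.fromSpecStalk y p = ι (genericPoint W)) :
    IntMult.stalkIdeal ι.ker y = p.asIdeal := by
  obtain ⟨z, rfl⟩ := hy
  rw [EtAlgEasy.ConormalStalk.stalkIdeal_ker, RingHom.ker_eq_comap_bot]
  let b : PrimeSpectrum (W.presheaf.stalk z) := ⟨⊥, Ideal.isPrime_bot⟩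
  have hb : W.fromSpecStalk z b = genericPoint W := by
    obtain ⟨q, hq⟩ := exists_fromSpecStalk (genericPoint_specializes z)
    have h1 : W.fromSpecStalk z b ⤳ genericPoint W := hq ▸ (fromSpecStalk_specializes_iff b q).2 bot_le
    exact (h1.antisymm (genericPoint_specializes _)).eq
  have h : Y.fromSpecStalk (ι z) (PrimeSpectrum.comap (ι.stalkMap z).hom b) = Y.fromSpecStalk (ι z) p := by
    rw [hp, ← hb]
    exact congrArg (fun φ : Spec (W.presheaf.stalk z) ⟶ Y => φ b) (Scheme.SpecMap_stalkMap_fromSpecStalk (f := ι) (x := z))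
  exact congrArg PrimeSpectrum.asIdeal ((Y.fromSpecStalk (ι z)).isEmbedding.injective h)

/-- A closed set has finitely many points which are maximal in it. -/
theorem finite_maximal [TopologicalSpace.NoetherianSpace Y] {Z : Set Y} (hZ : IsClosed Z) (S : Set Y) (hS : S ⊆ Z)
    (hmax : ∀ τ ∈ S, ∀ τ' ∈ Z, τ' ⤳ τ → τ' = τ) : S.Finite := by
  have hfin : (irreducibleComponents ↥Z).Finite := TopologicalSpace.NoetherianSpace.finite_irreducibleComponents
  refine Set.Finite.of_injOn (f := fun τ => (Subtype.val ⁻¹' closure {τ} : Set ↥Z)) (fun τ hτ => ?_) ?_ hfin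
  · have hcl : closure ({τ} : Set Y) ⊆ Z := closure_minimal (Set.singleton_subset_iff.2 (hS hτ)) hZ
    have heq : (Subtype.val ⁻¹' closure {τ} : Set ↥Z) = closure {(⟨τ, hS hτ⟩ : ↥Z)} := by
      rw [Topology.IsInducing.subtypeVal.closure_eq_preimage_closure_image, Set.image_singleton]
    refine ⟨by show IsIrreducible (Subtype.val ⁻¹' closure {τ}); rw [heq]; exact isIrreducible_singleton.closure, fun T hT hle => ?_⟩
    have hT' : IsIrreducible (closure (Subtype.val '' T)) :=
      (hT.image _ continuous_subtype_val.continuousOn).closure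
    obtain ⟨τ', hτ'⟩ := QuasiSober.sober hT' isClosed_closure
    have hsub : closure (Subtype.val '' T) ⊆ Z := closure_minimal (Subtype.coe_image_subset Z T) hZ
    have hτmem : (⟨τ, hS hτ⟩ : ↥Z) ∈ T := hle (show τ ∈ closure {τ} from subset_closure rfl)
    have h1 : τ' ⤳ τ := hτ'.specializes (subset_closure ⟨_, hτmem, rfl⟩)
    have h2 := hmax τ hτ τ' (hsub hτ'.mem) h1
    intro x hx
    show (x : Y) ∈ closure {τ}
    rw [← h2, hτ'.def]
    exact subset_closure ⟨x, hx, rfl⟩
  · intro τ hτ τ' hτ' h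
    have h' : (Subtype.val ⁻¹' closure {τ} : Set ↥Z) = Subtype.val ⁻¹' closure {τ'} := h
    have h1 : τ ∈ closure ({τ'} : Set Y) :=
      (Set.ext_iff.1 h' ⟨τ, hS hτ⟩).1 (show τ ∈ closure {τ} from subset_closure rfl)
    exact (hmax τ hτ τ' (hS hτ') (specializes_iff_mem_closure.2 h1)).symm

end Ring

variable (X : Scheme.{u})

/-- The projective line over `X`. -/
abbrev PX := CohB1.ProjSpaceOver 1 X

/-- The projection. -/
abbrev pr : PX X ⟶ X := CohB1.ProjSpaceOver.toBase 1 X

variable {X} (j : Fin (1 + 1))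

theorem pr_sect (x : X) : pr X (P1.sect X j x) = x := by
  rw [← Scheme.Hom.comp_apply, CycLib.P1Sect.sect_toBase]
  rfl

/-- The map of local rings from the base. -/
def φs (d : X) : X.presheaf.stalk d →+* (PX X).presheaf.stalk (P1.sect X j d) :=
  (X.presheaf.stalkSpecializes (specializes_of_eq (pr_sect j d)) ≫ (pr X).stalkMap (P1.sect X j d)).hom

/-- The map of local rings of the section. -/
def σs (d : X) : (PX X).presheaf.stalk (P1.sect X j d) →+* X.presheaf.stalk d := ((P1.sect X j).stalkMap d).hom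

theorem σ_φ (d : X) : (σs j d).comp (φs j d) = RingHom.id _ := by
  rw [σs, φs, ← CommRingCat.hom_comp, Category.assoc,
    DiagRedLib.section_stalk _ _ (CycLib.P1Sect.sect_toBase j X) d (specializes_of_eq (pr_sect j d))]
  rfl

theorem σ_surj (d : X) : Function.Surjective (σs j d) := fun z => ⟨φs j d z, congrArg (fun m => m z) (σ_φ j d)⟩

theorem pt_comap_σ (d : X) (q : PrimeSpectrum (X.presheaf.stalk d)) :
    (PX X).fromSpecStalk (P1.sect X j d) (PrimeSpectrum.comap (σs j d) q) = P1.sect X j (X.fromSpecStalk d q) :=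
  congrArg (fun φ : Spec (X.presheaf.stalk d) ⟶ PX X => φ q)
    (Scheme.SpecMap_stalkMap_fromSpecStalk (f := P1.sect X j) (x := d))

theorem pt_φ (d : X) (Q : PrimeSpectrum ((PX X).presheaf.stalk (P1.sect X j d))) :
    pr X ((PX X).fromSpecStalk (P1.sect X j d) Q) = X.fromSpecStalk d (PrimeSpectrum.comap (φs j d) Q) := by
  have h : Spec.map (CommRingCat.ofHom (φs j d)) ≫ X.fromSpecStalk d =
      (PX X).fromSpecStalk (P1.sect X j d) ≫ pr X := by
    show Spec.map (X.presheaf.stalkSpecializes _ ≫ (pr X).stalkMap _) ≫ _ = _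
    rw [Spec.map_comp, Category.assoc, Scheme.SpecMap_stalkSpecializes_fromSpecStalk,
      Scheme.SpecMap_stalkMap_fromSpecStalk]
  exact (congrArg (fun φ : Spec ((PX X).presheaf.stalk (P1.sect X j d)) ⟶ X => φ Q) h).symm

theorem exists_ker_σ [IsLocallyNoetherian X] (d : X) :
    ∃ g, RingHom.ker (σs j d) = Ideal.span {g} := by
  obtain ⟨t', g', -, -, hker⟩ := (CycLib.P1Sect.isZeroSchemeOf_sect j X).2 d
  exact ⟨g', hker⟩

theorem sect_ne (x : X) : P1.sect X 0 x ≠ P1.sect X 1 x := by
  intro h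
  have h0 := (P1DivLib.mem_range_sect (0 : Fin (1 + 1)) (P1.sect X 0 x)).1 ⟨x, rfl⟩
  have h1 := (P1DivLib.mem_range_sect (1 : Fin (1 + 1)) (P1.sect X 0 x)).1 ⟨x, h.symm⟩
  rw [P1DivLib.otherIdx_zero] at h0
  rw [P1DivLib.otherIdx_one] at h1
  obtain ⟨i, hi⟩ := TopologicalSpace.Opens.mem_iSup.1 ((AmpleEmb.iSup_stdOpen 1 P1.R0.{u}).ge
    (show CycLib.P1Sect.prZ X (P1.sect X 0 x) ∈ (⊤ : (CohB1.ProjSpace 1 P1.R0.{u}).Opens) from trivial))
  fin_cases i
  · exact h1 hi
  · exact h0 hi

variable {K : Type u} [Field K] [IsAlgClosed K] (f : X ⟶ Spec (CommRingCat.of K))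

include f in
theorem geometricallyIntegral_pr [IsIntegral (PX (Spec (CommRingCat.of K)))] : GeometricallyIntegral (pr X) := by
  haveI := ProjSmoothLib.smooth_toSpec 1 (ULift.{u} ℤ)
  haveI : Smooth (pr (Spec (CommRingCat.of K))) := MorphismProperty.pullback_snd _ _ inferInstance
  exact MorphismProperty.of_isPullback (P1CompLib.isPullback_toP1 f)
    (AVLib.geometricallyIntegral_of_isIntegral (pr (Spec (CommRingCat.of K))))

theorem smooth_pr : Smooth (pr X) :=
  haveI := ProjSmoothLib.smooth_toSpec 1 (ULift.{u} ℤ)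
  MorphismProperty.pullback_snd _ _ inferInstance

/-- The standing assumptions. -/
structure Base [IsIntegral X] (δ : X → ℤ) (δP : ↥(PX X) → ℤ) (n : ℤ) : Prop where
  sm : Smooth f
  sep : IsSeparated f
  qc : QuasiCompact f
  hX : Cyc.IsSetup X δ
  hδ : Cyc.DeltaCompat f δ (fun _ => 0)
  hn : δ (genericPoint X) = n
  hP : Cyc.DeltaCompat (pr X) δP δ

variable [IsIntegral X] {f} {δ : X → ℤ} {δP : ↥(PX X) → ℤ} {n : ℤ} (H : Base f δ δP n)
include H

theorem Base.gi : GeometricallyIntegral (pr X) :=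
  haveI : IsIntegral (PX (Spec (CommRingCat.of K))) := REqLib.isIntegral_projSpaceOver_domain 1 K
  geometricallyIntegral_pr f

theorem Base.setupP : Cyc.IsSetup (PX X) δP :=
  haveI : IsProper (pr X) := MorphismProperty.pullback_snd _ _ inferInstance
  CycLib.isSetup_of_lft (pr X) H.hX H.hP

theorem Base.noeth : IsLocallyNoetherian X ∧ IsLocallyNoetherian (PX X) := ⟨H.hX.1, H.setupP.1⟩

theorem Base.intP : IsIntegral (PX X) := by
  haveI := H.gi
  haveI := smooth_pr (X := X)
  haveI := H.noeth.1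
  exact GeometricallyIntegral.isIntegral_of_isLocallyNoetherian (pr X)

theorem Base.hδP : Cyc.DeltaCompat (pr X ≫ f) δP (fun _ => 0) := CycLib.deltaCompat_comp H.hδ H.hP

/-- The extension of a prime of the base is prime. -/
theorem Base.isPrime_map (d : X) (v : PrimeSpectrum (X.presheaf.stalk d)) :
    (v.asIdeal.map (φs j d)).IsPrime := by
  haveI := H.gi
  haveI := smooth_pr (X := X)
  haveI := H.noeth.1
  haveI := H.noeth.2
  haveI := IMultLib.isIntegral_ptIdeal (X.fromSpecStalk d v)
  let ιV := (IntMult.ptIdeal (X.fromSpecStalk d v)).subschemeι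
  haveI : IsLocallyNoetherian (IntMult.ptIdeal (X.fromSpecStalk d v)).subscheme :=
    LocallyOfFiniteType.isLocallyNoetherian ιV
  haveI : IsIntegral (pullback ιV (pr X)) := inferInstance
  have key : ∀ (t : ↥(PX X)) (e : pr X t = d),
      (v.asIdeal.map (X.presheaf.stalkSpecializes (specializes_of_eq e) ≫ (pr X).stalkMap t).hom).IsPrime := by
    intro t e
    obtain ⟨z, hz⟩ : d ∈ Set.range ιV := by
      rw [Scheme.IdealSheafData.range_subschemeι, IMultLib.coe_support_ptIdeal, ← specializes_iff_mem_closure]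
      exact fromSpecStalk_specializes v
    obtain ⟨w, hw1, rfl⟩ := Scheme.Pullback.exists_preimage_pullback z t (hz.trans e.symm)
    have he : pr X (pullback.snd ιV (pr X) w) ⤳ ιV (pullback.fst ιV (pr X) w) :=
      specializes_of_eq (congr($(pullback.condition (f := ιV) (g := pr X)) w)).symm
    have hk := CycLib.ker_stalkMap_snd (pr X) ιV w he
    have h1 : (RingHom.ker (ιV.stalkMap (pullback.fst ιV (pr X) w)).hom).map (X.presheaf.stalkSpecializes he).hom =
        v.asIdeal.map (X.presheaf.stalkSpecializes (specializes_of_eq e)).hom := by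
      have hc' : ιV (pullback.fst ιV (pr X) w) = pr X (pullback.snd ιV (pr X) w) := by
        rw [← Scheme.Hom.comp_apply, pullback.condition]
        rfl
      refine (IMultLib.map_specializes_ker ιV _ _ hc' he).trans ?_
      rw [Scheme.IdealSheafData.ker_subschemeι, ← DivisorialLib.map_stalkSpecializes _ (specializes_of_eq e),
        stalkIdeal_ptIdeal_fromSpecStalk v]
    rw [CommRingCat.hom_comp, ← Ideal.map_map, h1, Ideal.map_map, ← CommRingCat.hom_comp] at hk
    rw [← hk]
    exact RingHom.ker_isPrime _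
  exact key _ (pr_sect j d)

theorem Base.comap_map (d : X) (I : Ideal (X.presheaf.stalk d)) : (I.map (φs j d)).comap (φs j d) = I :=
  le_antisymm (fun x hx => by
    have h := Ideal.mem_map_of_mem (σs j d) (Ideal.mem_comap.1 hx)
    rwa [Ideal.map_map, σ_φ, Ideal.map_id, ← RingHom.comp_apply, σ_φ] at h) Ideal.le_comap_map

theorem Base.delta_sect (x : X) : δP (P1.sect X j x) = δ x := (CycLib.P1Rat.delta_sect H.hP j x).1

/-- The generic point of the fibre. -/
def Base.gen (x : X) : ↥(PX X) := haveI := H.gi; ClProdLib.fibGen (pr X) x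

theorem Base.pr_gen (x : X) : pr X (H.gen x) = x := haveI := H.gi; ClProdLib.apply_fibGen (pr X) x

theorem Base.gen_specializes (t : ↥(PX X)) : H.gen (pr X t) ⤳ t := haveI := H.gi; IMultLib.specializes_fibGen (pr X) t

theorem Base.gen_eq (d : X) (v : PrimeSpectrum (X.presheaf.stalk d)) (h : (v.asIdeal.map (φs j d)).IsPrime) :
    (PX X).fromSpecStalk (P1.sect X j d) ⟨v.asIdeal.map (φs j d), h⟩ = H.gen (X.fromSpecStalk d v) := by
  haveI := H.gi
  let V : PrimeSpectrum ((PX X).presheaf.stalk (P1.sect X j d)) := ⟨v.asIdeal.map (φs j d), h⟩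
  have hp : pr X ((PX X).fromSpecStalk (P1.sect X j d) V) = X.fromSpecStalk d v := by
    rw [pt_φ]
    exact congrArg _ (PrimeSpectrum.ext (H.comap_map j d _))
  have hmax : CycLib.MaxFib (pr X) ((PX X).fromSpecStalk (P1.sect X j d) V) := fun w hw hwV => by
    obtain ⟨R, rfl⟩ := exists_fromSpecStalk (hwV.trans (fromSpecStalk_specializes V))
    rw [hp, pt_φ] at hw
    have h1 := congrArg PrimeSpectrum.asIdeal ((X.fromSpecStalk d).isEmbedding.injective hw)
    have h2 : v.asIdeal.map (φs j d) ≤ R.asIdeal := Ideal.map_le_iff_le_comap.2 h1.ge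
    rw [fromSpecStalk_specializes_iff] at hwV
    exact congrArg _ (PrimeSpectrum.ext (le_antisymm hwV h2))
  rw [Base.gen, ← hp]
  exact ClProdLib.eq_fibGen (pr X) hmax

theorem Base.gen_notMem (x : X) : H.gen x ∉ Set.range (P1.sect X j) := by
  intro hj
  have hspec : ∀ i, H.gen x ⤳ P1.sect X i x := fun i => by
    have := H.gen_specializes (P1.sect X i x)
    rwa [pr_sect] at this
  have key : ∀ i, P1.sect X i x = H.gen x := fun i => by
    obtain ⟨y, hy⟩ := hj
    obtain ⟨y', hy'⟩ := (hspec i).mem_closed (P1.sect X j).isClosedEmbedding.isClosed_range ⟨y, hy⟩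
    have h1 : y = x := by rw [← pr_sect j y, hy, H.pr_gen]
    have h2 : y' = x := by rw [← pr_sect j y', hy', pr_sect]
    rw [← hy', h2, ← hy, h1]
  exact sect_ne x ((key 0).trans (key 1).symm)

theorem Base.delta_gen (x : X) : δP (H.gen x) = δ x + 1 := by
  haveI := H.noeth.2
  haveI := H.noeth.1
  obtain ⟨g, hg⟩ := exists_ker_σ (X := X) 0 x
  let v : PrimeSpectrum (X.presheaf.stalk x) := closedPoint _
  have hp := H.isPrime_map 0 x v
  have hgen := H.gen_eq 0 x v hp
  rw [show X.fromSpecStalk x v = x from Scheme.fromSpecStalk_closedPoint] at hgen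
  let V : PrimeSpectrum ((PX X).presheaf.stalk (P1.sect X 0 x)) := ⟨v.asIdeal.map (φs 0 x), hp⟩
  let Q := PrimeSpectrum.comap (σs 0 x) v
  have hQ : Q.asIdeal = V.asIdeal ⊔ Ideal.span {g} := by
    show v.asIdeal.comap (σs 0 x) = _
    rw [← hg, RingHom.ker_eq_comap_bot, ← Ideal.comap_map_of_surjective _ (σ_surj 0 x)]
    show _ = ((v.asIdeal.map (φs 0 x)).map (σs 0 x)).comap _
    rw [Ideal.map_map, σ_φ, Ideal.map_id]
  have hgv : g ∉ V.asIdeal := fun hmem => by
    refine H.gen_notMem 0 x ⟨X.fromSpecStalk x (PrimeSpectrum.comap (φs 0 x) V), ?_⟩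
    rw [← hgen, ← pt_comap_σ]
    congr 1
    refine PrimeSpectrum.ext ?_
    show ((v.asIdeal.map (φs 0 x)).comap (φs 0 x)).comap (σs 0 x) = V.asIdeal
    rw [H.comap_map]
    exact hQ.trans (sup_eq_left.2 ((Ideal.span_singleton_le_iff_mem _).2 hmem))
  have h1 := delta_succ_of_minimal H.setupP.2.2 V Q g hgv
    (by rw [← hQ, Ideal.minimalPrimes_eq_subsingleton_self]; rfl)
  rw [show (PX X).fromSpecStalk (P1.sect X 0 x) Q = P1.sect X 0 x from
    (pt_comap_σ 0 x v).trans (congrArg _ Scheme.fromSpecStalk_closedPoint), H.delta_sect] at h1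
  rw [← hgen]
  exact h1

theorem Base.delta_le (t : ↥(PX X)) : δP t ≤ δ (pr X t) + 1 :=
  (CycLib.delta_le H.setupP.2.2 (H.gen_specializes t)).trans_eq (H.delta_gen _)

theorem Base.eq_gen {η : ↥(PX X)} (h : δP η = δ (pr X η) + 1) : η = H.gen (pr X η) := by
  by_contra hne
  have := (H.setupP.2.2 _ _ (H.gen_specializes η) (Ne.symm hne)).1
  rw [H.delta_gen] at this
  omega

theorem Base.delta_genP [IsIntegral (PX X)] : δP (genericPoint ↥(PX X)) = n + 1 := by
  have h1 := H.delta_le (genericPoint ↥(PX X))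
  have h2 := CycLib.delta_le H.setupP.2.2 (genericPoint_specializes (H.gen (genericPoint X)))
  have h3 := CycLib.delta_le H.hX.2.2 (genericPoint_specializes (pr X (genericPoint ↥(PX X))))
  rw [H.delta_gen, H.hn] at h2
  rw [H.hn] at h3
  omega

/-- A divisor meets the closure of a point in codimension one. -/
theorem Base.exists_component {c : ↥(PX X)} {d : X} (hc : c ⤳ P1.sect X j d) (hnot : c ∉ Set.range (P1.sect X j)) :
    ∃ x, x ⤳ d ∧ c ⤳ P1.sect X j x ∧ δP c = δ x + 1 := by
  haveI := H.noeth.2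
  haveI := H.noeth.1
  obtain ⟨g, hg⟩ := exists_ker_σ j d
  obtain ⟨w, rfl⟩ := exists_fromSpecStalk hc
  have hgσ : ∀ {Q : PrimeSpectrum ((PX X).presheaf.stalk (P1.sect X j d))}, g ∈ Q.asIdeal →
      ∃ q, Q = PrimeSpectrum.comap (σs j d) q := fun {Q} hQ => by
    have hle : RingHom.ker (σs j d) ≤ Q.asIdeal := hg ▸ (Ideal.span_singleton_le_iff_mem _).2 hQ
    haveI := Ideal.map_isPrime_of_surjective (σ_surj j d) hle
    refine ⟨⟨Q.asIdeal.map (σs j d), inferInstance⟩, PrimeSpectrum.ext ?_⟩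
    show Q.asIdeal = (Q.asIdeal.map (σs j d)).comap (σs j d)
    rw [Ideal.comap_map_of_surjective _ (σ_surj j d), ← RingHom.ker_eq_comap_bot, sup_eq_left.2 hle]
  have hgw : g ∉ w.asIdeal := fun hm => hnot (by
    obtain ⟨q, rfl⟩ := hgσ hm
    rw [pt_comap_σ]
    exact ⟨_, rfl⟩)
  have hgm : g ∈ maximalIdeal ((PX X).presheaf.stalk (P1.sect X j d)) :=
    IsLocalRing.le_maximalIdeal (RingHom.ker_ne_top (σs j d)) (hg ▸ Ideal.mem_span_singleton_self g)
  obtain ⟨Q, hQ, -⟩ := Ideal.exists_minimalPrimes_le (J := maximalIdeal ((PX X).presheaf.stalk (P1.sect X j d)))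
    (I := w.asIdeal ⊔ Ideal.span {g}) (sup_le (IsLocalRing.le_maximalIdeal w.2.ne_top)
      ((Ideal.span_singleton_le_iff_mem _).2 hgm))
  obtain ⟨q, hq⟩ := hgσ (Q := ⟨Q, hQ.1.1⟩) ((le_sup_right.trans hQ.1.2) (Ideal.mem_span_singleton_self g))
  refine ⟨X.fromSpecStalk d q, fromSpecStalk_specializes q, ?_, ?_⟩
  · rw [← pt_comap_σ, ← hq]
    exact (fromSpecStalk_specializes_iff w ⟨Q, hQ.1.1⟩).2 (le_sup_left.trans hQ.1.2)
  · rw [delta_succ_of_minimal H.setupP.2.2 w ⟨Q, hQ.1.1⟩ g hgw hQ, hq, pt_comap_σ, H.delta_sect]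

/-- The product with a section of an integral subscheme is its fibre. -/
theorem Base.interProd_sect {W : Scheme.{u}} [IsIntegral W] (ι : W ⟶ PX X) [IsClosedImmersion ι] {r : ℤ}
    (hW : δP (ι (genericPoint W)) = r + 1) (hnot : ι (genericPoint W) ∉ Set.range (P1.sect X j))
    (d : X) (hd : δ d = r) :
    IntMult.interProd δP (n + 1)
        (Set.indicator {P1.sect X j (genericPoint ↥X)} 1)
        (Set.indicator {ι (genericPoint W)} 1) (P1.sect X j d) =
      Cyc.subschemeFun δ r (pullback.snd ι (P1.sect X j)) d ∧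
    (ι (genericPoint W) ⤳ P1.sect X j d → Cyc.subschemeFun δ r (pullback.snd ι (P1.sect X j)) d ≠ 0) := by
  classical
  haveI := H.sm
  haveI := smooth_pr (X := X)
  haveI := H.noeth.2
  haveI := H.noeth.1
  haveI := Groth.Agent.ASp.isRegularLocalRing_stalk_of_smooth_field (pr X ≫ f) (P1.sect X j d)
  set c := ι (genericPoint W)
  set D₀ := P1.sect X j (genericPoint X)
  by_cases hc : c ⤳ P1.sect X j d
  swap
  · refine ⟨?_, fun h => absurd h hc⟩
    have h1 : Cyc.subschemeFun δ r (pullback.snd ι (P1.sect X j)) d = 0 := by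
      by_contra hne
      obtain ⟨-, z, rfl⟩ := IMultLib.mem_of_subschemeFun_ne_zero _ hne
      refine hc ?_
      rw [show P1.sect X j (pullback.snd ι (P1.sect X j) z) = ι (pullback.fst ι (P1.sect X j) z) from
        (congr($(pullback.condition (f := ι) (g := P1.sect X j)) z)).symm]
      exact (genericPoint_specializes _).map ι.continuous
    rw [h1]
    by_contra hne
    obtain ⟨a, b, -, hb, -, hbd, -⟩ := interProd_ne_zero hne
    rw [Set.mem_singleton_iff.1 (Set.mem_of_indicator_ne_zero hb)] at hbd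
    exact hc hbd
  let A := (PX X).presheaf.stalk (P1.sect X j d)
  haveI : IsDomain A := RegLocal.isDomain _
  obtain ⟨g, hg⟩ := exists_ker_σ j d
  obtain ⟨w, hw⟩ := exists_fromSpecStalk hc
  let b : PrimeSpectrum (X.presheaf.stalk d) := ⟨⊥, Ideal.isPrime_bot⟩
  have hb : X.fromSpecStalk d b = genericPoint X := by
    obtain ⟨p, hp⟩ := exists_fromSpecStalk (genericPoint_specializes d)
    have h1 : X.fromSpecStalk d b ⤳ genericPoint X := hp ▸ (fromSpecStalk_specializes_iff b p).2 bot_le
    exact (h1.antisymm (genericPoint_specializes _)).eq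
  let D := PrimeSpectrum.comap (σs j d) b
  have hDker : D.asIdeal = Ideal.span {g} := (RingHom.ker_eq_comap_bot _).symm.trans hg
  have hD : (PX X).fromSpecStalk (P1.sect X j d) D = D₀ := (pt_comap_σ j d b).trans (congrArg _ hb)
  have hgw : g ∉ w.asIdeal := fun hm => hnot (by
    rw [← hw]
    exact ((fromSpecStalk_specializes_iff D w).2 (show D.asIdeal ≤ w.asIdeal from hDker.trans_le ((Ideal.span_singleton_le_iff_mem _).2 hm))).mem_closed
      (P1.sect X j).isClosedEmbedding.isClosed_range ⟨_, hD.symm⟩)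
  have hg0 : g ≠ 0 := fun e => hgw (e ▸ w.asIdeal.zero_mem)
  have hgm : g ∈ maximalIdeal A := IsLocalRing.le_maximalIdeal D.2.ne_top (hDker ▸ Ideal.mem_span_singleton_self g)
  have hval : IntMult.interProd δP (n + 1) (Set.indicator {D₀} 1) (Set.indicator {c} 1) (P1.sect X j d) =
      ((Module.length A (A ⧸ (w.asIdeal ⊔ Ideal.span {g}))).toNat : ℤ) := by
    rw [interProd_single _ _ _ ((genericPoint_specializes d).map (P1.sect X j).continuous) hc
      (by rw [H.delta_sect, H.delta_sect, H.hn, hW, hd]; ring), show IntMult.mult (IntMult.ptIdeal (P1.sect X j (genericPoint X))) (IntMult.ptIdeal c) (P1.sect X j d) = IntMult.mult (IntMult.ptIdeal ((PX X).fromSpecStalk (P1.sect X j d) D)) (IntMult.ptIdeal ((PX X).fromSpecStalk (P1.sect X j d) w)) (P1.sect X j d) from by rw [hD, hw], mult_fromSpecStalk]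
    unfold chiQ
    rw [hDker, ← Ideal.ofList_singleton g, DiagRedLib.chi_comm]
    refine IMultLib.chi_eq_length w.asIdeal [g] (fun y hy => (List.mem_singleton.1 hy) ▸ hgm) ?_ ?_
    · exact (RingTheory.Sequence.isWeaklyRegular_singleton_iff A g).2 fun a b h => mul_left_cancel₀ hg0 h
    · refine (RingTheory.Sequence.isWeaklyRegular_singleton_iff _ g).2 fun a b h => ?_
      haveI : IsDomain (A ⧸ w.asIdeal) := Ideal.Quotient.isDomain w.asIdeal
      have hg1 : Ideal.Quotient.mk w.asIdeal g ≠ 0 := fun e => hgw (Ideal.Quotient.eq_zero_iff_mem.1 e)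
      refine mul_left_cancel₀ hg1 ?_
      simpa only [Algebra.smul_def, Ideal.Quotient.algebraMap_eq] using h
  obtain ⟨z₀, hz₀⟩ : P1.sect X j d ∈ Set.range ι :=
    hc.mem_closed ι.isClosedEmbedding.isClosed_range ⟨_, rfl⟩
  obtain ⟨z, -, hz⟩ := Scheme.Pullback.exists_preimage_pullback z₀ d hz₀
  have he : P1.sect X j (pullback.snd ι (P1.sect X j) z) ⤳ ι (pullback.fst ι (P1.sect X j) z) :=
    specializes_of_eq (congr($(pullback.condition (f := ι) (g := P1.sect X j)) z)).symm
  subst hz
  have hkerz : RingHom.ker ((pullback.snd ι (P1.sect X j)).stalkMap z).hom =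
      w.asIdeal.map (σs j (pullback.snd ι (P1.sect X j) z)) := by
    have hc' : ι (pullback.fst ι (P1.sect X j) z) = P1.sect X j (pullback.snd ι (P1.sect X j) z) := by
      rw [← Scheme.Hom.comp_apply, pullback.condition]
      rfl
    rw [CycLib.ker_stalkMap_snd (P1.sect X j) ι z he, CommRingCat.hom_comp, ← Ideal.map_map]
    exact congrArg (Ideal.map (σs j (pullback.snd ι (P1.sect X j) z)))
      ((IMultLib.map_specializes_ker ι _ _ hc' he).trans (stalkIdeal_ker_integral ι _ ⟨z₀, hz₀⟩ w hw))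
  set J := w.asIdeal ⊔ Ideal.span {g}
  let ρ : A →+* (pullback ι (P1.sect X j)).presheaf.stalk z :=
    (((pullback.snd ι (P1.sect X j)).stalkMap z).hom).comp (σs j (pullback.snd ι (P1.sect X j) z))
  have hρ : Function.Surjective ρ :=
    ((pullback.snd ι (P1.sect X j)).stalkMap_surjective z).comp (σ_surj j _)
  have hρk : RingHom.ker ρ = J := by
    show RingHom.ker (RingHom.comp _ _) = _
    rw [← RingHom.comap_ker, hkerz, Ideal.comap_map_of_surjective _ (σ_surj j _), ← RingHom.ker_eq_comap_bot, hg]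
  have hsub : Cyc.subschemeFun δ r (pullback.snd ι (P1.sect X j)) (pullback.snd ι (P1.sect X j) z) =
      ((Module.length A (A ⧸ J)).toNat : ℤ) := by
    rw [Cyc.subschemeFun, if_pos hd, show {z' : ↥(pullback ι (P1.sect X j)) |
      pullback.snd ι (P1.sect X j) z' = pullback.snd ι (P1.sect X j) z} = {z} from Set.ext fun z' =>
        ⟨fun h => (pullback.snd ι (P1.sect X j)).isClosedEmbedding.injective h, fun h => congrArg _ h⟩,
      finsum_mem_singleton, ← length_ringEquiv ((Ideal.quotEquivOfEq hρk.symm).trans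
        (RingHom.quotientKerEquivOfSurjective hρ)),
      ← Module.length_eq_of_surjective (M := A ⧸ J) (R := A ⧸ J) (show Function.Surjective (algebraMap A (A ⧸ J)) from
        Ideal.Quotient.mk_surjective)]
  refine ⟨hval.trans hsub.symm, fun _ => ?_⟩
  rw [hsub]
  have hfin : Module.length A (A ⧸ J) ≠ ⊤ := HSLib.length_ne_top_of_support fun p hp => by
    have hJp : J ≤ p.asIdeal := Ideal.annihilator_quotient.ge.trans (Module.mem_support_iff_of_finite.1 hp)
    obtain ⟨Q, hQ, hQp⟩ := Ideal.exists_minimalPrimes_le hJp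
    have h1 := delta_succ_of_minimal H.setupP.2.2 w ⟨Q, hQ.1.1⟩ g hgw hQ
    rw [hw, hW] at h1
    have h2 : ⟨Q, hQ.1.1⟩ = closedPoint A := by
      refine ((PX X).fromSpecStalk _).isEmbedding.injective ?_
      rw [Scheme.fromSpecStalk_closedPoint]
      by_contra hne
      have h3 := (H.setupP.2.2 _ _ (fromSpecStalk_specializes (⟨Q, hQ.1.1⟩ : PrimeSpectrum A)) hne).1
      rw [H.delta_sect, hd] at h3
      omega
    have h3 : maximalIdeal A ≤ p.asIdeal := (congrArg PrimeSpectrum.asIdeal h2).ge.trans hQp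
    exact (le_antisymm (IsLocalRing.le_maximalIdeal p.2.ne_top) h3).symm ▸ maximalIdeal.isMaximal A
  have hne : Module.length A (A ⧸ J) ≠ 0 := fun h0 => by
    rw [Module.length_eq_zero_iff, Ideal.Quotient.subsingleton_iff] at h0
    exact (maximalIdeal.isMaximal A).ne_top (top_le_iff.1 (h0 ▸ sup_le (IsLocalRing.le_maximalIdeal w.2.ne_top)
      ((Ideal.span_singleton_le_iff_mem _).2 hgm)))
  intro h0
  rw [Nat.cast_eq_zero, ENat.toNat_eq_zero] at h0
  exact h0.elim hne hfin

/-- Products of cycles on a section with pulled back subvarieties. -/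
theorem Base.interProd_sect_gen {G : ↥(PX X) → ℤ} (α : AlgebraicCycle X ℤ) {r : ℤ} (hα : α ∈ Cyc.Zk X δ r)
    (hG : ∀ x, G (P1.sect X j x) = α x) (hG0 : ∀ t, t ∉ Set.range (P1.sect X j) → G t = 0) (η : ↥(PX X))
    (hη : δP η = δ (pr X η) + 1) (d : X) (hd : δ d = r + δ (pr X η) - n) :
    IntMult.interProd δP (n + 1) G (Set.indicator {η} 1) (P1.sect X j d) =
      IntMult.interProd δ n ⇑α (Set.indicator {pr X η} 1) d := by
  classical
  haveI := H.noeth.1
  haveI := H.noeth.2
  haveI := H.sm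
  haveI := smooth_pr (X := X)
  haveI := Groth.Agent.ASp.isRegularLocalRing_stalk_of_smooth_field f d
  haveI := Groth.Agent.ASp.isRegularLocalRing_stalk_of_smooth_field (pr X ≫ f) (P1.sect X j d)
  by_cases hs : pr X η ⤳ d
  swap
  · have h1 : IntMult.interProd δ n ⇑α (Set.indicator {pr X η} 1) d = 0 := by
      by_contra hne
      obtain ⟨a, b, -, hb, -, hbd, -⟩ := interProd_ne_zero hne
      exact hs (by rwa [Set.mem_singleton_iff.1 (Set.mem_of_indicator_ne_zero hb)] at hbd)
    rw [h1]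
    by_contra hne
    obtain ⟨a, b, -, hb, -, hbd, -⟩ := interProd_ne_zero hne
    rw [Set.mem_singleton_iff.1 (Set.mem_of_indicator_ne_zero hb)] at hbd
    have := hbd.map (pr X).continuous
    rw [pr_sect] at this
    exact hs this
  obtain ⟨v, hv⟩ := exists_fromSpecStalk hs
  have hV := H.isPrime_map j d v
  let V : PrimeSpectrum ((PX X).presheaf.stalk (P1.sect X j d)) := ⟨v.asIdeal.map (φs j d), hV⟩
  have hVη : (PX X).fromSpecStalk (P1.sect X j d) V = η := by
    rw [H.gen_eq j d v hV, hv, ← H.eq_gen hη]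
  have hinjP := ((PX X).fromSpecStalk (P1.sect X j d)).isEmbedding.injective
  have hinjX := (X.fromSpecStalk d).isEmbedding.injective
  let S := (finite_cycle α d).toFinset
  have hS : ∀ {q}, q ∈ S → α (X.fromSpecStalk d q) ≠ 0 := fun {q} h => (finite_cycle α d).mem_toFinset.1 h
  have hSr : ∀ {q}, q ∈ S → δ (X.fromSpecStalk d q) = r := fun {q} h => by_contra fun e => hS h (hα _ e)
  have hinjc : Function.Injective (PrimeSpectrum.comap (σs j d)) :=
    PrimeSpectrum.comap_injective_of_surjective _ (σ_surj j d)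
  rw [interProd_eq_sum (δ := δP) (r := r) (s := δ (pr X η) + 1) G _ (P1.sect X j d)
      (by rw [H.delta_sect, hd]; ring) (S.map ⟨_, hinjc⟩) {V}
      (fun P hP => by
        obtain ⟨q, hq, rfl⟩ := Finset.mem_map.1 hP
        show δP ((PX X).fromSpecStalk _ (PrimeSpectrum.comap (σs j d) q)) = r
        rw [pt_comap_σ, H.delta_sect, hSr hq])
      (fun P hP => by rw [Finset.mem_singleton.1 hP, hVη, hη])
      (fun P hP => by
        obtain ⟨x, hx⟩ : (PX X).fromSpecStalk (P1.sect X j d) P ∈ Set.range (P1.sect X j) :=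
          by_contra fun h => hP (hG0 _ h)
        have hxd : x ⤳ d := (P1.sect X j).isEmbedding.isInducing.specializes_iff.1
          (hx.symm ▸ fromSpecStalk_specializes P)
        obtain ⟨q, rfl⟩ := exists_fromSpecStalk hxd
        rw [← hx, hG] at hP
        refine Finset.mem_map.2 ⟨q, (finite_cycle α d).mem_toFinset.2 hP, hinjP ?_⟩
        exact (pt_comap_σ j d q).trans hx)
      (fun P hP => Finset.mem_singleton.2 (hinjP ((Set.mem_singleton_iff.1 (Set.mem_of_indicator_ne_zero hP)).trans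
        hVη.symm))),
    interProd_eq_sum (δ := δ) (r := r) (s := δ (pr X η)) ⇑α _ d (by omega) S {v} (fun q hq => hSr hq)
      (fun q hq => by rw [Finset.mem_singleton.1 hq, hv])
      (fun q hq => (finite_cycle α d).mem_toFinset.2 hq)
      (fun q hq => Finset.mem_singleton.2 (hinjX ((Set.mem_singleton_iff.1 (Set.mem_of_indicator_ne_zero hq)).trans
        hv.symm))),
    Finset.sum_map]
  refine Finset.sum_congr rfl fun q _ => ?_
  rw [Finset.sum_singleton, Finset.sum_singleton]
  show G ((PX X).fromSpecStalk _ (PrimeSpectrum.comap (σs j d) q)) * _ * chiQ (PrimeSpectrum.comap (σs j d) q) V = _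
  rw [pt_comap_σ, hG, hVη, hv, Set.indicator_of_mem (Set.mem_singleton _), Set.indicator_of_mem (Set.mem_singleton _),
    Pi.one_apply, Pi.one_apply]
  congr 1
  unfold chiQ
  let θ : X.presheaf.stalk d ⧸ q.asIdeal ≃+*
      (PX X).presheaf.stalk (P1.sect X j d) ⧸ (PrimeSpectrum.comap (σs j d) q).asIdeal :=
    ((Ideal.quotEquivOfEq (show RingHom.ker ((Ideal.Quotient.mk q.asIdeal).comp (σs j d)) =
        (PrimeSpectrum.comap (σs j d) q).asIdeal by rw [← RingHom.comap_ker, Ideal.mk_ker]; rfl)).symm.trans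
      (RingHom.quotientKerEquivOfSurjective (f := (Ideal.Quotient.mk q.asIdeal).comp (σs j d))
        (Ideal.Quotient.mk_surjective.comp (σ_surj j d)))).symm
  refine (chi_on_diag (φs j d) (σs j d) (σ_φ j d)
    (DiagRedLib.flat_specializes _ _ _ (pr_sect j d)) v.asIdeal _ _ θ.toAddEquiv (fun a x => ?_)
    (fun b hb y => ?_)).symm
  · obtain ⟨x, rfl⟩ := Ideal.Quotient.mk_surjective x
    have hθ : ∀ z, θ.symm (Ideal.Quotient.mk _ z) = Ideal.Quotient.mk q.asIdeal (σs j d z) := fun z => rfl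
    have hθ' : ∀ z, θ (Ideal.Quotient.mk q.asIdeal z) = Ideal.Quotient.mk _ (φs j d z) := fun z => by
      refine θ.symm.injective ?_
      rw [θ.symm_apply_apply, hθ, ← RingHom.comp_apply (σs j d), σ_φ, RingHom.id_apply]
    show θ (Ideal.Quotient.mk _ (a * x)) = φs j d a • θ (Ideal.Quotient.mk _ x)
    rw [hθ', hθ', map_mul]
    rfl
  · obtain ⟨y, rfl⟩ := Ideal.Quotient.mk_surjective y
    rw [Algebra.smul_def, Ideal.Quotient.algebraMap_eq, ← map_mul, Ideal.Quotient.eq_zero_iff_mem]
    refine Ideal.mul_mem_right _ _ ?_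
    show σs j d b ∈ q.asIdeal
    rw [RingHom.mem_ker.1 hb]
    exact q.asIdeal.zero_mem

end Groth.Agent.ChiCycLib
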